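import Cfsg.Agent.H76.OddT.Main
import Cfsg.Agent.Bridge.Bender
import Cfsg.Prelude.Def_RootSubgroups

/-!
Classes of odd transpositions: the statement of S5050, given `GoodHyp`.
-/

set_option autoImplicit false

namespace Cfsg.Agent.H76.OddT

open Subgroup

universe u

variable {G : Type u} [Group G] {D : Set G}

theorem sq_of_root (hD : Cfsg.IsRootInvolutionSet D) {s : G} (hs : s ∈ D) : s * s = 1 := by
  rw [← pow_two, ← hD.orderOf_eq s hs, pow_orderOf_eq_one]

/-- A class of odd transpositions with a product of two members in it is a set in our sense. -/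
theorem mem_of_class (hD : Cfsg.IsOddTranspositionSet D) (hcl : Cfsg.IsRootInvolutionClass D)
    (hDD : (D ∩ Cfsg.commutingProducts D).Nonempty) : Mem D where
  sq s hs := sq_of_root hD.1 hs
  ne_one s hs h := by
    have := hD.1.orderOf_eq s hs
    rw [h, orderOf_one] at this
    omega
  conj s hs t ht := by
    have h := hD.1.conj_mem t ht s
    rwa [inv_eq_of_mul_eq_one_left (sq_of_root hD.1 hs)] at h
  odd s hs t ht := by
    rcases hD.1.pair s hs t ht with h | h | h
    · exact Or.inl h
    · exact Or.inr h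
    · exact absurd h.1 (hD.2 s hs t ht)
  partner s hs := by
    obtain ⟨z, hz, a, ha, b, hb, hab, hne, rfl⟩ := hDD
    obtain ⟨g, rfl⟩ := hcl.2.2 b hb s hs
    refine ⟨g * a * g⁻¹, hD.1.conj_mem a ha g, fun h => hne ?_, ?_, ?_⟩
    · rw [mul_left_cancel (mul_right_cancel h)]; exact sq_of_root hD.1 hb
    · exact (Commute.conj_iff g).mpr hab
    · rw [show g * a * g⁻¹ * (g * b * g⁻¹) = g * (a * b) * g⁻¹ by group]
      exact hD.1.conj_mem _ hz g

theorem not_commute_of_oddPartner (hS : Mem D) {d x : G} (hd : d ∈ D) (hx : x ∈ Cfsg.oddPartners D d) :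
    ¬ Commute d x := fun h => hx.2.1 (hS.eq_of_commute_of_odd hd hx.1 h hx.2.2).symm

/-- The non-commuting graph of a generating class with a noncommuting pair is connected. -/
theorem conn_of_class [Finite G] (hS : Mem D) (hcl : Cfsg.IsRootInvolutionClass D) {d x : G} (hd : d ∈ D)
    (hx : x ∈ D) (hdx : ¬ Commute d x) : Conn D := by
  have hM := hS.comp hd hx hdx
  suffices hall : ∀ s ∈ D, Reach D d s from fun s hs t ht => reach_trans (reach_symm (hall s hs)) (hall t ht)
  have hclosed : ∀ g ∈ closure D, ∀ t ∈ OddT.comp D d, g * t * g⁻¹ ∈ OddT.comp D d := by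
    intro g hg
    induction hg using closure_induction with
    | mem s hs =>
      intro t ht
      by_cases hsM : s ∈ OddT.comp D d
      · exact hM.conj_mem_closure (subset_closure hsM) ht
      · rwa [(commute_of_not_reach hs ht.1 fun e => hsM ⟨hs, reach_trans ht.2 (reach_symm e)⟩).eq,
          mul_inv_cancel_right]
    | one => intro t ht; simpa using ht
    | mul g g' _ _ ih ih' =>
      intro t ht
      rw [show g * g' * t * (g * g')⁻¹ = g * (g' * t * g'⁻¹) * g⁻¹ by group]
      exact ih _ (ih' t ht)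
    | inv g _ ih => intro t ht; rw [inv_inv]; exact mem_of_conj_closed ih ht
  intro s hs
  obtain ⟨g, rfl⟩ := hcl.2.2 d hd s hs
  exact (hclosed g (hcl.1.generates ▸ mem_top g) d ⟨hd, Relation.ReflTransGen.refl⟩).2

/-- The statement of S5050. -/
theorem common_neighbour [Finite G] (hGood : H3.RootInv.GoodHyp.{u}) (hD : Cfsg.IsOddTranspositionSet D)
    (hcl : Cfsg.IsRootInvolutionClass D) (hc : Cfsg.IsConnectedSet (Cfsg.CommAdj D) D)
    (hDD : (D ∩ Cfsg.commutingProducts D).Nonempty) {d x : G} (hd : d ∈ D) (hx : x ∈ Cfsg.oddPartners D d) :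
    ∃ e ∈ D, e * d = d * e ∧ e * x = x * e := by
  have hS := mem_of_class hD hcl hDD
  have hdx := not_commute_of_oddPartner hS hd hx
  have hconn := conn_of_class hS hcl hd hx.1 hdx
  have hcomp : OddT.comp D d = D := Set.ext fun s => ⟨fun h => h.1, fun h => ⟨h, hconn d hd s h⟩⟩
  obtain ⟨e, he, hed, hex⟩ := (pr_and_cn hGood Bridge.bender D hS).2 d hd x hx.1 hdx (by rw [hcomp]; exact hc)
  exact ⟨e, he.1, hed.eq, hex.eq⟩

end Cfsg.Agent.H76.OddT
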