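import Cfsg.Agent.H76.OddT.Sets
import Cfsg.Agent.H10.AbTwo.Sylow

/-!
Lines with Sylow 2-subgroups of exponent two, and their detection through homomorphisms.
-/

set_option autoImplicit false
set_option linter.style.haveILetI false

namespace Cfsg.Agent.H76.OddT

open Subgroup MulAction

universe u

variable {G : Type u} [Group G] [Finite G]

/-- The 2-elements of the group of a set square to the 2-Z-core. -/
def Abel (C : Set G) : Prop := ∀ k : ↥(closure C), (∃ n : ℕ, k ^ 2 ^ n = 1) → proj C (k * k) = 1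

omit [Finite G] in
theorem commute_of_sq_eq_one {H : Type u} [Group H] {a b : H} {n : ℕ} (ha : a * a = 1) (hb : b * b = 1)
    (hn : Odd n) (h : (a * b) ^ n = 1) {i : ℕ} (h2 : (a * b * (a * b)) ^ 2 ^ i = 1) : Commute a b := by
  have h3 : (a * b) ^ 2 ^ (i + 1) = 1 := by rw [pow_succ', pow_mul, pow_two, h2]
  have h4 : orderOf (a * b) = 1 :=
    (((Nat.coprime_two_right.mpr hn).pow_right (i + 1)).coprime_dvd_left
      (orderOf_dvd_of_pow_eq_one h)).eq_one_of_dvd (orderOf_dvd_of_pow_eq_one h3)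
  rw [orderOf_eq_one_iff] at h4
  rw [(eq_inv_of_mul_eq_one_left h4).trans (inv_eq_of_mul_eq_one_left hb)]

theorem orderOf_half {H : Type u} [Group H] {m : H} {n : ℕ} (h : m ^ 2 ^ n = 1) (hm : m ≠ 1) :
    m ^ (orderOf m / 2) ≠ 1 ∧ m ^ (orderOf m / 2) * m ^ (orderOf m / 2) = 1 := by
  obtain ⟨i, -, hi⟩ := (Nat.dvd_prime_pow Nat.prime_two).mp (orderOf_dvd_of_pow_eq_one h)
  have h2 : 2 ∣ orderOf m := hi ▸ dvd_pow_self 2 fun h => hm (orderOf_eq_one_iff.mp (by rw [hi, h, pow_zero]))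
  have hpos : 0 < orderOf m := hi ▸ pow_pos (by norm_num) i
  have ho := orderOf_pow_orderOf_div hpos.ne' h2
  refine ⟨fun h => ?_, ?_⟩
  · rw [h, orderOf_one] at ho; omega
  · have := pow_orderOf_eq_one (m ^ (orderOf m / 2))
    rwa [ho, pow_two] at this

/-- Exponent two is detected by a homomorphism keeping a noncommuting member for each member. -/
theorem Abel.of_hom {C : Set G} (hC : Mem C) (L : IsLine (proj C) ((Subtype.val : ↥(closure C) → G) ⁻¹' C))
    {H : Type u} [Group H] (ρ : ↥(closure C) →* H)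
    (hne : ∀ e, ∀ he : e ∈ C, ∃ y, ∃ hy : y ∈ C, ¬ Commute (ρ (el he)) (ρ (el hy)))
    (hsq : ∀ k : ↥(closure C), (∃ n : ℕ, k ^ 2 ^ n = 1) → ρ k * ρ k = 1) : Abel C := by
  intro k hk
  by_contra hk1
  obtain ⟨n, hn⟩ := hk
  set m := proj C (k * k)
  have hm : m ^ 2 ^ n = 1 := by
    rw [← map_pow, (Commute.refl k).mul_pow, hn, one_mul, map_one]
  obtain ⟨hi1, hi2⟩ := orderOf_half hm hk1
  set i := orderOf m / 2
  obtain ⟨⟨e, he'⟩, he, hev⟩ := L.invol _ hi1 hi2
  change e ∈ C at he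
  change proj C (el he) = _ at hev
  have hz : (el he)⁻¹ * (k * k) ^ i ∈ Cfsg.twoZCore ↥(closure C) :=
    QuotientGroup.eq.mp (show proj C (el he) = proj C ((k * k) ^ i) by rw [hev, map_pow])
  obtain ⟨y, hy, hey⟩ := hne e he
  have hρe : ρ (el he) * ρ (el he) = 1 := by
    rw [← map_mul, show el he * el he = 1 from Subtype.ext (hC.sq e he), map_one]
  have hρy : ρ (el hy) * ρ (el hy) = 1 := by
    rw [← map_mul, show el hy * el hy = 1 from Subtype.ext (hC.sq y hy), map_one]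
  have hρz : ρ ((el he)⁻¹ * (k * k) ^ i) = ρ (el he) := by
    rw [map_mul, map_inv, map_pow, map_mul, hsq k ⟨n, hn⟩, one_pow, mul_one, inv_eq_of_mul_eq_one_left hρe]
  set z := (el he)⁻¹ * (k * k) ^ i
  have hc := mem_center_iff.mp hz (QuotientGroup.mk' (Cfsg.pCore 2 ↥(closure C)) (el hy))
  have h1 : z * el hy * z⁻¹ * (el hy)⁻¹ ∈ Cfsg.pCore 2 ↥(closure C) := by
    refine (QuotientGroup.eq_one_iff _).mp ?_
    show QuotientGroup.mk' (Cfsg.pCore 2 ↥(closure C)) (z * el hy * z⁻¹ * (el hy)⁻¹) = 1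
    rw [map_mul, map_mul, map_mul, map_inv, map_inv, ← hc]
    group
  obtain ⟨j, hj⟩ := Cores.pCore_isPGroup (p := 2) ⟨_, h1⟩
  refine hey (commute_of_sq_eq_one hρe hρy (n := orderOf (e * y)) (i := j) ?_ ?_ ?_)
  · refine hC.odd_of_not_commute he hy fun h => hey ?_
    exact (show Commute (el he) (el hy) from Subtype.ext h.eq).map ρ
  · rw [← map_mul, ← map_pow, show (el he * el hy) ^ orderOf (e * y) = 1 from
      Subtype.ext (by simp [el_coe, pow_orderOf_eq_one]), map_one]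
  · have h2 := congrArg (fun w : Cfsg.pCore 2 ↥(closure C) => ρ (w : ↥(closure C))) hj
    simp only [SubmonoidClass.coe_pow, OneMemClass.coe_one, map_pow, map_one] at h2
    rw [map_mul, map_mul, map_mul, map_inv, map_inv, hρz, inv_eq_of_mul_eq_one_left hρe,
      inv_eq_of_mul_eq_one_left hρy, mul_assoc (ρ (el he) * ρ (el hy))] at h2
    exact h2

/-- `L₂(2ⁿ)` has Sylow 2-subgroups of exponent two. -/
theorem sq_of_psl {Q : Type u} [Group Q] {F : Type} [Field F] [Fintype F] [CharP F 2]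
    (e : Q ≃* Matrix.ProjectiveSpecialLinearGroup (Fin 2) F) {z : Q} {n : ℕ} (h : z ^ 2 ^ n = 1) :
    z * z = 1 := by
  obtain ⟨e'⟩ := PostBender.nonempty_equiv_sl_two e
  refine e'.injective (Subtype.ext ?_)
  rw [map_mul, map_one]
  set M : Matrix (Fin 2) (Fin 2) F := (e' z : Matrix.SpecialLinearGroup (Fin 2) F).val
  have hM : M ^ 2 ^ n = 1 := by
    have := congrArg (fun w => (e' w : Matrix.SpecialLinearGroup (Fin 2) F).val) h
    simpa [M] using this
  show M * M = 1
  haveI : CharP (Matrix (Fin 2) (Fin 2) F) 2 := inferInstance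
  have hnil : (M - 1) ^ 2 ^ n = 0 := by
    rw [sub_pow_char_pow_of_commute (p := 2) (h := Commute.one_right M), one_pow, hM, sub_self]
  have h2 : (M - 1) ^ 2 = 0 := by
    have h5 : (M - 1).charpoly = Polynomial.X ^ Fintype.card (Fin 2) :=
      sub_eq_zero.mp (Matrix.isNilpotent_charpoly_sub_pow_of_isNilpotent ⟨_, hnil⟩).eq_zero
    have h4 := Matrix.aeval_self_charpoly (M - 1)
    rw [h5] at h4
    simpa using h4
  rw [sub_pow_char_of_commute (p := 2) (h := Commute.one_right M), one_pow, sub_eq_zero, pow_two] at h2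
  exact h2

end Cfsg.Agent.H76.OddT
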