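import Cfsg.Agent.H76.OddT.Bottom

/-!
In a flat component every member commuting with a second one is congruent to a member of its class.
-/

set_option autoImplicit false
set_option linter.style.haveILetI false

namespace Cfsg.Agent.H76.OddT

open Subgroup MulAction

universe u

variable {G : Type u} [Group G] [Finite G] {S M : Set G} {a b : G}

omit [Finite G] in
theorem Flat.subset (F : Flat S a b M) {z : G} (hz : z ∈ M) : z ∈ Cent S a :=
  (F.eq ▸ hz : z ∈ OddT.comp (Cent S a) b).1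

omit [Finite G] in
theorem Flat.of_not_commute (F : Flat S a b M) {p z : G} (hp : p ∈ M) (hz : z ∈ Cent S a) (h : ¬ Commute p z) :
    z ∈ M := by
  have hbp : Reach (Cent S a) b p := (F.eq ▸ hp : p ∈ OddT.comp (Cent S a) b).2
  rw [F.eq]
  exact ⟨hz, reach_trans hbp (reach_of_not_commute (F.subset hp) hz h)⟩

omit [Finite G] in
theorem Flat.cls_mem (F : Flat S a b M) (ha : a ∈ S) {u p : G} (hu : u ∈ M) (hp : p ∈ M)
    (hup : ¬ Commute u p) {e : G} (he : e ∈ cls S u) : e ∈ M :=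
  F.of_not_commute hp ⟨he.1, (commute_of_cls he ha (F.subset hu).2.symm).symm⟩
    fun h => hup ((commute_iff_of_cls he (F.subset hp).1).mp h).symm

variable (hGood : H3.RootInv.GoodHyp.{u}) (hBend : PostBender.BenderHyp.{u})
include hGood hBend

theorem Flat.move (F : Flat S a b M) (hS : Mem S) (hconn : Conn S) (hB : Below S) (ha : a ∈ S) {u y c : G}
    (hu : u ∈ M) (hy : y ∈ M) (huy : ¬ Commute u y) (hc : c ∈ M) (hcu : Commute c u) :
    ∃ q ∈ core M, q * c * q⁻¹ ∈ cls S u := by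
  have L := F.mem.isLine hGood hBend F.not_linked
  have hMS : ∀ {z : G}, z ∈ M → z ∈ S := fun hz => (F.subset hz).1
  have hsq : ∀ {z : G} (hz : z ∈ M), proj M (el hz) * proj M (el hz) = 1 := fun {z} hz => by
    rw [← map_mul, show el hz * el hz = 1 from Subtype.ext (F.mem.sq z hz), map_one]
  obtain ⟨Su, hSu⟩ := exists_point (hsq hu)
  obtain ⟨Sy, hSy⟩ := exists_point (hsq hy)
  have hIu : proj M (el hu) ∈ invols Su := ⟨L.ne_one _ hu, hsq hu, hSu⟩
  have hIy : proj M (el hy) ∈ invols Sy := ⟨L.ne_one _ hy, hsq hy, hSy⟩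
  have hcomm : ∀ {p z : G} (hp : p ∈ M) (hz : z ∈ M),
      Commute (proj M (el hp)) (proj M (el hz)) ↔ Commute p z := fun {p z} hp hz =>
    (L.commute_iff (el hp) hp (el hz) hz).trans
      ⟨fun e => congrArg Subtype.val e.eq, fun e => Subtype.ext e.eq⟩
  have hne : Sy ≠ Su := fun e =>
    huy ((hcomm hu hy).mp ((L.pts.commute_iff hIu hIy.1 hIy.2.1).mpr (e ▸ hSy)))
  have hny : ∀ {v : G}, v ∈ M → Commute v u → ¬ Commute v y := fun {v} hv hvu e =>
    huy (F.mem.commute_trans hGood hBend F.not_linked hu hv hy hvu.symm e)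
  have hsub : ∀ {v : G} (hv : v ∈ M), Commute v u → ∃ x' ∈ (Su : Subgroup (LQ M)),
      x' • Sy = proj M (el hy) • Su ∧ ∃ e, ∃ he : e ∈ M, e ∈ cls S v ∧
        proj M (el he) = x' ^ (orderOf x' / 2) := by
    intro v hv hvu
    have wu : Wit S v y a :=
      ⟨hMS hv, hMS hy, ha, hny hv hvu, (F.subset hv).2.symm, (F.subset hy).2.symm⟩
    obtain ⟨a2, wa2, ha2⟩ := wu.second hGood hBend hS hconn hB
    have hgenM : gen S v y ≤ closure M := (closure_le _).mpr (by
      rintro z (hz | rfl)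
      · exact subset_closure (F.cls_mem ha hv hy (hny hv hvu) hz)
      · exact subset_closure hy)
    have hCM : orb S v y ⊆ M := by
      rintro _ ⟨g, hg, z, hz, rfl⟩
      exact F.mem.conj_mem_closure (hgenM hg) (F.cls_mem ha hv hy (hny hv hvu) hz)
    have hC := hS.orb_mem wu.ha wu.hx wu.hax
    obtain ⟨x', hx', -, hxd, e, he, heu, hee⟩ := sub_invol F.mem L hC hCM
      (hC.isLine hGood hBend (wu.orb_not_linked hS hconn hB)) (cls_subset_orb (self_mem_cls wu.ha))
      (hS.mem_orb wu.ha wu.hx wu.hax) wu.hax (Su := Su) (Sy := Sy)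
      ((L.pts.commute_iff hIu (L.ne_one _ hv) (hsq hv)).mp ((hcomm hu hv).mpr hvu.symm)) hSy
    exact ⟨x', hx', hxd, e, hCM he, wu.full hS hconn hB wa2 (fun e => ha2 e.symm) he heu, hee⟩
  obtain ⟨xb, hxb, hxbd, eb, hebM, heb, hebe⟩ := hsub hu (Commute.refl u)
  obtain ⟨xc, hxc, hxcd, ec, hecM, hec, hece⟩ := hsub hc hcu
  rw [L.pts.eq_of_smul_eq hne hxc hxb (hxcd.trans hxbd.symm), ← hebe] at hece
  have hecy : ¬ Commute ec y := fun e =>
    hny hc hcu ((commute_iff_of_cls hec (hMS hy)).mp e.symm).symm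
  obtain ⟨q, hq, hqe⟩ := F.mem.cong_conj_exists hecM hebM hy hecy (cong_of_proj (L := L) hecM hebM hece)
  refine ⟨q, hq, ?_⟩
  have hqS : q ∈ closure S := closure_mono (fun z hz => hMS hz) (core_le hq)
  have h1 := hS.cls_conj hqS (show c ∈ cls S ec from ⟨hMS hc, hec.2.symm⟩)
  rw [hqe] at h1
  exact ⟨h1.1, h1.2.trans heb.2⟩

/-- The involutions of the point of a member come from its class. -/
theorem Flat.invols_cls (F : Flat S a b M) (hS : Mem S) (hconn : Conn S) (hB : Below S) (ha : a ∈ S) {u y : G}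
    (hu : u ∈ M) (hy : y ∈ M) (huy : ¬ Commute u y) {P : Sylow 2 (LQ M)} (hP : proj M (el hu) • P = P)
    {v : LQ M} (hv : v ∈ invols P) : ∃ e, ∃ he : e ∈ M, e ∈ cls S u ∧ proj M (el he) = v := by
  have L := F.mem.isLine hGood hBend F.not_linked
  have hu2 : proj M (el hu) * proj M (el hu) = 1 := by
    rw [← map_mul, show el hu * el hu = 1 from Subtype.ext (F.mem.sq u hu), map_one]
  have hIu : proj M (el hu) ∈ invols P := ⟨L.ne_one _ hu, hu2, hP⟩
  obtain ⟨⟨c, hc'⟩, hc, rfl⟩ := L.invol v hv.1 hv.2.1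
  change c ∈ M at hc
  have hcu : Commute c u := congrArg Subtype.val ((L.commute_iff (el hc) hc (el hu) hu).mp
    ((L.pts.commute_iff hv hIu.1 hu2).mpr hP)).eq
  obtain ⟨q, hq, hqc⟩ := F.move hGood hBend hS hconn hB ha hu hy huy hc hcu
  have hm : q * c * q⁻¹ ∈ M := F.mem.conj_mem_closure (core_le hq) hc
  refine ⟨_, hm, hqc, ?_⟩
  show proj M (⟨q, core_le hq⟩ * el hc * (⟨q, core_le hq⟩ : ↥(closure M))⁻¹) = proj M (el hc)
  rw [map_mul, map_mul, map_inv, proj_core hq]
  group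

end Cfsg.Agent.H76.OddT
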