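import Cfsg.Agent.H76.OddT.Values

/-!
With trivial 2-core the class of a member and 1 form a group, which is the involution set of a point in each of
its lines.
-/

set_option autoImplicit false
set_option linter.style.haveILetI false

namespace Cfsg.Agent.H76.OddT

open Subgroup MulAction

universe u

variable {G : Type u} [Group G] [Finite G] {S : Set G}

/-- A connected linked set with trivial 2-core. -/
structure Big (S : Set G) : Prop where
  mem : Mem S
  conn : Conn S
  linked : Linked S
  core_eq : core S = ⊥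

omit [Finite G] in
theorem Conn.comp_eq (h : Conn S) {u : G} (hu : u ∈ S) : OddT.comp S u = S :=
  Set.ext fun s => ⟨fun hs => hs.1, fun hs => ⟨hs, h u hu s hs⟩⟩

variable (hGood : H3.RootInv.GoodHyp.{u}) (hBend : PostBender.BenderHyp.{u})
include hGood hBend

theorem below_all (S : Set G) : Below S := fun S' hS' _ => pr_and_cn hGood hBend S' hS'

theorem Mem.exists_wit (hS : Mem S) (hconn : Conn S) (hl : Linked S) {d x : G} (hd : d ∈ S) (hx : x ∈ S)
    (hdx : ¬ Commute d x) : ∃ b, Wit S d x b := by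
  obtain ⟨b, hb, hbd, hbx⟩ :=
    cn_of_conn hGood hBend hS hconn (below_all hGood hBend S) d hd x hx hdx (by rw [hconn.comp_eq hd]; exact hl)
  exact ⟨b, hd, hx, hb.1, hdx, hbd, hbx⟩

theorem Mem.exists_wit_pair (hS : Mem S) (hconn : Conn S) (hl : Linked S) {d x : G} (hd : d ∈ S) (hx : x ∈ S)
    (hdx : ¬ Commute d x) : ∃ b₁ b₂, Wit S d x b₁ ∧ Wit S d x b₂ ∧ ¬ Commute b₁ b₂ := by
  obtain ⟨b, w⟩ := hS.exists_wit hGood hBend hconn hl hd hx hdx
  obtain ⟨z, wz, hz⟩ := w.second hGood hBend hS hconn (below_all hGood hBend S)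
  exact ⟨z, b, wz, w, hz⟩

theorem Mem.orb_line (hS : Mem S) (hconn : Conn S) (hl : Linked S) {d x : G} (hd : d ∈ S) (hx : x ∈ S)
    (hdx : ¬ Commute d x) : IsLine (proj (orb S d x)) ((Subtype.val : ↥(closure (orb S d x)) → G) ⁻¹' orb S d x) := by
  obtain ⟨b, w⟩ := hS.exists_wit hGood hBend hconn hl hd hx hdx
  exact (hS.orb_mem hd hx hdx).isLine hGood hBend (w.orb_not_linked hS hconn (below_all hGood hBend S))

omit hGood hBend in
omit [Finite G] in
theorem clsGroup_le_orb {d x : G} : closure (cls S d) ≤ closure (orb S d x) := closure_mono cls_subset_orb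

/-- A line is faithful on the group of a class. -/
theorem Big.sep (B : Big S) {d x : G} (hd : d ∈ S) (hx : x ∈ S) (hdx : ¬ Commute d x) {u : G}
    (hu : u ∈ closure (cls S d)) (h : proj (orb S d x) ⟨u, clsGroup_le_orb hu⟩ = 1) : u = 1 := by
  have hC := B.mem.orb_mem hd hx hdx
  have L := B.mem.orb_line hGood hBend B.conn B.linked hd hx hdx
  have hxo := B.mem.mem_orb hd hx hdx
  have hx' : u * x * u⁻¹ ∈ orb S d x := hC.conj_mem_closure (clsGroup_le_orb hu) hxo
  refine eq_one_of_fix hGood hBend B.mem B.conn B.linked B.core_eq hd hx hdx hu ?_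
  refine congrArg Subtype.val ((L.commute_iff (el hx') hx' (el hxo) hxo).mp ?_).eq
  rw [show el hx' = ⟨u, clsGroup_le_orb hu⟩ * el hxo * ⟨u, clsGroup_le_orb hu⟩⁻¹ from Subtype.ext rfl,
    map_mul, map_mul, map_inv, h, one_mul, inv_one, mul_one]

/-- The nontrivial elements of the group of a class are in the class; it is the involution set of a point. -/
theorem Big.point (B : Big S) {d x : G} (hd : d ∈ S) (hx : x ∈ S) (hdx : ¬ Commute d x)
    {P : Sylow 2 (LQ (orb S d x))} (hP : proj (orb S d x) (el (cls_subset_orb (self_mem_cls hd))) • P = P) :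
    (∀ u ∈ closure (cls S d), u ≠ 1 → u ∈ cls S d) ∧
      ∀ v, v ∈ invols P ↔ ∃ e, ∃ he : e ∈ cls S d, proj (orb S d x) (el (cls_subset_orb he)) = v := by
  obtain ⟨b₁, b₂, w₁, w₂, hb⟩ := B.mem.exists_wit_pair hGood hBend B.conn B.linked hd hx hdx
  have L := B.mem.orb_line hGood hBend B.conn B.linked hd hx hdx
  have hC := B.mem.orb_mem hd hx hdx
  have hdo : d ∈ orb S d x := cls_subset_orb (self_mem_cls hd)
  set π := proj (orb S d x)
  have hsq : ∀ {z : G} (hz : z ∈ orb S d x), π (el hz) * π (el hz) = 1 := fun {z} hz => by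
    rw [← map_mul, show el hz * el hz = 1 from Subtype.ext (hC.sq z hz), map_one]
  have hId : π (el hdo) ∈ invols P := ⟨L.ne_one _ hdo, hsq hdo, hP⟩
  have hmem : ∀ {v : LQ (orb S d x)}, v ≠ 1 → v * v = 1 → Commute v (π (el hdo)) →
      ∃ e, ∃ he : e ∈ cls S d, π (el (cls_subset_orb he)) = v := by
    intro v hv1 hv2 hvd
    obtain ⟨⟨e, he'⟩, he, hev⟩ := L.invol v hv1 hv2
    change e ∈ orb S d x at he
    change π (el he) = v at hev
    have hed : Commute e d :=
      congrArg Subtype.val ((L.commute_iff (el he) he (el hdo) hdo).mp (by rw [hev]; exact hvd)).eq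
    exact ⟨e, w₁.full B.mem B.conn (below_all hGood hBend S) w₂ hb he hed, hev⟩
  refine ⟨fun u hu hu1 => ?_, fun v => ⟨fun hv => hmem hv.1 hv.2.1
    ((L.pts.commute_iff hv hId.1 hId.2.1).mpr hP), ?_⟩⟩
  · obtain ⟨hu2, hucls⟩ := clsGroup_sq B.mem hd hu
    set u' : ↥(closure (orb S d x)) := ⟨u, clsGroup_le_orb hu⟩
    have hu1' : π u' ≠ 1 := fun h => hu1 (B.sep hGood hBend hd hx hdx hu h)
    obtain ⟨e, he, hev⟩ := hmem hu1' (by rw [← map_mul, show u' * u' = 1 from Subtype.ext hu2, map_one])
      ((show Commute u' (el hdo) from Subtype.ext (hucls d (self_mem_cls hd)).eq).map π)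
    have h := B.sep hGood hBend hd hx hdx (mul_mem (subset_closure he) hu) (by
      rw [show (⟨e * u, clsGroup_le_orb (mul_mem (subset_closure he) hu)⟩ : ↥(closure (orb S d x))) =
        el (cls_subset_orb he) * u' from rfl, map_mul, hev, ← map_mul, show u' * u' = 1 from Subtype.ext hu2,
        map_one])
    rwa [eq_inv_of_mul_eq_one_right h, B.mem.inv_eq he.1]
  · rintro ⟨e, he, rfl⟩
    refine ⟨L.ne_one _ (cls_subset_orb he), hsq _, ?_⟩
    refine (L.pts.commute_iff hId (L.ne_one _ (cls_subset_orb he)) (hsq _)).mp ?_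
    exact (L.commute_iff (el hdo) hdo (el (cls_subset_orb he)) (cls_subset_orb he)).mpr
      (Subtype.ext (commute_of_cls he hd (Commute.refl d)).eq)

/-- The class and 1 form a group. -/
theorem Big.closure_cls (B : Big S) {d : G} (hd : d ∈ S) {x : G} (hx : x ∈ S) (hdx : ¬ Commute d x) {u : G}
    (hu : u ∈ closure (cls S d)) (hu1 : u ≠ 1) : u ∈ cls S d := by
  have hdo : d ∈ orb S d x := cls_subset_orb (self_mem_cls hd)
  obtain ⟨P, hP⟩ := exists_point (x := proj (orb S d x) (el hdo)) (by
    rw [← map_mul, show el hdo * el hdo = 1 from Subtype.ext (B.mem.sq d hd), map_one])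
  exact (B.point hGood hBend hd hx hdx hP).1 u hu hu1

/-- The image of the class is injective. -/
theorem Big.proj_inj (B : Big S) {d x : G} (hd : d ∈ S) (hx : x ∈ S) (hdx : ¬ Commute d x) {e e' : G}
    (he : e ∈ cls S d) (he' : e' ∈ cls S d)
    (h : proj (orb S d x) (el (cls_subset_orb he)) = proj (orb S d x) (el (cls_subset_orb he'))) : e = e' := by
  have h1 := B.sep hGood hBend hd hx hdx (mul_mem (subset_closure he) (subset_closure he')) (by
    rw [show (⟨e * e', clsGroup_le_orb (mul_mem (subset_closure he) (subset_closure he'))⟩ :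
      ↥(closure (orb S d x))) = el (cls_subset_orb he) * el (cls_subset_orb he') from rfl, map_mul, h,
      ← map_mul, show el (cls_subset_orb he') * el (cls_subset_orb he') = 1 from Subtype.ext (B.mem.sq e' he'.1),
      map_one])
  exact (eq_inv_of_mul_eq_one_left h1).trans (B.mem.inv_eq he'.1)

end Cfsg.Agent.H76.OddT
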