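import Cfsg.Agent.H76.OddT.Pts
import Cfsg.Agent.H10.AbTwo.Sylow
import Cfsg.Agent.S0330
import Cfsg.Agent.S1121
import Cfsg.Agent.S1132
import Cfsg.Agent.S1137
import Cfsg.Agent.S1138
import Cfsg.Prelude.Def_Sz

/-!
The points of a Suzuki group: squares, generation by two points and one element of order four, and the
rigidity of automorphisms fixing the involutions of a point and a second point.
-/

set_option autoImplicit false
set_option linter.style.haveILetI false

namespace Cfsg.Agent.H76.OddT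

open Subgroup MulAction

universe u

/-- The points of a Suzuki group. -/
structure SzLine (Q : Type u) [Group Q] [Finite Q] : Prop where
  pts : Pts Q
  sq_mem : ∀ S : Sylow 2 Q, ∀ x ∈ (S : Subgroup Q), x * x ≠ 1 → x * x ∈ invols S
  card : ∀ S : Sylow 2 Q, Nat.card (S : Subgroup Q) = ((invols S).ncard + 1) ^ 2
  nonab : ∀ S : Sylow 2 Q, ¬ IsMulCommutative ↥(S : Subgroup Q)

variable {Q : Type u} [Group Q] [Finite Q]

/-- Suzuki groups. -/
theorem szLine_of_iso (P : Pts Q) (h : Cfsg.Lie.IsoSuzuki Q) : SzLine Q := by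
  haveI : Fact (Nat.Prime 2) := ⟨Nat.prime_two⟩
  have hna : ∀ S : Sylow 2 Q, ¬ IsMulCommutative ↥(S : Subgroup Q) := H10.AbTwo.sz_sylow_nonabelian h
  have key : ∀ S : Sylow 2 Q, (∀ x ∈ (S : Subgroup Q), x * x ≠ 1 → x * x ∈ invols S) ∧
      Nat.card (S : Subgroup Q) = ((invols S).ncard + 1) ^ 2 := by
    intro S
    haveI := P.faithfulSMul
    obtain ⟨t, ht, htS⟩ := P.exists_invol_move S
    obtain ⟨T⟩ := (Sylow.nonempty (p := 2) (G := (S : Subgroup Q)))
    have hT : (T : Subgroup (S : Subgroup Q)) = ⊤ := (T.is_maximal' (fun ⟨y, _⟩ => by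
      obtain ⟨k, hk⟩ := S.isPGroup' y
      exact ⟨k, Subtype.ext hk⟩) le_top).symm
    let e : (T : Subgroup (S : Subgroup Q)) ≃* (S : Subgroup Q) :=
      (MulEquiv.subgroupCongr hT).trans topEquiv
    rcases Cfsg.Agent.S1132.result (P.setup ht htS) P.two T with hab | hsz
    · exact absurd ⟨⟨fun a b => by
        have h := congrArg e (hab.1.comm (e.symm a) (e.symm b))
        rwa [map_mul, map_mul, e.apply_symm_apply, e.apply_symm_apply] at h⟩⟩ (hna S)
    obtain ⟨h37, h37'⟩ := Cfsg.Agent.S1137.result hsz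
    obtain ⟨h38, -, hcard, -⟩ := Cfsg.Agent.S1138.result hsz
    have hsq : ∀ x : (S : Subgroup Q), x * x * (x * x) = 1 := fun x => by
      have h := congrArg e (h37' _ (h38 (e.symm x)))
      rwa [map_mul, map_mul, map_one, e.apply_symm_apply] at h
    refine ⟨fun x hx hne => ⟨hne, congrArg Subtype.val (hsq ⟨x, hx⟩), smul_eq_of_mem (mul_mem hx hx)⟩, ?_⟩
    have hcen : Nat.card (center (T : Subgroup (S : Subgroup Q))) = (invols S).ncard + 1 := by
      have h1 : Nat.card (center (T : Subgroup (S : Subgroup Q))) = (insert (1 : Q) (invols S)).ncard := by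
        rw [← Nat.card_coe_set_eq]
        refine Nat.card_congr
          { toFun := fun z => ⟨(e z.1 : Q), ?_⟩
            invFun := fun y => ⟨e.symm ⟨y.1, ?_⟩, ?_⟩
            left_inv := fun z => Subtype.ext (e.symm_apply_apply z.1)
            right_inv := fun y => by
              apply Subtype.ext
              show (e (e.symm _) : Q) = _
              rw [e.apply_symm_apply] }
        · rcases eq_or_ne (z.1) 1 with h1 | h1
          · exact Or.inl (by rw [h1, map_one]; rfl)
          · refine Or.inr ⟨fun h2 => h1 (e.injective (by rw [map_one]; exact Subtype.ext h2)), ?_,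
              smul_eq_of_mem (e z.1).2⟩
            exact congrArg Subtype.val (show e z.1 * e z.1 = 1 by rw [← map_mul, h37' _ z.2, map_one])
        · rcases y.2 with h1 | h1
          · rw [show y.1 = 1 from h1]; exact one_mem _
          · exact mem_sylow_of_fixes h1.2.1 h1.2.2
        · rcases eq_or_ne (e.symm ⟨y.1, _⟩) 1 with h1 | h1
          · rw [h1]; exact one_mem _
          · refine ((h37 _).mp ⟨h1, ?_⟩).1
            rw [← map_mul]
            refine (congrArg e.symm (Subtype.ext ?_)).trans (map_one e.symm)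
            rcases y.2 with h2 | h2
            · show y.1 * y.1 = 1; rw [show y.1 = 1 from h2, one_mul]
            · exact h2.2.1
      rw [h1, Set.ncard_insert_of_notMem (fun h => h.1 rfl)]
    rw [← Nat.card_congr e.toEquiv, ← hcen]
    rcases hcard with hc | hc
    · exact hc
    · exfalso
      obtain ⟨F, i1, i2, m, hm, hF, ⟨e'⟩⟩ := h
      haveI : Suzuki.SzField F m := ⟨hF, hm⟩
      let ψ : Q ≃* Cfsg.Sz F m := e'.trans (Suzuki.lieEquiv m).symm
      let T' : Sylow 2 (Cfsg.Sz F m) := S.mapSurjective (f := ψ.toMonoidHom) ψ.surjective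
      obtain ⟨h1, -, -, h4⟩ := Cfsg.Agent.S0330.result hm hF T'
      let e2 : (T : Subgroup (S : Subgroup Q)) ≃* (T' : Subgroup (Cfsg.Sz F m)) :=
        e.trans ((S : Subgroup Q).equivMapOfInjective ψ.toMonoidHom ψ.injective)
      rw [← Nat.card_congr (Subgroup.centerCongr e2).toEquiv] at h4
      have h5 : Nat.card (T : Subgroup (S : Subgroup Q)) = Nat.card (T' : Subgroup (Cfsg.Sz F m)) :=
        Nat.card_congr e2.toEquiv
      rw [hc, h4, h1] at h5
      have h6 : 1 < 2 ^ (2 * m + 1) := Nat.one_lt_two_pow (by omega)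
      exact absurd (Nat.pow_right_injective h6 h5) (by decide)
  exact ⟨P, fun S => (key S).1, fun S => (key S).2, hna⟩

namespace SzLine

variable (L : SzLine Q)
include L

theorem invols_subset {S : Sylow 2 Q} {x : Q} (hx : x ∈ invols S) : x ∈ (S : Subgroup Q) :=
  mem_sylow_of_fixes hx.2.1 hx.2.2

/-- Elements with the same nontrivial square differ by a central element. -/
theorem fibre {S : Sylow 2 Q} {x y : Q} (hx : x ∈ (S : Subgroup Q)) (hy : y ∈ (S : Subgroup Q))
    (hx1 : x * x ≠ 1) (h : x * x = y * y) : x⁻¹ * y = 1 ∨ x⁻¹ * y ∈ invols S := by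
  classical
  haveI := Fintype.ofFinite Q
  obtain ⟨t, ht, htS⟩ := L.pts.exists_invol_move S
  obtain ⟨C, -, hC, htr, -⟩ := L.pts.torus ht htS
  set I := invols S with hI
  let P : Finset Q := Finset.univ.filter fun z => z ∈ (S : Subgroup Q)
  let fib : Q → Finset Q := fun v => P.filter fun z => z * z = v
  have hconst : ∀ v ∈ I, (fib v).card = (fib (x * x)).card := by
    intro v hv
    obtain ⟨c, hc, hcv⟩ := htr _ (L.sq_mem S x hx hx1) v hv
    have hcS := mem_normalizer_iff.mp (Sylow.smul_eq_iff_mem_normalizer.mp ((hC c).mp hc).1)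
    refine (Finset.card_bij (fun z _ => c * z * c⁻¹) ?_ (fun a _ b _ e => by simpa using e) ?_).symm
    · intro z hz
      simp only [fib, P, Finset.mem_filter, Finset.mem_univ, true_and] at hz ⊢
      refine ⟨(hcS z).mp hz.1, ?_⟩
      rw [← hcv, ← hz.2]; group
    · intro z hz
      simp only [fib, P, Finset.mem_filter, Finset.mem_univ, true_and] at hz
      refine ⟨c⁻¹ * z * c, ?_, by group⟩
      simp only [fib, P, Finset.mem_filter, Finset.mem_univ, true_and]
      refine ⟨(hcS _).mpr (by simpa [mul_assoc] using hz.1), ?_⟩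
      rw [show c⁻¹ * z * c * (c⁻¹ * z * c) = c⁻¹ * (z * z) * c by group, hz.2, ← hcv]; group
  have hsplit : P.card = (I.ncard + 1) + I.ncard * (fib (x * x)).card := by
    rw [← Finset.card_filter_add_card_filter_not (s := P) (fun z : Q => z * z = 1)]
    congr 1
    · rw [← Set.ncard_insert_of_notMem (show (1 : Q) ∉ I from fun h => h.1 rfl), Set.ncard_eq_toFinset_card']
      congr 1
      ext z
      simp only [P, Finset.mem_filter, Finset.mem_univ, true_and, Set.mem_toFinset, Set.mem_insert_iff]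
      refine ⟨fun hz => ?_, ?_⟩
      · rcases eq_or_ne z 1 with h | h
        · exact Or.inl h
        · exact Or.inr ⟨h, hz.2, smul_eq_of_mem hz.1⟩
      · rintro (rfl | hz)
        · exact ⟨one_mem _, one_mul 1⟩
        · exact ⟨L.invols_subset hz, hz.2.1⟩
    · rw [Finset.card_eq_sum_card_fiberwise (f := fun z : Q => z * z) (t := I.toFinset) (fun z hz => by
          rw [Finset.mem_coe, Finset.mem_filter] at hz
          rw [Finset.mem_coe, Set.mem_toFinset]
          exact L.sq_mem S z (Finset.mem_filter.mp hz.1).2 hz.2),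
        Finset.sum_const_nat (m := (fib (x * x)).card), ← Set.ncard_eq_toFinset_card']
      intro v hv
      rw [← hconst v (Set.mem_toFinset.mp hv)]
      congr 1
      ext z
      simp only [fib, Finset.mem_filter]
      exact ⟨fun h => ⟨h.1.1, h.2⟩, fun h => ⟨⟨h.1, fun e => (Set.mem_toFinset.mp hv).1 (h.2.symm.trans e)⟩, h.2⟩⟩
  have hP : P.card = (I.ncard + 1) ^ 2 := by
    rw [← L.card S, Nat.card_eq_fintype_card, Fintype.card_subtype]
  have hq : 0 < I.ncard := (Set.ncard_pos I.toFinite).mpr ⟨_, L.sq_mem S x hx hx1⟩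
  have hN : (fib (x * x)).card = I.ncard + 1 := by
    apply Nat.eq_of_mul_eq_mul_left hq
    have : (I.ncard + 1) ^ 2 = (I.ncard + 1) + I.ncard * (I.ncard + 1) := by ring
    omega
  let coset : Finset Q := (insert (1 : Q) I).toFinset.image fun z => x * z
  have hsub : coset ⊆ fib (x * x) := by
    intro w hw
    simp only [coset, Finset.mem_image, Set.mem_toFinset] at hw
    obtain ⟨z, hz, rfl⟩ := hw
    simp only [fib, P, Finset.mem_filter, Finset.mem_univ, true_and]
    rcases hz with rfl | hz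
    · simp [hx]
    · refine ⟨mul_mem hx (L.invols_subset hz), ?_⟩
      rw [mul_assoc x z, ← mul_assoc z x z, (L.pts.invols_central hz hx).eq, mul_assoc x z z, hz.2.1, mul_one]
  have hcard : coset.card = (fib (x * x)).card := by
    rw [hN, Finset.card_image_of_injective _ (mul_right_injective x), ← Set.ncard_eq_toFinset_card',
      Set.ncard_insert_of_notMem (fun h => h.1 rfl)]
  have hy' : y ∈ fib (x * x) := by
    simp only [fib, P, Finset.mem_filter, Finset.mem_univ, true_and]; exact ⟨hy, h.symm⟩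
  rw [← Finset.eq_of_subset_of_card_le hsub hcard.ge] at hy'
  simp only [coset, Finset.mem_image, Set.mem_toFinset] at hy'
  obtain ⟨z, hz, rfl⟩ := hy'
  rw [inv_mul_cancel_left]
  exact hz

/-- Two points and an element of order four of one of them generate. -/
theorem full {S R : Sylow 2 Q} (hRS : R ≠ S) {H : Subgroup Q} (hS : ∀ v ∈ invols S, v ∈ H)
    (hR : ∀ v ∈ invols R, v ∈ H) {y : Q} (hy : y ∈ (S : Subgroup Q)) (hy2 : y * y ≠ 1) (hyH : y ∈ H)
    (hgen : closure {v : Q | v * v = 1} = ⊤) : H = ⊤ := by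
  have hvy := L.sq_mem S y hy hy2
  obtain ⟨t0, ht0, ht0S⟩ := L.pts.exists_invol_move S
  -- exchanging involutions in `H`
  have hmid : ∀ v ∈ invols S, ∀ w ∈ invols R, ∃ m ∈ H, m * m = 1 ∧ m * v * m⁻¹ = w ∧ m • S = R := by
    intro v hv w hw
    obtain ⟨k, hk⟩ := (Cfsg.Agent.S1121.result (L.pts.setup ht0 ht0S)).1 v w hv.2.2 hv.1 hv.2.1
      (fun h => hRS (L.pts.point_unique hw h).symm) hw.1 hw.2.1
    have hinv : v * (v * w) * v⁻¹ = (v * w)⁻¹ := by
      rw [inv_eq_of_mul_eq_one_left hv.2.1, mul_inv_rev, inv_eq_of_mul_eq_one_left hv.2.1,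
        inv_eq_of_mul_eq_one_left hw.2.1, ← mul_assoc v v w, hv.2.1, one_mul]
    have hvk : v * (v * w) ^ k * v⁻¹ = ((v * w) ^ k)⁻¹ := by rw [← conj_pow, hinv, inv_pow]
    set m := (v * w) ^ k * v with hm
    have hm2 : m * m = 1 := by
      calc m * m = (v * w) ^ k * (v * (v * w) ^ k * v⁻¹) * (v * v) := by rw [hm]; group
        _ = 1 := by rw [hvk, hv.2.1, mul_inv_cancel, one_mul]
    have hmw : m * v * m⁻¹ = w := by
      rw [inv_eq_of_mul_eq_one_left hm2, hm, show (v * w) ^ k * v * v * ((v * w) ^ k * v) =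
        (v * w) ^ k * (v * v) * (v * w) ^ k * v by group, hv.2.1, mul_one, ← pow_add]
      have h4 : (v * w) ^ (k + k) * (v * w) = 1 := by rw [← pow_succ, ← two_mul, ← hk, pow_orderOf_eq_one]
      rw [eq_inv_of_mul_eq_one_left h4, mul_inv_rev, inv_eq_of_mul_eq_one_left hv.2.1,
        inv_eq_of_mul_eq_one_left hw.2.1, mul_assoc, hv.2.1, mul_one]
    refine ⟨m, mul_mem (pow_mem (mul_mem (hS v hv) (hR w hw)) k) (hS v hv), hm2, hmw, ?_⟩
    have h1 := invols_conj hv m
    rw [hmw] at h1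
    exact L.pts.point_unique hw h1.2.2
  obtain ⟨w, hw⟩ := L.pts.invols_nonempty R
  obtain ⟨t, htH, ht, htw, htS⟩ := hmid _ hvy w hw
  have hSH : ∀ x ∈ (S : Subgroup Q), x ∈ H := by
    intro x hx
    by_cases hx1 : x * x = 1
    · rcases eq_or_ne x 1 with rfl | h
      · exact one_mem _
      · exact hS x ⟨h, hx1, smul_eq_of_mem hx⟩
    obtain ⟨m, hmH, hm, hmw, hmS⟩ := hmid (x * x) (L.sq_mem S x hx hx1) w hw
    set c := t * m
    have hcH : c ∈ H := mul_mem htH hmH
    have hcS : c • S = S := by rw [mul_smul, hmS, ← htS, ← mul_smul, ht, one_smul]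
    have hcx : c * (x * x) * c⁻¹ = y * y := by
      rw [show c * (x * x) * c⁻¹ = t * (m * (x * x) * m⁻¹) * t⁻¹ by simp only [c]; group, hmw, ← htw,
        inv_eq_of_mul_eq_one_left ht, ← mul_assoc, ← mul_assoc, ht, one_mul, mul_assoc, ht, mul_one]
    have hx' : c⁻¹ * y * c ∈ (S : Subgroup Q) := by
      refine (mem_normalizer_iff.mp (Sylow.smul_eq_iff_mem_normalizer.mp hcS) _).mpr ?_
      simpa [mul_assoc] using hy
    have hsq : c⁻¹ * y * c * (c⁻¹ * y * c) = x * x := by
      rw [show c⁻¹ * y * c * (c⁻¹ * y * c) = c⁻¹ * (y * y) * c by group, ← hcx]; group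
    have hz := L.fibre hx' hx (by rw [hsq]; exact hx1) hsq
    rw [← mul_inv_cancel_left (c⁻¹ * y * c) x]
    refine mul_mem (mul_mem (mul_mem (inv_mem hcH) hyH) hcH) ?_
    rcases hz with h | h
    · rw [h]; exact one_mem _
    · exact hS _ h
  rw [eq_top_iff, ← hgen, closure_le]
  intro v hv
  rcases eq_or_ne v 1 with rfl | h1
  · exact one_mem _
  obtain ⟨T, hT⟩ := exists_point (show v * v = 1 from hv)
  by_cases hTS : T = S
  · exact hS v ⟨h1, hv, hTS ▸ hT⟩
  obtain ⟨x, hx, hxe⟩ := L.pts.trans S R T hRS hTS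
  have h2 := invols_conj (show v ∈ invols T from ⟨h1, hv, hT⟩) x⁻¹
  rw [← hxe, inv_smul_smul, inv_inv] at h2
  have h3 := mul_mem (mul_mem (hSH x hx) (hR _ h2)) (inv_mem (hSH x hx))
  simpa [mul_assoc] using h3

/-- An automorphism fixing the involutions of a point and another point fixes every point. -/
theorem rigid {S R : Sylow 2 Q} (hRS : R ≠ S) {ψ : MulAut Q} (hU : ∀ v ∈ invols S, ψ v = v)
    (hψS : ∀ x ∈ (S : Subgroup Q), ψ x ∈ (S : Subgroup Q))
    (hψR : ∀ x ∈ (R : Subgroup Q), ψ x ∈ (R : Subgroup Q)) {x : Q} (hx : x ∈ (S : Subgroup Q)) :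
    ψ x = x := by
  obtain ⟨t, ht, htR⟩ : ∃ t : Q, t * t = 1 ∧ t • S = R := by
    obtain ⟨s, hs⟩ := L.pts.invols_nonempty S
    obtain ⟨r, hr⟩ := L.pts.invols_nonempty R
    obtain ⟨t0, ht0, ht0S⟩ := L.pts.exists_invol_move S
    obtain ⟨z, hz, hze⟩ := L.pts.trans S (t0 • S) R ht0S hRS
    refine ⟨z * t0 * z⁻¹, ?_, ?_⟩
    · rw [show z * t0 * z⁻¹ * (z * t0 * z⁻¹) = z * (t0 * t0) * z⁻¹ by group, ht0]; group
    · rw [mul_smul, mul_smul, inv_smul_eq_iff.mpr (smul_eq_of_mem hz).symm, hze]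
  have htS : t • S ≠ S := htR ▸ hRS
  have hψ : ∀ g : Q, ∀ T : Sylow 2 Q, g • T = T → ∀ T' : Sylow 2 Q,
      (∀ z ∈ (T : Subgroup Q), ψ z ∈ (T' : Subgroup Q)) → ψ g • T' = T' := by
    intro g T hg T' hTT'
    have hmap : (T : Subgroup Q).map ψ.toMonoidHom = (T' : Subgroup Q) := by
      refine Subgroup.eq_of_le_of_card_ge ?_ ?_
      · rintro _ ⟨z, hz, rfl⟩; exact hTT' z hz
      · rw [Subgroup.card_map_of_injective ψ.injective, T.card_eq_multiplicity, T'.card_eq_multiplicity]
    refine Sylow.smul_eq_iff_mem_normalizer.mpr (mem_normalizer_iff.mpr fun z => ?_)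
    obtain ⟨z, rfl⟩ := ψ.surjective z
    have h1 : ∀ w, ψ w ∈ (T' : Subgroup Q) ↔ w ∈ (T : Subgroup Q) := fun w => by
      rw [← hmap]; exact Subgroup.mem_map_iff_mem ψ.injective
    rw [← map_inv, ← map_mul, ← map_mul, h1, h1]
    exact mem_normalizer_iff.mp (Sylow.smul_eq_iff_mem_normalizer.mp hg) z
  obtain ⟨C, -, hC, htr, hfree⟩ := L.pts.torus ht htS
  have hNS : ∀ {g : Q}, g • S = S → ∀ z : Q, z ∈ (S : Subgroup Q) ↔ g * z * g⁻¹ ∈ (S : Subgroup Q) :=
    fun hg => mem_normalizer_iff.mp (Sylow.smul_eq_iff_mem_normalizer.mp hg)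
  -- fixing both points and centralising the involutions of one
  have hD : ∀ d : Q, d • S = S → d • R = R → (∀ v ∈ invols S, d * v * d⁻¹ = v) → d = 1 := by
    intro d hdS hdR hdv
    have hodd : Odd (orderOf d) := by
      refine (L.pts.disjoint S R hRS).of_dvd_nat ?_
      rw [← Subgroup.orderOf_mk d (show d ∈ stabilizer Q S ⊓ stabilizer Q R from ⟨hdS, hdR⟩)]
      exact orderOf_dvd_natCard _
    have hcomm : ∀ z ∈ (S : Subgroup Q), d * z * d⁻¹ = z := by
      intro z hz
      by_cases hz1 : z * z = 1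
      · rcases eq_or_ne z 1 with rfl | h
        · group
        · exact hdv z ⟨h, hz1, smul_eq_of_mem hz⟩
      have hz' : d * z * d⁻¹ ∈ (S : Subgroup Q) := (hNS hdS z).mp hz
      have hsq : z * z = d * z * d⁻¹ * (d * z * d⁻¹) := by
        rw [show d * z * d⁻¹ * (d * z * d⁻¹) = d * (z * z) * d⁻¹ by group, hdv _ (L.sq_mem S z hz hz1)]
      set w := z⁻¹ * (d * z * d⁻¹) with hw
      rcases L.fibre hz hz' hz1 hsq with h | h
      · exact (inv_mul_eq_one.mp h).symm
      · have hdz : d * z * d⁻¹ = z * w := by rw [hw, mul_inv_cancel_left]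
        have hiter : ∀ i : ℕ, d ^ i * z * (d ^ i)⁻¹ = z * w ^ i := by
          intro i
          induction i with
          | zero => simp
          | succ i ih =>
            have hwi : d * w ^ i * d⁻¹ = w ^ i := by rw [← conj_pow, hdv w h]
            rw [pow_succ', show d * d ^ i * z * (d * d ^ i)⁻¹ = d * (d ^ i * z * (d ^ i)⁻¹) * d⁻¹ by group, ih,
              show d * (z * w ^ i) * d⁻¹ = d * z * d⁻¹ * (d * w ^ i * d⁻¹) by group, hwi, hdz, pow_succ',
              mul_assoc]
        have h1 := hiter (orderOf d)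
        rw [pow_orderOf_eq_one, one_mul, inv_one, mul_one, eq_comm, mul_eq_left] at h1
        obtain ⟨j, hj⟩ := hodd
        rw [hj, pow_succ, pow_mul, pow_two, h.2.1, one_pow, one_mul] at h1
        exact absurd h1 h.1
    refine L.pts.faithful d fun T => ?_
    by_cases hT : T = S
    · rw [hT, hdS]
    obtain ⟨z, hz, rfl⟩ := L.pts.trans S R T hRS hT
    rw [← mul_smul, show d * z = d * z * d⁻¹ * d by group, hcomm z hz, mul_smul, hdR]
  -- the torus is fixed
  have hψC : ∀ c ∈ C, ψ c = c := by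
    intro c hc
    obtain ⟨hcS, hcR, -⟩ := (hC c).mp hc
    rw [htR] at hcR
    have h1 : ψ c • S = S := hψ c S hcS S hψS
    have h2 : ψ c • R = R := hψ c R hcR R hψR
    refine (inv_mul_eq_one.mp (hD (c⁻¹ * ψ c) ?_ ?_ fun v hv => ?_)).symm
    · rw [mul_smul, h1]; exact inv_smul_eq_iff.mpr hcS.symm
    · rw [mul_smul, h2]; exact inv_smul_eq_iff.mpr hcR.symm
    · have hv' : c * v * c⁻¹ ∈ invols S := hcS ▸ invols_conj hv c
      have h3 : ψ c * v * (ψ c)⁻¹ = c * v * c⁻¹ := by
        conv_lhs => rw [← hU v hv, ← map_inv, ← map_mul, ← map_mul]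
        exact hU _ hv'
      rw [show c⁻¹ * ψ c * v * (c⁻¹ * ψ c)⁻¹ = c⁻¹ * (ψ c * v * (ψ c)⁻¹) * c by group, h3]; group
  -- the displacement
  let lam : Q → Q := fun z => z⁻¹ * ψ z
  have hlamI : ∀ z ∈ (S : Subgroup Q), lam z = 1 ∨ lam z ∈ invols S := by
    intro z hz
    by_cases hz1 : z * z = 1
    · left
      rcases eq_or_ne z 1 with rfl | h
      · simp [lam]
      · simp only [lam]; rw [hU z ⟨h, hz1, smul_eq_of_mem hz⟩, inv_mul_cancel]
    · exact L.fibre hz (hψS z hz) hz1 (by rw [← map_mul, hU _ (L.sq_mem S z hz hz1)])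
  have hlamc : ∀ z ∈ (S : Subgroup Q), ∀ z' ∈ (S : Subgroup Q), Commute (lam z) z' := by
    intro z hz z' hz'
    rcases hlamI z hz with h | h
    · rw [h]; exact Commute.one_left _
    · exact L.pts.invols_central h hz'
  have hlam_mul : ∀ z ∈ (S : Subgroup Q), ∀ z' ∈ (S : Subgroup Q), lam (z * z') = lam z * lam z' := by
    intro z hz z' hz'
    calc lam (z * z') = z'⁻¹ * (lam z * ψ z') := by simp only [lam, map_mul]; group
      _ = lam z * (z'⁻¹ * ψ z') := by rw [← mul_assoc, ← (hlamc z hz z'⁻¹ (inv_mem hz')).eq, mul_assoc]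
      _ = lam z * lam z' := rfl
  have hall : ∀ z ∈ (S : Subgroup Q), lam z = 1 := by
    by_contra hex
    push Not at hex
    obtain ⟨z0, hz0, hl0⟩ := hex
    have hl0' : lam z0 ∈ invols S := (hlamI z0 hz0).resolve_left hl0
    have hz01 : z0 * z0 ≠ 1 := fun h => hl0 (by
      simp only [lam]
      rcases eq_or_ne z0 1 with rfl | h'
      · simp
      · rw [hU z0 ⟨h', h, smul_eq_of_mem hz0⟩, inv_mul_cancel])
    obtain ⟨c0, hc0, hc0e⟩ := htr _ hl0' _ (L.sq_mem S z0 hz0 hz01)
    -- squaring is the displacement up to a torus element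
    have hsq : ∀ z ∈ (S : Subgroup Q), z * z = c0 * lam z * c0⁻¹ := by
      intro z hz
      by_cases hz1 : z * z = 1
      · rw [hz1, show lam z = 1 from ?_]
        · group
        · simp only [lam]
          rcases eq_or_ne z 1 with rfl | h
          · simp
          · rw [hU z ⟨h, hz1, smul_eq_of_mem hz⟩, inv_mul_cancel]
      obtain ⟨c, hc, hce⟩ := htr _ (L.sq_mem S z0 hz0 hz01) _ (L.sq_mem S z hz hz1)
      have hcS := ((hC c).mp hc).1
      have hz' : c * z0 * c⁻¹ ∈ (S : Subgroup Q) := (hNS hcS z0).mp hz0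
      have hsq' : c * z0 * c⁻¹ * (c * z0 * c⁻¹) = z * z := by rw [← hce]; group
      have hlam' : lam (c * z0 * c⁻¹) = c * lam z0 * c⁻¹ := by
        simp only [lam, map_mul, map_inv, hψC c hc]; group
      have hlz : lam z = c * lam z0 * c⁻¹ := by
        rw [← hlam']
        conv_lhs => rw [← mul_inv_cancel_left (c * z0 * c⁻¹) z]
        have hzI := L.fibre hz' hz (by rw [hsq']; exact hz1) hsq'
        rw [hlam_mul _ hz' _ (mul_mem (inv_mem hz') hz), show lam ((c * z0 * c⁻¹)⁻¹ * z) = 1 from ?_, mul_one]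
        rcases hzI with h | h
        · rw [h]; simp [lam]
        · simp only [lam]; rw [hU _ h, inv_mul_cancel]
      have hcc : c * c0 = c0 * c := by
        have h5 : ∀ c ∈ C, ∀ c' ∈ C, c * c' = c' * c := by
          intro c hc c' hc'
          obtain ⟨-, -, h6⟩ := (hC _).mp (mul_mem hc hc')
          obtain ⟨-, -, h7⟩ := (hC _).mp hc
          obtain ⟨-, -, h8⟩ := (hC _).mp hc'
          rw [show t * (c * c') * t⁻¹ = t * c * t⁻¹ * (t * c' * t⁻¹) by group, h7, h8, ← mul_inv_rev, inv_inj] at h6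
          exact h6.symm
        exact h5 c hc c0 hc0
      rw [hlz, ← hce, ← hc0e, show c * (c0 * lam z0 * c0⁻¹) * c⁻¹ = c * c0 * lam z0 * (c * c0)⁻¹ by group, hcc]
      group
    refine L.nonab S ⟨⟨fun a b => Subtype.ext ?_⟩⟩
    show (a : Q) * b = b * a
    have h3 := hsq _ (mul_mem a.2 b.2)
    rw [hlam_mul _ a.2 _ b.2, show c0 * (lam a * lam b) * c0⁻¹ = c0 * lam a * c0⁻¹ * (c0 * lam b * c0⁻¹) by group,
      ← hsq _ a.2, ← hsq _ b.2, mul_assoc, mul_assoc, mul_left_cancel_iff, ← mul_assoc, ← mul_assoc,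
      mul_right_cancel_iff] at h3
    exact h3.symm
  exact (inv_mul_eq_one.mp (hall x hx)).symm

end SzLine

end Cfsg.Agent.H76.OddT
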