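import Cfsg.Agent.H76.PostBender.Trans
import Cfsg.Agent.H70.RootInv.Bender
import Cfsg.Agent.S1122
import Cfsg.Agent.S1128
import Cfsg.Agent.S1130
import Cfsg.Agent.S1131
import Cfsg.Prelude.Def_LieRecognition

/-!
A group of Bender's list acting on its Sylow 2-subgroups: the rank-one set-ups, the point of an involution, and
the torus of two points.
-/

set_option autoImplicit false
set_option linter.style.haveILetI false

namespace Cfsg.Agent.H76.OddT

open Subgroup MulAction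

universe u

/-- A faithful strongly embedded configuration on the Sylow 2-subgroups. -/
structure Pts (Q : Type u) [Group Q] [Finite Q] : Prop where
  faithful : ∀ k : Q, (∀ T : Sylow 2 Q, k • T = T) → k = 1
  even : 2 ∣ Nat.card Q
  two : ∃ x y : Q, x ≠ 1 ∧ y ≠ 1 ∧ x ≠ y ∧ x * x = 1 ∧ y * y = 1 ∧ x * y = y * x
  trans : PostBender.SylTrans 2 Q
  disjoint : ∀ S T : Sylow 2 Q, T ≠ S → Odd (Nat.card ↥(stabilizer Q S ⊓ stabilizer Q T))
  exists_ne : ∀ S : Sylow 2 Q, ∃ T : Sylow 2 Q, T ≠ S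

variable {Q : Type u} [Group Q] [Finite Q]

/-- The involutions fixing a point. -/
def invols (S : Sylow 2 Q) : Set Q := {x | x ≠ 1 ∧ x * x = 1 ∧ x • S = S}

omit [Finite Q] in
theorem mem_sylow_of_fixes {S : Sylow 2 Q} {x : Q} (h2 : x * x = 1) (h : x • S = S) :
    x ∈ (S : Subgroup Q) := by
  rcases eq_or_ne x 1 with rfl | h1
  · exact one_mem _
  exact H70.RootInv.mem_sylow_of_normalizes S (orderOf_eq_prime (by rw [pow_two, h2]) h1)
    (Sylow.smul_eq_iff_mem_normalizer.mp h)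

omit [Finite Q] in
theorem smul_eq_of_mem {S : Sylow 2 Q} {x : Q} (h : x ∈ (S : Subgroup Q)) : x • S = S :=
  Sylow.smul_eq_iff_mem_normalizer.mpr (le_normalizer h)

theorem exists_point {x : Q} (h2 : x * x = 1) : ∃ S : Sylow 2 Q, x • S = S := by
  haveI : Fact (Nat.Prime 2) := ⟨Nat.prime_two⟩
  have hz : IsPGroup 2 (zpowers x) := by
    rintro ⟨y, hy⟩
    obtain ⟨k, rfl⟩ := mem_zpowers_iff.mp hy
    refine ⟨1, Subtype.ext ?_⟩
    show (x ^ k) ^ 2 ^ 1 = 1
    rw [pow_one, ← zpow_natCast, ← zpow_mul, mul_comm, zpow_mul, zpow_natCast, pow_two, h2, one_zpow]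
  obtain ⟨S, hS⟩ := hz.exists_le_sylow
  exact ⟨S, smul_eq_of_mem (hS (mem_zpowers x))⟩

theorem invols_conj {S : Sylow 2 Q} {x : Q} (hx : x ∈ invols S) (g : Q) : g * x * g⁻¹ ∈ invols (g • S) := by
  refine ⟨fun h => hx.1 ?_, ?_, ?_⟩
  · have := congrArg (fun z => g⁻¹ * z * g) h
    simpa [mul_assoc] using this
  · rw [show g * x * g⁻¹ * (g * x * g⁻¹) = g * (x * x) * g⁻¹ by group, hx.2.1]; group
  · rw [mul_smul, mul_smul, inv_smul_smul, hx.2.2]

variable (P : Pts Q)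
include P

/-- An involution fixes one point. -/
theorem Pts.point_unique {x : Q} {S T : Sylow 2 Q} (hx : x ∈ invols S) (hT : x • T = T) : T = S := by
  by_contra hne
  refine Nat.not_odd_iff_even.mpr (even_iff_two_dvd.mpr ?_) (P.disjoint S T hne)
  have := orderOf_dvd_natCard (⟨x, hx.2.2, hT⟩ : ↥(stabilizer Q S ⊓ stabilizer Q T))
  rwa [← Subgroup.orderOf_coe, orderOf_eq_prime (by rw [pow_two, hx.2.1]) hx.1] at this

theorem Pts.invols_nonempty (S : Sylow 2 Q) : (invols S).Nonempty := by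
  haveI : Fact (Nat.Prime 2) := ⟨Nat.prime_two⟩
  obtain ⟨x, y, hx, -, -, hx2, -⟩ := P.two
  obtain ⟨T, hT⟩ := exists_point hx2
  obtain ⟨g, rfl⟩ := exists_smul_eq Q T S
  exact ⟨_, invols_conj ⟨hx, hx2, hT⟩ g⟩

/-- The rank-one set-up of a point and an involution moving it. -/
theorem Pts.setup {S : Sylow 2 Q} {t : Q} (ht : t * t = 1) (htS : t • S ≠ S) :
    Cfsg.IsRankOneSetup Q (Sylow 2 Q) S t (S : Subgroup Q) := by
  haveI : Fact (Nat.Prime 2) := ⟨Nat.prime_two⟩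
  have hsemi : ∀ T : Sylow 2 Q, T ≠ S → ∀ x ∈ (S : Subgroup Q), x • T = T → x = 1 := by
    intro T hT x hx hxT
    by_contra hx1
    obtain ⟨k, hk⟩ := S.isPGroup' ⟨x, hx⟩
    have hp : orderOf x ∣ 2 ^ k := orderOf_dvd_of_pow_eq_one (by simpa using congrArg Subtype.val hk)
    obtain ⟨i, -, hi⟩ := (Nat.dvd_prime_pow Nat.prime_two).mp hp
    have hi0 : i ≠ 0 := fun h => hx1 (orderOf_eq_one_iff.mp (by rw [hi, h, pow_zero]))
    refine Nat.not_odd_iff_even.mpr (even_iff_two_dvd.mpr ?_) (P.disjoint S T hT)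
    have := orderOf_dvd_natCard (⟨x, smul_eq_of_mem hx, hxT⟩ : ↥(stabilizer Q S ⊓ stabilizer Q T))
    rw [← Subgroup.orderOf_coe] at this
    change orderOf x ∣ _ at this
    rw [hi] at this
    exact (dvd_pow_self 2 hi0).trans this
  refine
    { two_transitive := MulAction.is_two_pretransitive_iff.mpr ?_
      mul_self := ht
      ne_one := fun h => htS (by rw [h, one_smul])
      not_mem := htS
      le := fun x hx => smul_eq_of_mem hx
      conj_mem := fun h hh x hx => (mem_normalizer_iff.mp (Sylow.smul_eq_iff_mem_normalizer.mp hh) x).mp hx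
      inf_eq_bot := eq_bot_iff.mpr fun x hx => mem_bot.mpr (hsemi _ htS x hx.1 hx.2)
      sup_eq := ?_
      even_card := even_iff_two_dvd.mpr (S.dvd_card_of_dvd_card P.even)
      odd_card := P.disjoint S (t • S) htS }
  · intro a b c d hab hcd
    obtain ⟨g, rfl⟩ := exists_smul_eq Q a c
    obtain ⟨x, hx, hxe⟩ := P.trans (g • a) (g • b) d (fun h => hab (smul_left_cancel g h).symm) (Ne.symm hcd)
    exact ⟨x * g, by rw [mul_smul, smul_eq_of_mem hx], by rw [mul_smul, hxe]⟩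
  · refine le_antisymm (sup_le (fun x hx => smul_eq_of_mem hx) inf_le_left) fun m (hm : m • S = S) => ?_
    obtain ⟨x, hx, hxe⟩ := P.trans S (t • S) (m • t • S) htS
      (fun h => htS (smul_left_cancel m (h.trans hm.symm)))
    rw [← mul_inv_cancel_left x m]
    refine mul_mem (mem_sup_left hx) (mem_sup_right ⟨?_, ?_⟩)
    · show (x⁻¹ * m) • S = S
      rw [mul_smul, hm]; exact inv_smul_eq_iff.mpr (smul_eq_of_mem hx).symm
    · show (x⁻¹ * m) • t • S = t • S
      rw [mul_smul]; exact inv_smul_eq_iff.mpr hxe.symm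

theorem Pts.faithfulSMul : FaithfulSMul Q (Sylow 2 Q) := by
  refine ⟨fun {g h} hgh => ?_⟩
  exact (inv_mul_eq_one.mp (P.faithful (h⁻¹ * g) fun T => by rw [mul_smul, hgh, inv_smul_smul])).symm

theorem Pts.exists_invol_move (S : Sylow 2 Q) : ∃ t : Q, t * t = 1 ∧ t • S ≠ S := by
  obtain ⟨T, hT⟩ := P.exists_ne S
  obtain ⟨x, hx⟩ := P.invols_nonempty T
  exact ⟨x, hx.2.1, fun h => hT (P.point_unique hx h).symm⟩

theorem Pts.involutionsIn_eq (S : Sylow 2 Q) :
    Cfsg.involutionsIn (stabilizer Q S : Set Q) = invols S := by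
  ext x
  exact ⟨fun h => ⟨h.2.1, h.2.2, h.1⟩, fun h => ⟨h.2.2, h.1, h.2.1⟩⟩

/-- An involution of a point is central in it. -/
theorem Pts.invols_central {S : Sylow 2 Q} {s : Q} (hs : s ∈ invols S) {x : Q} (hx : x ∈ (S : Subgroup Q)) :
    Commute s x := by
  haveI := P.faithfulSMul
  obtain ⟨t, ht, htS⟩ := P.exists_invol_move S
  exact ((Cfsg.Agent.S1130.result (P.setup ht htS) P.two).1 s ((P.involutionsIn_eq S).symm ▸ hs)).2 x hx

theorem Pts.invols_mul {S : Sylow 2 Q} {s s' : Q} (hs : s ∈ invols S) (hs' : s' ∈ invols S) (hne : s ≠ s') :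
    s * s' ∈ invols S := by
  haveI := P.faithfulSMul
  obtain ⟨t, ht, htS⟩ := P.exists_invol_move S
  rcases (Cfsg.Agent.S1130.result (P.setup ht htS) P.two).2 s ((P.involutionsIn_eq S).symm ▸ hs) s'
    ((P.involutionsIn_eq S).symm ▸ hs') with h | h
  · exact absurd ((eq_inv_of_mul_eq_one_left h).trans (inv_eq_of_mul_eq_one_left hs'.2.1)) hne
  · exact (P.involutionsIn_eq S) ▸ h

/-- Involutions commute exactly when they fix the same point. -/
theorem Pts.commute_iff {S : Sylow 2 Q} {x y : Q} (hx : x ∈ invols S) (hy : y ≠ 1) (hy2 : y * y = 1) :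
    Commute x y ↔ y • S = S := by
  refine ⟨fun h => P.point_unique hx ?_, fun h => P.invols_central hx (mem_sylow_of_fixes hy2 h)⟩
  rw [← mul_smul, h.eq, mul_smul, hx.2.2]

/-- The torus of two points: the elements fixing both inverted by an involution exchanging them. -/
theorem Pts.torus {S : Sylow 2 Q} {t : Q} (ht : t * t = 1) (htS : t • S ≠ S) :
    ∃ C : Subgroup Q, IsCyclic C ∧ (∀ c, c ∈ C ↔ c • S = S ∧ c • t • S = t • S ∧ t * c * t⁻¹ = c⁻¹) ∧
      (∀ s ∈ invols S, ∀ s' ∈ invols S, ∃ c ∈ C, c * s * c⁻¹ = s') ∧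
      ∀ c ∈ C, c ≠ 1 → ∀ x ∈ (S : Subgroup Q), Commute c x → x = 1 := by
  haveI := P.faithfulSMul
  have hS := P.setup ht htS
  obtain ⟨C, hC, hcyc, -⟩ := Cfsg.Agent.S1131.result hS P.two
  refine ⟨C, hcyc, fun c => ?_, fun s hs s' hs' => ?_, fun c hc hc1 x hx hcx => ?_⟩
  · rw [← SetLike.mem_coe, hC]
    exact ⟨fun h => ⟨h.1.1, h.1.2, h.2⟩, fun h => ⟨⟨h.1, h.2.1⟩, h.2.2⟩⟩
  · obtain ⟨k, hk, hks⟩ := (Cfsg.Agent.S1122.result hS).2 s ((P.involutionsIn_eq S).symm ▸ hs) s'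
      ((P.involutionsIn_eq S).symm ▸ hs')
    refine ⟨k⁻¹, inv_mem (show k ∈ C by rw [← SetLike.mem_coe, hC]; exact hk), ?_⟩
    rw [inv_inv]; exact hks
  · have h := Cfsg.Agent.S1128.result hS P.two c (hC ▸ hc) hc1
    rw [← mem_bot, ← h]
    exact ⟨hx, mem_centralizer_singleton_iff.mpr hcx.eq.symm⟩

/-- The torus acts regularly on the involutions of its point. -/
theorem Pts.torus_unique {S : Sylow 2 Q} {C : Subgroup Q}
    (hC : ∀ c ∈ C, c ≠ 1 → ∀ x ∈ (S : Subgroup Q), Commute c x → x = 1) {s : Q} (hs : s ∈ invols S) {c c' : Q}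
    (hc : c ∈ C) (hc' : c' ∈ C) (h : c * s * c⁻¹ = c' * s * c'⁻¹) : c = c' := by
  by_contra hne
  refine hs.1 (hC (c'⁻¹ * c) (mul_mem (inv_mem hc') hc) (fun h1 => hne (inv_mul_eq_one.mp h1).symm) s
    (mem_sylow_of_fixes hs.2.1 hs.2.2) ?_)
  show c'⁻¹ * c * s = s * (c'⁻¹ * c)
  calc c'⁻¹ * c * s = c'⁻¹ * (c * s * c⁻¹) * c := by group
    _ = c'⁻¹ * (c' * s * c'⁻¹) * c := by rw [h]
    _ = s * (c'⁻¹ * c) := by group

/-- The product of the exchanging involution and an involution exchanging the same points lies in the torus. -/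
theorem Pts.mem_torus {S : Sylow 2 Q} {t m : Q} (ht : t * t = 1) (hm : m * m = 1) (h : m • S = t • S)
    {C : Subgroup Q} (hC : ∀ c, c ∈ C ↔ c • S = S ∧ c • t • S = t • S ∧ t * c * t⁻¹ = c⁻¹) : t * m ∈ C := by
  refine (hC _).mpr ⟨by rw [mul_smul, h, ← mul_smul, ht, one_smul], ?_, ?_⟩
  · rw [mul_smul, ← h, ← mul_smul m, hm, one_smul, h]
  · rw [mul_inv_rev, inv_eq_of_mul_eq_one_left hm, inv_eq_of_mul_eq_one_left ht, ← mul_assoc t t, ht,
      one_mul]

end Cfsg.Agent.H76.OddT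

namespace Cfsg.Agent.H76.OddT

open Subgroup MulAction

universe u

variable {Q : Type u} [Group Q] [Finite Q] (P : Pts Q)
include P

/-- A Sylow 2-subgroup acts semiregularly on the other points. -/
theorem Pts.semi {S T : Sylow 2 Q} (hT : T ≠ S) {x : Q} (hx : x ∈ (S : Subgroup Q)) (hxT : x • T = T) :
    x = 1 := by
  haveI : Fact (Nat.Prime 2) := ⟨Nat.prime_two⟩
  by_contra hx1
  obtain ⟨k, hk⟩ := S.isPGroup' ⟨x, hx⟩
  obtain ⟨i, -, hi⟩ := (Nat.dvd_prime_pow Nat.prime_two).mp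
    (orderOf_dvd_of_pow_eq_one (show x ^ 2 ^ k = 1 by simpa using congrArg Subtype.val hk))
  have hi0 : i ≠ 0 := fun h => hx1 (orderOf_eq_one_iff.mp (by rw [hi, h, pow_zero]))
  refine Nat.not_odd_iff_even.mpr (even_iff_two_dvd.mpr ?_) (P.disjoint S T hT)
  have := orderOf_dvd_natCard (⟨x, smul_eq_of_mem hx, hxT⟩ : ↥(stabilizer Q S ⊓ stabilizer Q T))
  rw [← Subgroup.orderOf_coe] at this
  change orderOf x ∣ _ at this
  rw [hi] at this
  exact (dvd_pow_self 2 hi0).trans this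

theorem Pts.eq_of_smul_eq {S T : Sylow 2 Q} (hT : T ≠ S) {x y : Q} (hx : x ∈ (S : Subgroup Q))
    (hy : y ∈ (S : Subgroup Q)) (h : x • T = y • T) : x = y := by
  have h1 := P.semi hT (mul_mem (inv_mem hy) hx) (by rw [mul_smul, h, inv_smul_smul])
  exact (inv_mul_eq_one.mp h1).symm

/-- The involution of the cyclic group of a nontrivial element of a point. -/
theorem Pts.invPow_mem {S : Sylow 2 Q} {x : Q} (hx : x ∈ (S : Subgroup Q)) (hx1 : x ≠ 1) :
    x ^ (orderOf x / 2) ∈ invols S := by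
  haveI : Fact (Nat.Prime 2) := ⟨Nat.prime_two⟩
  obtain ⟨k, hk⟩ := S.isPGroup' ⟨x, hx⟩
  obtain ⟨i, -, hi⟩ := (Nat.dvd_prime_pow Nat.prime_two).mp
    (orderOf_dvd_of_pow_eq_one (show x ^ 2 ^ k = 1 by simpa using congrArg Subtype.val hk))
  have h2 : 2 ∣ orderOf x := hi ▸ dvd_pow_self 2 fun h => hx1 (orderOf_eq_one_iff.mp (by rw [hi, h, pow_zero]))
  have ho := orderOf_pow_orderOf_div (orderOf_pos x).ne' h2
  refine ⟨fun h => ?_, ?_, smul_eq_of_mem (pow_mem hx _)⟩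
  · rw [h, orderOf_one] at ho; omega
  · have := pow_orderOf_eq_one (x ^ (orderOf x / 2))
    rwa [ho, pow_two] at this

end Cfsg.Agent.H76.OddT
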