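import Cfsg.Agent.H10.AbTwo.Sylow
import Cfsg.Agent.H76.OddT.Pts

/-!
In `PSU₃(q)`, `q` even, the involutions of two points generate a group meeting each of the two Sylow
2-subgroups in involutions only.
-/

set_option autoImplicit false
set_option linter.unusedSectionVars false
set_option linter.style.haveILetI false

namespace Cfsg.Agent.H76.OddT

open Subgroup MulAction
open Cfsg.Agent.Unitary Cfsg.Agent.H52.SUThree Cfsg.Agent.H67.RankOneFix

variable {F : Type} [Field F] [Fintype F] [CharP F 2] {q : ℕ}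

/-- An element fixing `u` is an involution exactly if it fixes `w`. -/
theorem frame_sq (hF : Fintype.card F = q ^ 2) {u w f : Fin 3 → F} (hfr : Frame q u w f) {k : Cfsg.SU 3 F q}
    (hk : ap k u = u) : k * k = 1 ↔ ap k w = w := by
  obtain ⟨b, β, h, rfl⟩ := eq_E_of_fix hF hfr hk
  have hw : ap (eSU hF (h.spec hfr)) w = vec u w f (-b ^ q) 1 0 := by
    have e := ap_E hF hfr h 0 1 0
    simp only [mul_zero, mul_one, zero_sub, add_zero, fr_w] at e
    exact e
  have hb : ap (eSU hF (h.spec hfr)) w = w ↔ b = 0 := by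
    rw [hw]
    constructor
    · intro e
      have e1 := congrArg (fun z => hermForm 3 F q z f) e
      simp only [hfr.coord_f, hfr.wf] at e1
      simpa [q_ne_zero hF] using e1
    · rintro rfl
      simp [vec, q_ne_zero hF]
  rw [hb]
  constructor
  · intro e
    have e1 := congrArg (fun z => hermForm 3 F q (ap z (vec u w f 0 0 1)) f) e
    simp only [E_mul hF hfr h h, ap_E hF hfr (h.add hF h), hfr.coord_f, ap_one, mul_zero, sub_zero, mul_one,
      zero_add] at e1
    rw [CharTwo.add_self_eq_zero, zero_sub, neg_eq_zero, mul_eq_zero] at e1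
    rcases e1 with e1 | e1
    · exact e1
    · exact pow_eq_zero_iff (q_ne_zero hF) |>.mp e1
  · rintro rfl
    refine eq_of_ap hfr fun p r s => ?_
    rw [E_mul hF hfr h h, ap_E hF hfr (h.add hF h), ap_one]
    simp [CharTwo.add_self_eq_zero, q_ne_zero hF]

universe u'

theorem sq_of_mem_closure_invols {Q : Type u'} [Group Q] [Finite Q] (hF : Fintype.card F = q ^ 2)
    (e : Q ≃* Cfsg.PSU 3 F q) {S T : Sylow 2 Q} (hne : T ≠ S) {x : Q} (hx : x ∈ (S : Subgroup Q))
    (hxc : x ∈ closure (invols S ∪ invols T)) : x * x = 1 := by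
  classical
  haveI : Fact (Nat.Prime 2) := ⟨Nat.prime_two⟩
  set π : Cfsg.SU 3 F q →* Q := e.symm.toMonoidHom.comp (QuotientGroup.mk' (center (Cfsg.SU 3 F q))) with hπ
  have hsurj : Function.Surjective π := e.symm.surjective.comp (QuotientGroup.mk'_surjective _)
  obtain ⟨u, w, f, hfr⟩ := exists_frame (F := F) hF
  have hfr' : Frame q f w u := ⟨hfr.ff, hfr.uu, hfr.ww, hfr.fu, hfr.uf, hfr.wf, hfr.fw, hfr.wu, hfr.uw⟩
  have hu0 : u ≠ 0 := fun h => by
    have := hfr.uf; rw [h, herm_zero_left] at this; exact zero_ne_one this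
  have hf0 : f ≠ 0 := fun h => by
    have := hfr.fu; rw [h, herm_zero_left] at this; exact zero_ne_one this
  obtain ⟨U, hU⟩ := (suGeom 2 hF).stab u ⟨hu0, hfr.uu⟩
  obtain ⟨V, hV⟩ := (suGeom 2 hF).stab f ⟨hf0, hfr.ff⟩
  set S0 := U.mapSurjective hsurj
  set T0 := V.mapSurjective hsurj
  have hker : ∀ k, π k = 1 → k ∈ center (Cfsg.SU 3 F q) := fun k hk =>
    (QuotientGroup.eq_one_iff k).mp (e.symm.injective (hk.trans (map_one e.symm).symm))
  -- lifts of involutions
  have hlift : ∀ {a b : Fin 3 → F} (_ : Frame q a w b) (W : Sylow 2 (Cfsg.SU 3 F q)),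
      (∀ g, g ∈ (W : Subgroup (Cfsg.SU 3 F q)) ↔ ap g a = a) → ∀ y ∈ (W.mapSurjective hsurj : Subgroup Q),
      y * y = 1 → ∃ k, ap k w = w ∧ π k = y := by
    rintro a b hab W hW _ ⟨k, hk, rfl⟩ hy
    refine ⟨k, (frame_sq hF hab ((hW k).mp hk)).mp ?_, rfl⟩
    obtain ⟨l, hl⟩ := eq_smul_of_mem_center hF (by norm_num) (hker _ (by rw [map_mul]; exact hy))
    have hfix : ap (k * k) a = a := (hW _).mp (mul_mem hk hk)
    rw [hl a] at hfix
    have ha0 : a ≠ 0 := fun h => by
      have := hab.uf; rw [h, herm_zero_left] at this; exact zero_ne_one this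
    have hl1 : l = 1 := smul_left_injective F ha0 (by simpa using hfix)
    exact ap_ext fun z => by rw [hl z, hl1, one_smul, ap_one]
  have hne0 : T0 ≠ S0 := by
    intro h0
    have hcov : ∀ g : Cfsg.SU 3 F q, ap g f = f → ap g u = u := by
      intro g hg
      have hg' : π g ∈ (S0 : Subgroup Q) := h0 ▸ mem_map_of_mem π ((hV g).mpr hg)
      obtain ⟨k, hk, hke⟩ := hg'
      obtain ⟨l, hl⟩ := eq_smul_of_mem_center hF (by norm_num)
        (hker (k⁻¹ * g) (by rw [map_mul, map_inv, hke, inv_mul_cancel]))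
      have hgk : ∀ z, ap g z = l • ap k z := fun z => by
        rw [← ap_smul, ← hl z, ← ap_mul, mul_inv_cancel_left]
      obtain ⟨j, hj⟩ : ∃ j, g ^ 2 ^ j = 1 :=
        ⟨2, isPGroup_fixer (p := 2) hF hf0 hfr.ff hg⟩
      have hu1 : ap g u = l • u := by rw [hgk, show ap k u = u from (hU k).mp hk]
      have hpow : ∀ i : ℕ, ap (g ^ i) u = l ^ i • u := by
        intro i
        induction i with
        | zero => simp
        | succ i ih => rw [pow_succ, ap_mul, hu1, ap_smul, ih, smul_smul, pow_succ']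
      have h1 := hpow (2 ^ j)
      rw [hj, ap_one] at h1
      have h2 : l ^ 2 ^ j = 1 := (smul_left_injective F hu0 (by simpa using h1)).symm
      have hl1 : l = 1 := by
        have h3 : (l - 1) ^ 2 ^ j = 0 := by rw [sub_pow_char_pow, one_pow, h2, sub_self]
        exact sub_eq_zero.mp (pow_eq_zero_iff (by positivity) |>.mp h3)
      rw [hu1, hl1, one_smul]
    obtain ⟨c, hc⟩ := (suGeom 2 hF).line f ⟨hf0, hfr.ff⟩ u ⟨hu0, hfr.uu⟩ hcov
    have := hfr.uf
    rw [hc, herm_smul_left, hfr.ff, mul_zero] at this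
    exact zero_ne_one this
  obtain ⟨g, hg⟩ := exists_smul_eq Q S S0
  have htr : PostBender.SylTrans 2 Q :=
    (PostBender.sylTrans_suThree hF).of_surjective hsurj
  obtain ⟨z, hz, hze⟩ := htr S0 (g • T) T0 (fun h => hne (smul_left_cancel g (h.trans hg.symm))) hne0
  set m := z * g
  have hmS : m • S = S0 := by rw [mul_smul, hg]; exact smul_eq_of_mem hz
  have hmT : m • T = T0 := by rw [mul_smul, hze]
  -- the conjugate lies in the stabiliser of `w`
  set W : Subgroup Q := (fixer 3 F q ({w} : Set (Fin 3 → F))).map π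
  have hle : (closure (invols S ∪ invols T)).map (MulAut.conj m).toMonoidHom ≤ W := by
    rw [MonoidHom.map_closure, closure_le]
    rintro _ ⟨y, hy, rfl⟩
    show m * y * m⁻¹ ∈ W
    rcases hy with hy | hy
    · have h1 := invols_conj hy m
      rw [hmS] at h1
      obtain ⟨k, hk, hke⟩ := hlift hfr U hU _ (mem_sylow_of_fixes h1.2.1 h1.2.2) h1.2.1
      exact ⟨k, mem_fixer.2 fun v hv => by rw [hv]; exact hk, hke⟩
    · have h1 := invols_conj hy m
      rw [hmT] at h1
      obtain ⟨k, hk, hke⟩ := hlift hfr' V hV _ (mem_sylow_of_fixes h1.2.1 h1.2.2) h1.2.1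
      exact ⟨k, mem_fixer.2 fun v hv => by rw [hv]; exact hk, hke⟩
  obtain ⟨k', hk', hke'⟩ := hle (mem_map_of_mem _ hxc)
  change π k' = m * x * m⁻¹ at hke'
  have hxS0 : m * x * m⁻¹ ∈ (S0 : Subgroup Q) := by
    rw [← hmS]; exact ⟨x, hx, rfl⟩
  obtain ⟨k, hk, hke⟩ := hxS0
  obtain ⟨l, hl⟩ := eq_smul_of_mem_center hF (by norm_num)
    (hker (k⁻¹ * k') (by rw [map_mul, map_inv, hke, hke', inv_mul_cancel]))
  have hku : ap k u = u := (hU k).mp hk
  obtain ⟨b, β, hok, rfl⟩ := eq_E_of_fix hF hfr hku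
  have hkw : ap (eSU hF (hok.spec hfr)) w = w := by
    have h1 : l • ap (eSU hF (hok.spec hfr)) w = w := by
      rw [← ap_smul, ← hl w, ← ap_mul, mul_inv_cancel_left]
      exact mem_fixer.1 hk' w rfl
    have e' := ap_E hF hfr hok 0 1 0
    simp only [mul_zero, mul_one, zero_sub, add_zero, fr_w] at e'
    have h2 := congrArg (fun v => hermForm 3 F q v w) h1
    simp only [e', herm_smul_left, hfr.coord_w, hfr.ww, mul_one] at h2
    rwa [h2, one_smul] at h1
  have h3 := congrArg π ((frame_sq hF hfr hku).mpr hkw)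
  rw [map_mul, map_one, show π (eSU hF (hok.spec hfr)) = m * x * m⁻¹ from hke] at h3
  have h4 : m * (x * x) * m⁻¹ = 1 := by rw [← h3]; group
  simpa using h4

end Cfsg.Agent.H76.OddT
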