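import Cfsg.Agent.H76.OddT.Abel
import Cfsg.Agent.H76.OddT.Move
import Cfsg.Agent.H76.OddT.SzPts
import Cfsg.Agent.H76.OddT.Unitary
import Cfsg.Agent.H76.OddT.Root

/-!
A pair whose line has Sylow 2-subgroups of exponent four: the component of the pair next to a common neighbour is
flat, its quotient is a Suzuki group and the line covers it.
-/

set_option autoImplicit false
set_option linter.style.haveILetI false

namespace Cfsg.Agent.H76.OddT

open Subgroup MulAction

universe u

variable {G : Type u} [Group G] [Finite G] {S : Set G}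

/-- Every line has Sylow 2-subgroups of exponent two. -/
def NoBad (S : Set G) : Prop := ∀ d ∈ S, ∀ x ∈ S, ¬ Commute d x → Abel (orb S d x)

/-- The same for smaller connected linked sets. -/
def GoodBelow (G : Type u) [Group G] [Finite G] (n : ℕ) : Prop :=
  ∀ S : Set G, Mem S → Conn S → Linked S → S.ncard < n → NoBad S

omit [Finite G] in
theorem conn_comp {u : G} (hu : u ∈ S) : Conn (OddT.comp S u) := by
  have h : ∀ s ∈ OddT.comp S u, Reach (OddT.comp S u) u s := fun s hs => by
    rw [← comp_comp hu] at hs; exact hs.2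
  exact fun s hs t ht => reach_trans (reach_symm (h s hs)) (h t ht)

omit [Finite G] in
theorem mem_cls_of_subset {M : Set G} (hMS : M ⊆ S) {d e : G} (he : e ∈ cls S d) (heM : e ∈ M) :
    e ∈ cls M d :=
  ⟨heM, Set.ext fun y => ⟨fun h => ⟨h.1, (commute_iff_of_cls he (hMS h.1)).mp h.2⟩,
    fun h => ⟨h.1, (commute_iff_of_cls he (hMS h.1)).mpr h.2⟩⟩⟩

omit [Finite G] in
theorem orb_subset_orb {M : Set G} (hMS : M ⊆ S) {d x : G} (h : ∀ e ∈ cls S d, e ∈ M) :
    orb S d x ⊆ orb M d x := by
  rintro _ ⟨g, hg, y, hy, rfl⟩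
  refine ⟨g, closure_mono ?_ hg, y, mem_cls_of_subset hMS hy (h y hy), rfl⟩
  exact Set.union_subset_union_left _ fun e he => mem_cls_of_subset hMS he (h e he)

/-- The inclusion of groups generated by sets. -/
abbrev incl {C C' : Set G} (h : C ⊆ C') : ↥(closure C) →* ↥(closure C') := inclusion (closure_mono h)

theorem Abel.mono {C C' : Set G} (hC : Mem C) (hC' : Mem C')
    (L : IsLine (proj C) ((Subtype.val : ↥(closure C) → G) ⁻¹' C))
    (L' : IsLine (proj C') ((Subtype.val : ↥(closure C') → G) ⁻¹' C')) (h : C ⊆ C')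
    (hne : ∀ e ∈ C, ∃ y ∈ C, ¬ Commute e y) (hA : Abel C') : Abel C := by
  refine Abel.of_hom hC L ((proj C').comp (incl h)) (fun e he => ?_) fun k hk => ?_
  · obtain ⟨y, hy, hey⟩ := hne e he
    refine ⟨y, hy, fun hc => hey ?_⟩
    exact congrArg Subtype.val ((L'.commute_iff (el (h he)) (h he) (el (h hy)) (h hy)).mp hc).eq
  · obtain ⟨n, hn⟩ := hk
    rw [← map_mul]
    exact hA (incl h k) ⟨n, by rw [← map_pow, hn, map_one]⟩ ▸ congrArg (proj C') (map_mul (incl h) k k)

variable (hGood : H3.RootInv.GoodHyp.{u}) (hBend : PostBender.BenderHyp.{u})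
include hGood hBend

theorem Mem.orb_exists_ne (hS : Mem S) (hconn : Conn S) (hl : Linked S) {d x : G} (hd : d ∈ S) (hx : x ∈ S)
    (hdx : ¬ Commute d x) : ∀ e ∈ orb S d x, ∃ y ∈ orb S d x, ¬ Commute e y := by
  intro e he
  obtain ⟨b, w⟩ := hS.exists_wit hGood hBend hconn hl hd hx hdx
  have hnl := w.orb_not_linked hS hconn (below_all hGood hBend S)
  by_cases h : Commute e d
  · exact ⟨x, hS.mem_orb hd hx hdx, fun hc => hdx ((hS.orb_mem hd hx hdx).commute_trans hGood hBend hnl
      (cls_subset_orb (self_mem_cls hd)) he (hS.mem_orb hd hx hdx) h.symm hc)⟩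
  · exact ⟨d, cls_subset_orb (self_mem_cls hd), h⟩

/-- The component next to a common neighbour of a bad pair. -/
theorem Wit.bad (B : Big S) (ih : GoodBelow G S.ncard) {d x b : G} (w : Wit S d x b)
    (hbad : ¬ Abel (orb S d x)) :
    Flat S b d (OddT.comp (Cent S b) d) ∧ SzLine (LQ (OddT.comp (Cent S b) d)) ∧
      ∀ P R : Sylow 2 (LQ (OddT.comp (Cent S b) d)), R ≠ P → closure (invols P ∪ invols R) = ⊤ := by
  have hS := B.mem
  have hconn := B.conn
  have hB := below_all hGood hBend S
  have hT : Mem (Cent S b) := hS.cent w.hb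
  have hdT : d ∈ Cent S b := ⟨w.ha, w.hba.symm⟩
  have hxT : x ∈ Cent S b := ⟨w.hx, w.hbx.symm⟩
  set N := OddT.comp (Cent S b) d with hNdef
  have hN : Mem N := hT.comp hdT hxT w.hax
  have hdN : d ∈ N := ⟨hdT, Relation.ReflTransGen.refl⟩
  have hxN : x ∈ N := ⟨hxT, reach_of_not_commute hdT hxT w.hax⟩
  have hNS : N ⊆ S := fun z hz => hz.1.1
  have horb : orb S d x ⊆ N := by
    intro s hs
    have hsub : orb S d x ⊆ Cent S b := fun z hz =>
      ⟨hS.orb_subset w.hx hz, hS.orb_commute w.hx w.hb w.hba w.hbx hz⟩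
    exact ⟨hsub hs, (hS.orb_reach w.ha w.hx w.hax hs).lift id
      fun p q h => ⟨hsub h.1, hsub h.2.1, h.2.2⟩⟩
  have LC := hS.orb_line hGood hBend hconn B.linked w.ha w.hx w.hax
  have hne := hS.orb_exists_ne hGood hBend hconn B.linked w.ha w.hx w.hax
  have hCM := hS.orb_mem w.ha w.hx w.hax
  have hnl : ¬ Linked N := by
    intro hl
    have hcl : ∀ e ∈ cls S d, e ∈ N := fun e he => horb (cls_subset_orb he)
    have h1 := ih N hN (conn_comp hdT) hl ((Set.ncard_le_ncard (fun z hz => hz.1) (Set.toFinite _)).trans_lt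
      (w.cent_lt hS hconn)) d hdN x hxN w.hax
    exact hbad (Abel.mono hCM (hN.orb_mem hdN hxN w.hax) LC
      (hN.orb_line hGood hBend (conn_comp hdT) hl hdN hxN w.hax) (orb_subset_orb hNS hcl) hne h1)
  have L := hN.isLine hGood hBend hnl
  have F : Flat S b d N := ⟨hN, rfl, hdN, ⟨x, hxN, w.hax⟩, hnl⟩
  set π := proj N
  set ρ := π.comp (incl horb)
  obtain ⟨k, hk, hk2⟩ : ∃ k : ↥(closure (orb S d x)), (∃ n : ℕ, k ^ 2 ^ n = 1) ∧ ρ k * ρ k ≠ 1 := by
    by_contra h
    push Not at h
    refine hbad (Abel.of_hom hCM LC ρ (fun e he => ?_) h)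
    obtain ⟨y, hy, hey⟩ := hne e he
    exact ⟨y, hy, fun hc => hey
      (congrArg Subtype.val ((L.commute_iff (el (horb he)) (horb he) (el (horb hy)) (horb hy)).mp hc).eq)⟩
  have hsq : ∀ {z : G} (hz : z ∈ N), π (el hz) * π (el hz) = 1 := fun {z} hz => by
    rw [← map_mul, show el hz * el hz = 1 from Subtype.ext (hN.sq z hz), map_one]
  obtain ⟨P, hP⟩ := exists_point (hsq hdN)
  obtain ⟨R, hR⟩ := exists_point (hsq hxN)
  have hId : π (el hdN) ∈ invols P := ⟨L.ne_one _ hdN, hsq hdN, hP⟩
  have hIx : π (el hxN) ∈ invols R := ⟨L.ne_one _ hxN, hsq hxN, hR⟩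
  have hRP : R ≠ P := fun e => w.hax (congrArg Subtype.val ((L.commute_iff _ hdN _ hxN).mp
    ((L.pts.commute_iff hId hIx.1 hIx.2.1).mpr (e ▸ hR))).eq)
  have hco : ∀ {s : G}, s ∈ orb S d x → s ∈ gen S d x := fun h => orb_subset_gen h
  have hdo : d ∈ orb S d x := cls_subset_orb (self_mem_cls w.ha)
  have hxo : x ∈ orb S d x := hS.mem_orb w.ha w.hx w.hax
  -- an element of order four in the point of `d`
  obtain ⟨y, hyP, hy2, hyR⟩ : ∃ y ∈ (P : Subgroup (LQ N)), y * y ≠ 1 ∧ y ∈ ρ.range := by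
    haveI : Fact (Nat.Prime 2) := ⟨Nat.prime_two⟩
    have hz : IsPGroup 2 (zpowers k) := by
      rintro ⟨z, hz⟩
      obtain ⟨m, rfl⟩ := mem_zpowers_iff.mp hz
      obtain ⟨n, hn⟩ := hk
      refine ⟨n, Subtype.ext ?_⟩
      show (k ^ m) ^ 2 ^ n = 1
      rw [← zpow_natCast, ← zpow_mul, mul_comm, zpow_mul, zpow_natCast, hn, one_zpow]
    have hzd : IsPGroup 2 (zpowers (el hdo)) := IsPGroup.of_card (n := 1) (by
      rw [Nat.card_zpowers, pow_one, ← Subgroup.orderOf_coe]
      exact orderOf_eq_prime (by rw [pow_two, el_coe hdo, hS.sq d w.ha]) (hS.ne_one d w.ha))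
    obtain ⟨T, hT⟩ := hz.exists_le_sylow
    obtain ⟨PK, hPK⟩ := hzd.exists_le_sylow
    obtain ⟨g, hg⟩ := exists_smul_eq (↥(closure (orb S d x))) T PK
    obtain ⟨P', hP'⟩ := (PK.isPGroup'.map ρ).exists_le_sylow
    have hPP : P' = P := L.pts.point_unique hId (smul_eq_of_mem (hP' (mem_map_of_mem ρ (hPK (mem_zpowers _)))))
    refine ⟨ρ (g * k * g⁻¹), hPP ▸ hP' (mem_map_of_mem ρ ?_), fun h => hk2 ?_, g * k * g⁻¹, rfl⟩
    · rw [← hg]; exact ⟨k, hT (mem_zpowers k), rfl⟩
    · rw [map_mul, map_mul, map_inv] at h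
      have h' : ρ g * (ρ k * ρ k) * (ρ g)⁻¹ = 1 := by rw [← h]; group
      simpa using h'
  have hyS : ∀ {y}, y ∈ ρ.range → y ∈ closure (invols P ∪ invols R) := by
    intro y hyR
    obtain ⟨k', rfl⟩ := hyR
    have hle : closure ((Subtype.val : ↥(closure (orb S d x)) → G) ⁻¹' orb S d x) ≤
        (closure (invols P ∪ invols R)).comap ρ := by
      have hd' : ∀ e, ∀ he : e ∈ cls S d, ρ (el (cls_subset_orb he)) ∈ closure (invols P ∪ invols R) := by
        intro e he
        have heN : e ∈ N := horb (cls_subset_orb he)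
        refine subset_closure (Or.inl ⟨L.ne_one (el heN) heN, hsq heN, ?_⟩)
        exact (L.pts.commute_iff hId (L.ne_one (el heN) heN) (hsq heN)).mp
          ((L.commute_iff _ hdN _ heN).mpr (Subtype.ext (commute_of_cls he w.ha (Commute.refl d)).eq))
      have key : ∀ g (hg : g ∈ gen S d x) (hg' : g ∈ closure (orb S d x)),
          ρ ⟨g, hg'⟩ ∈ closure (invols P ∪ invols R) := by
        intro g hg
        induction hg using closure_induction with
        | mem z hz =>
          intro hg'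
          rcases hz with hz | rfl
          · exact hd' z hz
          · exact subset_closure (Or.inr hIx)
        | one => intro _; exact (show ρ 1 ∈ _ by rw [map_one]; exact one_mem _)
        | mul p r hp hr ihp ihr =>
          intro _
          have hp' : p ∈ closure (orb S d x) := by rw [hS.closure_orb w.ha w.hx w.hax]; exact hp
          have hr' : r ∈ closure (orb S d x) := by rw [hS.closure_orb w.ha w.hx w.hax]; exact hr
          show ρ (⟨p, hp'⟩ * ⟨r, hr'⟩) ∈ _
          rw [map_mul]; exact mul_mem (ihp hp') (ihr hr')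
        | inv p hp ihp =>
          intro _
          have hp' : p ∈ closure (orb S d x) := by rw [hS.closure_orb w.ha w.hx w.hax]; exact hp
          show ρ (⟨p, hp'⟩⁻¹) ∈ _
          rw [map_inv]; exact inv_mem (ihp hp')
      exact (closure_le _).mpr fun z hz => key z (hco hz) z.2
    rw [closure_closure_coe_preimage] at hle
    exact hle (mem_top k')
  rcases L.bender with ⟨Fd, _, _, hch, -, ⟨e⟩⟩ | hsz | ⟨Fd, _, _, q, hq, heven, -, ⟨e⟩⟩
  · haveI : Fact (Nat.Prime 2) := ⟨Nat.prime_two⟩
    obtain ⟨n, hn⟩ := P.isPGroup' ⟨y, hyP⟩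
    exact absurd (sq_of_psl e (n := n) (by simpa using congrArg Subtype.val hn)) hy2
  · refine ⟨F, szLine_of_iso L.pts hsz, ?_⟩
    have hgen : closure {v : LQ N | v * v = 1} = ⊤ := by
      refine eq_top_iff.mpr fun v _ => ?_
      obtain ⟨g, rfl⟩ := L.surj v
      have hle : closure ((Subtype.val : ↥(closure N) → G) ⁻¹' N) ≤ (closure {v : LQ N | v * v = 1}).comap π :=
        (closure_le _).mpr fun z hz => subset_closure (show π z * π z = 1 from hsq (z := (z : G)) hz)
      rw [closure_closure_coe_preimage] at hle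
      exact hle (mem_top g)
    have htop : closure (invols P ∪ invols R) = ⊤ := (szLine_of_iso L.pts hsz).full hRP
      (fun v hv => subset_closure (Or.inl hv)) (fun v hv => subset_closure (Or.inr hv)) hyP hy2 (hyS hyR) hgen
    -- every pair of points
    intro P' R' hne'
    obtain ⟨g, hg⟩ := exists_smul_eq (LQ N) P P'
    obtain ⟨z, hz, hze⟩ := L.pts.trans P' (g • R) R' (fun e => hRP (smul_left_cancel g (e.trans hg.symm))) hne'
    have hle : closure (invols P ∪ invols R) ≤
        (closure (invols P' ∪ invols R')).comap (MulAut.conj (z * g)).toMonoidHom := (closure_le _).mpr (by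
      rintro v (hv | hv)
      · have h1 := invols_conj hv (z * g)
        rw [mul_smul, hg, smul_eq_of_mem hz] at h1
        exact subset_closure (Or.inl h1)
      · have h1 := invols_conj hv (z * g)
        rw [mul_smul, hze] at h1
        exact subset_closure (Or.inr h1))
    refine eq_top_iff.mpr fun v _ => ?_
    obtain ⟨v, rfl⟩ := (MulAut.conj (z * g)).surjective v
    exact hle (htop ▸ mem_top v)
  · haveI := PostBender.charP_two_of_card hq heven
    refine absurd (sq_of_mem_closure_invols hq e hRP hyP ?_) hy2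
    exact hyS hyR

end Cfsg.Agent.H76.OddT
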