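import Mathlib

/-!
Conjugation invariant sets of involutions with products of odd order or commuting (odd transpositions),
worked with as subsets of an ambient group.
-/

set_option autoImplicit false

namespace Cfsg.Agent.H76.OddT

open Subgroup

variable {G : Type*} [Group G] {S : Set G}

/-- A set of odd transpositions of the group it generates in which every member lies on a line. -/
structure Mem (S : Set G) : Prop where
  sq : ∀ s ∈ S, s * s = 1
  ne_one : ∀ s ∈ S, s ≠ 1
  conj : ∀ s ∈ S, ∀ t ∈ S, s * t * s ∈ S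
  odd : ∀ s ∈ S, ∀ t ∈ S, Commute s t ∨ Odd (orderOf (s * t))
  partner : ∀ s ∈ S, ∃ e ∈ S, e ≠ s ∧ Commute e s ∧ e * s ∈ S

/-- The members commuting with `a`. -/
def Cent (S : Set G) (a : G) : Set G := {s | s ∈ S ∧ Commute s a}

/-- The members with the same commuting members as `a`. -/
def cls (S : Set G) (a : G) : Set G := {e | e ∈ S ∧ Cent S e = Cent S a}

/-- Members which do not commute. -/
def Adj (S : Set G) (s t : G) : Prop := s ∈ S ∧ t ∈ S ∧ ¬ Commute s t

/-- The components of the non-commuting graph. -/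
def Reach (S : Set G) (s t : G) : Prop := Relation.ReflTransGen (Adj S) s t

/-- The component of `a`. -/
def comp (S : Set G) (a : G) : Set G := {s | s ∈ S ∧ Reach S a s}

/-- One component. -/
def Conn (S : Set G) : Prop := ∀ s ∈ S, ∀ t ∈ S, Reach S s t

theorem mem_cent {a s : G} : s ∈ Cent S a ↔ s ∈ S ∧ Commute s a := Iff.rfl

theorem self_mem_cent {a : G} (ha : a ∈ S) : a ∈ Cent S a := ⟨ha, Commute.refl a⟩

theorem self_mem_cls {a : G} (ha : a ∈ S) : a ∈ cls S a := ⟨ha, rfl⟩

theorem commute_of_cls {a e y : G} (he : e ∈ cls S a) (hy : y ∈ S) (h : Commute y a) : Commute y e :=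
  (he.2.symm ▸ (show y ∈ Cent S a from ⟨hy, h⟩) : y ∈ Cent S e).2

theorem commute_iff_of_cls {a e y : G} (he : e ∈ cls S a) (hy : y ∈ S) : Commute y e ↔ Commute y a :=
  ⟨fun h => ((he.2 ▸ (show y ∈ Cent S e from ⟨hy, h⟩)) : y ∈ Cent S a).2, commute_of_cls he hy⟩

theorem Adj.symm {s t : G} (h : Adj S s t) : Adj S t s := ⟨h.2.1, h.1, fun e => h.2.2 e.symm⟩

theorem reach_symm {s t : G} (h : Reach S s t) : Reach S t s := by
  induction h with
  | refl => exact Relation.ReflTransGen.refl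
  | tail _ hbc ih => exact Relation.ReflTransGen.head hbc.symm ih

theorem reach_trans {s t u : G} (h : Reach S s t) (h' : Reach S t u) : Reach S s u := h.trans h'

theorem reach_of_not_commute {s t : G} (hs : s ∈ S) (ht : t ∈ S) (h : ¬ Commute s t) : Reach S s t :=
  Relation.ReflTransGen.single ⟨hs, ht, h⟩

theorem reach_mem {s t : G} (hs : s ∈ S) (h : Reach S s t) : t ∈ S := by
  induction h with
  | refl => exact hs
  | tail _ hbc _ => exact hbc.2.1

theorem commute_of_not_reach {s t : G} (hs : s ∈ S) (ht : t ∈ S) (h : ¬ Reach S s t) : Commute s t :=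
  by_contra fun hc => h (reach_of_not_commute hs ht hc)

theorem eq_one_of_odd_pow {c : G} (hc : c * c = 1) {n : ℕ} (hn : Odd n) (h : c ^ n = 1) : c = 1 := by
  obtain ⟨k, rfl⟩ := hn
  rwa [pow_succ, pow_mul, pow_two, hc, one_pow, one_mul] at h

variable (hS : Mem S)
include hS

theorem Mem.inv_eq {a : G} (ha : a ∈ S) : a⁻¹ = a := inv_eq_of_mul_eq_one_left (hS.sq a ha)

theorem Mem.self_mul {a : G} (ha : a ∈ S) (x : G) : a * (a * x) = x := by
  rw [← mul_assoc, hS.sq a ha, one_mul]

theorem Mem.mul_inv {a b : G} (ha : a ∈ S) (hb : b ∈ S) : (a * b)⁻¹ = b * a := by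
  rw [mul_inv_rev, hS.inv_eq ha, hS.inv_eq hb]

theorem Mem.odd_of_not_commute {a b : G} (ha : a ∈ S) (hb : b ∈ S) (h : ¬ Commute a b) :
    Odd (orderOf (a * b)) := (hS.odd a ha b hb).resolve_left h

theorem Mem.commute_mul_self {a b : G} (ha : a ∈ S) (hb : b ∈ S) (h : Commute a b) :
    a * b * (a * b) = 1 := by
  rw [mul_assoc, ← mul_assoc b, ← h.eq, mul_assoc a b b, hS.sq b hb, mul_one, hS.sq a ha]

theorem Mem.eq_of_commute_of_odd {a b : G} (ha : a ∈ S) (hb : b ∈ S) (h : Commute a b)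
    (hodd : Odd (orderOf (a * b))) : a = b :=
  (eq_inv_of_mul_eq_one_left
    (eq_one_of_odd_pow (hS.commute_mul_self ha hb h) hodd (pow_orderOf_eq_one _))).trans (hS.inv_eq hb)

/-- A member commuting with an odd pair `d, y` times `y` is not a member. -/
theorem Mem.center_false {c d y : G} (hc : c * c = 1) (hc1 : c ≠ 1) (hcd : Commute c d)
    (hcy : Commute c y) (hd : d ∈ S) (hy : y ∈ S) (hdy : ¬ Commute d y) (hyc : y * c ∈ S) : False := by
  by_cases h : Commute d (y * c)
  · refine hdy ?_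
    have h2 := h.mul_right hcd.symm
    rwa [mul_assoc, hc, mul_one] at h2
  · have hodd := hS.odd_of_not_commute hd hyc h
    have hodd' := hS.odd_of_not_commute hd hy hdy
    rw [← mul_assoc] at hodd
    have hcp : Commute (d * y) c := (hcd.mul_right hcy).symm
    refine hc1 (eq_one_of_odd_pow hc (hodd.mul hodd') ?_)
    have h1 : (d * y * c) ^ (orderOf (d * y * c) * orderOf (d * y)) = 1 := by
      rw [pow_mul, pow_orderOf_eq_one, one_pow]
    rwa [hcp.mul_pow, mul_comm, pow_mul (d * y), pow_orderOf_eq_one, one_pow, one_mul, mul_comm] at h1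

/-- A partner has the same commuting members. -/
theorem Mem.cent_partner {e s : G} (he : e ∈ S) (hs : s ∈ S) (hes : Commute e s) (hm : e * s ∈ S) :
    Cent S e = Cent S s := by
  have key : ∀ {e s : G}, e ∈ S → s ∈ S → Commute e s → e * s ∈ S → ∀ y ∈ S, Commute y s → Commute y e := by
    intro e s he hs hes hm y hy hys
    by_contra hye
    exact hS.center_false (hS.sq s hs) (hS.ne_one s hs) hys.symm hes.symm hy he hye hm
  ext y
  exact ⟨fun h => ⟨h.1, key hs he hes.symm (hes.eq ▸ hm) y h.1 h.2⟩,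
    fun h => ⟨h.1, key he hs hes hm y h.1 h.2⟩⟩

theorem Mem.conj_mem_closure [Finite G] {g : G} (hg : g ∈ closure S) {t : G} (ht : t ∈ S) :
    g * t * g⁻¹ ∈ S := by
  revert t
  induction hg using closure_induction_left with
  | one => intro t ht; simpa using ht
  | mul_left s hs y _ ih =>
    intro t ht
    rw [show s * y * t * (s * y)⁻¹ = s * (y * t * y⁻¹) * s⁻¹ by group, hS.inv_eq hs]
    exact hS.conj s hs _ (ih ht)
  | inv_mul_cancel s hs y _ ih =>
    intro t ht
    rw [show s⁻¹ * y * t * (s⁻¹ * y)⁻¹ = s⁻¹ * (y * t * y⁻¹) * s by group, hS.inv_eq hs]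
    exact hS.conj s hs _ (ih ht)

/-- The members commuting with `a` again form such a set. -/
theorem Mem.cent {a : G} (ha : a ∈ S) : Mem (Cent S a) where
  sq s hs := hS.sq s hs.1
  ne_one s hs := hS.ne_one s hs.1
  conj s hs t ht := ⟨hS.conj s hs.1 t ht.1, (hs.2.mul_left ht.2).mul_left hs.2⟩
  odd s hs t ht := hS.odd s hs.1 t ht.1
  partner s hs := by
    obtain ⟨e, he, hne, hes, hm⟩ := hS.partner s hs.1
    have hc : a ∈ Cent S e := hS.cent_partner he hs.1 hes hm ▸ (⟨ha, hs.2.symm⟩ : a ∈ Cent S s)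
    exact ⟨e, ⟨he, hc.2.symm⟩, hne, hes, hm, hc.2.symm.mul_left hs.2⟩

theorem Mem.ncard_cent_lt [Finite G] {a n : G} (hn : n ∈ S) (h : ¬ Commute n a) :
    (Cent S a).ncard < S.ncard :=
  Set.ncard_lt_ncard ⟨fun _ hs => hs.1, fun hsub => h (hsub hn).2⟩ S.toFinite

/-- The component of `a` again forms such a set. -/
theorem Mem.comp {a n : G} (ha : a ∈ S) (hn : n ∈ S) (han : ¬ Commute a n) : Mem (OddT.comp S a) where
  sq s hs := hS.sq s hs.1
  ne_one s hs := hS.ne_one s hs.1
  conj s hs t ht := by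
    refine ⟨hS.conj s hs.1 t ht.1, ?_⟩
    by_cases hc : Commute s t
    · rw [hc.eq, mul_assoc, hS.sq s hs.1, mul_one]; exact ht.2
    · refine reach_trans hs.2 (reach_of_not_commute hs.1 (hS.conj s hs.1 t ht.1) fun h => hc ?_)
      have h2 : s * (s * t * s) = s * t * s * s := h
      rw [mul_assoc s t s, hS.self_mul hs.1, mul_assoc, mul_assoc, hS.sq s hs.1, mul_one] at h2
      exact h2.symm
  odd s hs t ht := hS.odd s hs.1 t ht.1
  partner s hs := by
    obtain ⟨e, he, hne, hes, hm⟩ := hS.partner s hs.1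
    obtain ⟨m, hm', hsm⟩ : ∃ m ∈ S, ¬ Commute s m := by
      obtain ⟨-, hr⟩ := hs
      induction hr with
      | refl => exact ⟨n, hn, han⟩
      | tail _ hbc _ => exact ⟨_, hbc.1, fun h => hbc.2.2 h.symm⟩
    have key : ∀ {e : G}, e ∈ S → Cent S e = Cent S s → Reach S a e := fun {e} he hce => by
      refine reach_trans hs.2 (reach_trans (reach_of_not_commute hs.1 hm' hsm)
        (reach_of_not_commute hm' he fun h => hsm ?_))
      exact ((hce ▸ (⟨hm', h⟩ : m ∈ Cent S e)) : m ∈ Cent S s).2.symm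
    refine ⟨e, ⟨he, key he (hS.cent_partner he hs.1 hes hm)⟩, hne, hes, hm, key hm ?_⟩
    refine hS.cent_partner hm hs.1 (hes.mul_left (Commute.refl s)) ?_
    rw [mul_assoc, hS.sq s hs.1, mul_one]; exact he

theorem Mem.conj_cent_eq [Finite G] {g : G} (hg : ∀ t ∈ S, g * t * g⁻¹ ∈ S) (a : G) :
    Cent S (g * a * g⁻¹) = (fun t => g * t * g⁻¹) '' Cent S a := by
  have hinj : Function.Injective (fun t : G => g * t * g⁻¹) := fun u v h => by simpa using h
  have himg : (fun t : G => g * t * g⁻¹) '' S = S :=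
    Set.eq_of_subset_of_ncard_le (Set.image_subset_iff.mpr hg)
      (Set.ncard_image_of_injective S hinj).ge S.toFinite
  ext y
  constructor
  · rintro ⟨hy, hc⟩
    obtain ⟨t, ht, rfl⟩ := himg.symm ▸ hy
    refine ⟨t, ⟨ht, ?_⟩, rfl⟩
    exact (Commute.conj_iff g).mp hc
  · rintro ⟨t, ⟨ht, hc⟩, rfl⟩
    exact ⟨hg t ht, (Commute.conj_iff g).mpr hc⟩

theorem Mem.ncard_cent_conj [Finite G] {g : G} (hg : ∀ t ∈ S, g * t * g⁻¹ ∈ S) (a : G) :
    (Cent S (g * a * g⁻¹)).ncard = (Cent S a).ncard := by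
  rw [hS.conj_cent_eq hg]
  exact Set.ncard_image_of_injective _ fun u v h => by simpa using h

/-- Two members with product of odd order are exchanged by a member. -/
theorem Mem.exists_mid {a b : G} (ha : a ∈ S) (hb : b ∈ S) (h : ¬ Commute a b) :
    ∃ f ∈ S, f ∈ closure ({a, b} : Set G) ∧ f * a * f = b := by
  obtain ⟨k, hk⟩ := hS.odd_of_not_commute ha hb h
  set r := a * b with hr
  have hmem : ∀ i : ℕ, r ^ (2 * i) * a ∈ S := by
    intro i
    induction i with
    | zero => simpa using ha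
    | succ i ih =>
      have h1 := hS.conj a ha _ (hS.conj b hb _ ih)
      convert h1 using 1
      have e1 : a * b * r ^ (2 * i) * a * b * a = r ^ (2 * i + 1) * (a * (b * a)) := by
        rw [← hr, ← pow_succ']; group
      have e2 : a * (b * a) = r * a := by rw [hr]; group
      rw [show a * (b * (r ^ (2 * i) * a) * b) * a = a * b * r ^ (2 * i) * a * b * a by group, e1, e2,
        ← mul_assoc, ← pow_succ]
      ring_nf
  refine ⟨r ^ k * a, ?_, mul_mem (pow_mem (mul_mem (subset_closure (by simp)) (subset_closure (by simp))) k)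
    (subset_closure (by simp)), ?_⟩
  · obtain ⟨j, hj⟩ : ∃ j, r ^ k = r ^ (2 * j) := by
      rcases Nat.even_or_odd k with ⟨j, hj⟩ | ⟨j, hj⟩
      · exact ⟨j, by rw [hj, two_mul]⟩
      · refine ⟨j + k + 1, ?_⟩
        rw [show 2 * (j + k + 1) = k + (2 * k + 1) by omega, pow_add, ← hk, pow_orderOf_eq_one, mul_one]
    rw [hj]; exact hmem j
  · have h1 : r ^ k * a * a * (r ^ k * a) = r ^ (k + k) * a := by
      rw [mul_assoc (r ^ k) a a, hS.sq a ha, mul_one, ← mul_assoc, ← pow_add]
    have h2 : r ^ (k + k) * r = 1 := by rw [← pow_succ, ← two_mul, ← hk, pow_orderOf_eq_one]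
    rw [h1, eq_inv_of_mul_eq_one_left h2, hS.mul_inv ha hb, mul_assoc, hS.sq a ha, mul_one]

end Cfsg.Agent.H76.OddT
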