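import Cfsg.Agent.H76.OddT.Sets

/-!
The rank-one group of a subset inside that of the whole set: transitivity on three of its points.
-/

set_option autoImplicit false
set_option linter.style.haveILetI false

namespace Cfsg.Agent.H76.OddT

open Subgroup MulAction

universe u

/-- Transitivity of the Sylow 2-subgroups lifts through the 2-Z-core. -/
theorem sylTrans_lift {K : Type u} [Group K] [Finite K]
    (h : PostBender.SylTrans 2 (K ⧸ Cfsg.twoZCore K)) : PostBender.SylTrans 2 K := by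
  haveI : Fact (Nat.Prime 2) := ⟨Nat.prime_two⟩
  set π := QuotientGroup.mk' (Cfsg.twoZCore K)
  have hπ : Function.Surjective π := QuotientGroup.mk'_surjective _
  have hinj : ∀ T₁ T₂ : Sylow 2 K, T₁.mapSurjective hπ = T₂.mapSurjective hπ → T₁ = T₂ := by
    intro T₁ T₂ e
    have hN : (T₂ : Subgroup K) ≤ normalizer ((T₁ : Subgroup K) : Set K) := by
      intro y hy
      have hy' : π y ∈ (T₁ : Subgroup K).map π := by
        rw [show (T₁ : Subgroup K).map π = (T₂ : Subgroup K).map π from congrArg Sylow.toSubgroup e]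
        exact mem_map_of_mem π hy
      obtain ⟨x, hx, hxy⟩ := hy'
      have hz : x⁻¹ * y ∈ Cfsg.twoZCore K := QuotientGroup.eq.mp hxy
      rw [← mul_inv_cancel_left x y]
      refine mul_mem (le_normalizer hx) ?_
      have key : ∀ z ∈ Cfsg.twoZCore K, ∀ t ∈ (T₁ : Subgroup K), z * t * z⁻¹ ∈ (T₁ : Subgroup K) := by
        intro z hz t ht
        have hc := mem_center_iff.mp hz (QuotientGroup.mk' (Cfsg.pCore 2 K) t)
        have h1 : z * t * z⁻¹ * t⁻¹ ∈ Cfsg.pCore 2 K := by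
          refine (QuotientGroup.eq_one_iff _).mp ?_
          show QuotientGroup.mk' (Cfsg.pCore 2 K) (z * t * z⁻¹ * t⁻¹) = 1
          rw [map_mul, map_mul, map_mul, map_inv, map_inv, ← hc]
          group
        have h2 := mul_mem (Cores.pCore_le_sylow T₁ h1) ht
        rwa [inv_mul_cancel_right] at h2
      rw [mem_normalizer_iff]
      intro t
      refine ⟨key _ hz t, fun ht => ?_⟩
      have h2 := key _ (inv_mem hz) _ ht
      simpa [mul_assoc] using h2
    have hp := T₂.isPGroup'.to_sup_of_normal_right' T₁.isPGroup' hN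
    exact Sylow.ext ((T₁.3 hp le_sup_right).symm.trans (T₂.3 hp le_sup_left))
  intro S T₁ T₂ h₁ h₂
  obtain ⟨x', hx', hxe⟩ := h (S.mapSurjective hπ) (T₁.mapSurjective hπ) (T₂.mapSurjective hπ)
    (fun e => h₁ (hinj _ _ e)) (fun e => h₂ (hinj _ _ e))
  obtain ⟨x, hx, rfl⟩ := hx'
  refine ⟨x, hx, hinj _ _ (Eq.trans ?_ hxe)⟩
  refine Sylow.ext ?_
  show ((T₁ : Subgroup K).map (MulAut.conj x).toMonoidHom).map π =
    ((T₁ : Subgroup K).map π).map (MulAut.conj (π x)).toMonoidHom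
  rw [map_map, map_map]
  exact congrArg (fun φ : K →* (K ⧸ Cfsg.twoZCore K) => (T₁ : Subgroup K).map φ) (MonoidHom.ext fun y => by simp)

/-- An element of the Sylow subgroup of `u` moving the point of `y` to that of its `u`-conjugate, whose involution
is the image of a member commuting with `u`. -/
theorem sub_invol {G : Type u} [Group G] [Finite G] {M C : Set G} (hM : Mem M)
    (LM : IsLine (proj M) ((Subtype.val : ↥(closure M) → G) ⁻¹' M)) (hC : Mem C) (hCM : C ⊆ M)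
    (LC : IsLine (proj C) ((Subtype.val : ↥(closure C) → G) ⁻¹' C)) {u y : G} (hu : u ∈ C) (hy : y ∈ C)
    (huy : ¬ Commute u y) {Su Sy : Sylow 2 (LQ M)} (hSu : proj M (el (hCM hu)) • Su = Su)
    (hSy : proj M (el (hCM hy)) • Sy = Sy) :
    ∃ x ∈ (Su : Subgroup (LQ M)), x ≠ 1 ∧ x • Sy = proj M (el (hCM hy)) • Su ∧
      ∃ e, ∃ he : e ∈ C, Commute e u ∧ proj M (el (hCM he)) = x ^ (orderOf x / 2) := by
  haveI : Fact (Nat.Prime 2) := ⟨Nat.prime_two⟩
  set ι : ↥(closure C) →* ↥(closure M) := inclusion (closure_mono hCM)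
  set ρ : ↥(closure C) →* LQ M := (proj M).comp ι
  have hρel : ∀ {z : G} (hz : z ∈ C), ρ (el hz) = proj M (el (hCM hz)) := fun hz => rfl
  set pu := ρ (el hu) with hpu
  set py := ρ (el hy) with hpy
  have hinv : ∀ {z : G} (hz : z ∈ C) {S : Sylow 2 (LQ M)}, ρ (el hz) • S = S → ρ (el hz) ∈ invols S :=
    fun {z} hz {S} h => ⟨LM.ne_one _ (hCM hz), by
      rw [← map_mul, show el hz * el hz = 1 from Subtype.ext (hC.sq z hz), map_one], h⟩
  have hIu : pu ∈ invols Su := hinv hu hSu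
  have hIy : py ∈ invols Sy := hinv hy hSy
  have hne : Sy ≠ Su := fun e => huy (congrArg Subtype.val ((LM.commute_iff _ (hCM hu) _ (hCM hy)).mp
    ((LM.pts.commute_iff hIu hIy.1 hIy.2.1).mpr (e ▸ hSy))).eq)
  set S1 := py • Su
  have hS1u : S1 ≠ Su := fun e => hne ((LM.pts.point_unique hIy e).symm)
  have hS1y : S1 ≠ Sy := fun e => hne ((smul_left_cancel py (e.trans hSy.symm)).symm)
  -- the group generated inside, and its points
  set R := ρ.range
  have hsT : PostBender.SylTrans 2 R :=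
    (sylTrans_lift LC.pts.trans).of_surjective ρ.rangeRestrict_surjective
  have hzp : ∀ {z : G} (hz : z ∈ C), IsPGroup 2 (zpowers (el hz)) := fun {z} hz => IsPGroup.of_card (n := 1) (by
    rw [Nat.card_zpowers, pow_one, ← Subgroup.orderOf_coe]
    exact orderOf_eq_prime (by rw [pow_two, el_coe hz, hC.sq z hz]) (hC.ne_one z hz))
  obtain ⟨PK, hPK⟩ := (hzp hu).exists_le_sylow
  obtain ⟨PY, hPY⟩ := (hzp hy).exists_le_sylow
  have hin : ∀ (T : Sylow 2 ↥(closure C)) {z : G} (hz : z ∈ C), el hz ∈ (T : Subgroup ↥(closure C)) →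
      ∀ {S : Sylow 2 (LQ M)}, ρ (el hz) • S = S → ∀ k ∈ (T : Subgroup ↥(closure C)), ρ k ∈ (S : Subgroup (LQ M)) := by
    intro T z hz hzT S hS k hk
    obtain ⟨S', hS'⟩ := (T.isPGroup'.map ρ).exists_le_sylow
    rw [← LM.pts.point_unique (hinv hz hS) (smul_eq_of_mem (hS' (mem_map_of_mem ρ hzT)))]
    exact hS' (mem_map_of_mem ρ hk)
  have hyu : el hy * el hu * (el hy)⁻¹ ∈ (PK : Subgroup ↥(closure C)).map (MulAut.conj (el hy)).toMonoidHom :=
    ⟨el hu, hPK (mem_zpowers _), rfl⟩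
  set PK' := el hy • PK
  set L1 := PK.mapSurjective ρ.rangeRestrict_surjective
  set L2 := PY.mapSurjective ρ.rangeRestrict_surjective
  set L3 := PK'.mapSurjective ρ.rangeRestrict_surjective
  have hL1 : ∀ q ∈ (L1 : Subgroup R), (q : LQ M) ∈ (Su : Subgroup (LQ M)) := by
    rintro _ ⟨k, hk, rfl⟩
    exact hin PK hu (hPK (mem_zpowers _)) hSu k hk
  have hL2 : ∀ q ∈ (L2 : Subgroup R), (q : LQ M) ∈ (Sy : Subgroup (LQ M)) := by
    rintro _ ⟨k, hk, rfl⟩
    exact hin PY hy (hPY (mem_zpowers _)) hSy k hk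
  have hz1 : ρ (el hy * el hu * (el hy)⁻¹) ∈ invols S1 := by
    rw [map_mul, map_mul, map_inv]; exact invols_conj hIu py
  have hL3 : ∀ q ∈ (L3 : Subgroup R), (q : LQ M) ∈ (S1 : Subgroup (LQ M)) := by
    rintro _ ⟨_, ⟨k, hk, rfl⟩, rfl⟩
    show ρ (el hy * k * (el hy)⁻¹) ∈ _
    rw [map_mul, map_mul, map_inv]
    exact ⟨ρ k, hin PK hu (hPK (mem_zpowers _)) hSu k hk, rfl⟩
  let ru : R := ρ.rangeRestrict (el hu)
  let ry : R := ρ.rangeRestrict (el hy)
  have hruL : ru ∈ (L1 : Subgroup R) := mem_map_of_mem _ (hPK (mem_zpowers _))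
  have hryL : ry ∈ (L2 : Subgroup R) := mem_map_of_mem _ (hPY (mem_zpowers _))
  have hr3 : ρ.rangeRestrict (el hy * el hu * (el hy)⁻¹) ∈ (L3 : Subgroup R) := mem_map_of_mem _ hyu
  have h21 : L2 ≠ L1 := fun e => hne (LM.pts.point_unique hIy (smul_eq_of_mem (hL1 ry (e ▸ hryL)))).symm
  have h31 : L3 ≠ L1 := fun e =>
    hS1u (LM.pts.point_unique hz1 (smul_eq_of_mem (hL1 _ (e ▸ hr3)))).symm
  obtain ⟨q, hq, hqe⟩ := hsT L1 L2 L3 h21 h31
  set x : LQ M := (q : LQ M)
  have hxu : x ∈ (Su : Subgroup (LQ M)) := hL1 q hq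
  have hxy : x • Sy = S1 := by
    have hm : q * ry * q⁻¹ ∈ (L3 : Subgroup R) := hqe ▸ ⟨ry, hryL, rfl⟩
    exact (LM.pts.point_unique (invols_conj hIy x) (smul_eq_of_mem (hL3 _ hm))).symm
  have hx1 : x ≠ 1 := fun h => hS1y (by rw [← hxy, h, one_smul])
  refine ⟨x, hxu, hx1, hxy, ?_⟩
  have hs0 := LM.pts.invPow_mem hxu hx1
  set s0 := x ^ (orderOf x / 2)
  obtain ⟨k, hk, hkq⟩ := (pow_mem hq (orderOf x / 2) : q ^ (orderOf x / 2) ∈ (L1 : Subgroup R))
  have hρk : ρ k = s0 := congrArg Subtype.val hkq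
  -- the 2-Z-core maps to a centraliser of the point of `y`
  have hZ : ∀ z ∈ Cfsg.twoZCore ↥(closure C), ρ z ∈ (Su : Subgroup (LQ M)) → ρ z = 1 := by
    intro z hz hzS
    have hO : ∀ o ∈ Cfsg.pCore 2 ↥(closure C), ρ o = 1 := fun o ho =>
      LM.pts.semi hne (hin PK hu (hPK (mem_zpowers _)) hSu o (Cores.pCore_le_sylow PK ho))
        (smul_eq_of_mem (hin PY hy (hPY (mem_zpowers _)) hSy o (Cores.pCore_le_sylow PY ho)))
    have hc := mem_center_iff.mp hz (QuotientGroup.mk' (Cfsg.pCore 2 ↥(closure C)) (el hy))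
    have h1 : z * el hy * z⁻¹ * (el hy)⁻¹ ∈ Cfsg.pCore 2 ↥(closure C) := by
      refine (QuotientGroup.eq_one_iff _).mp ?_
      show QuotientGroup.mk' (Cfsg.pCore 2 ↥(closure C)) (z * el hy * z⁻¹ * (el hy)⁻¹) = 1
      rw [map_mul, map_mul, map_mul, map_inv, map_inv, ← hc]
      group
    have h2 := hO _ h1
    rw [map_mul, map_mul, map_mul, map_inv, map_inv, mul_inv_eq_one, mul_inv_eq_iff_eq_mul] at h2
    exact LM.pts.semi hne hzS (LM.pts.point_unique hIy (by
      rw [← mul_smul, show py * ρ z = ρ z * py from h2.symm, mul_smul]; exact congrArg (ρ z • ·) hSy))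
  set πC := proj C
  have hk1 : πC k ≠ 1 := fun h =>
    hs0.1 (hρk ▸ hZ k ((QuotientGroup.eq_one_iff k).mp h) (hρk ▸ mem_sylow_of_fixes hs0.2.1 hs0.2.2))
  obtain ⟨SC, hSC⟩ := (PK.isPGroup'.map πC).exists_le_sylow
  have hkS : πC k ∈ (SC : Subgroup (LQ C)) := hSC (mem_map_of_mem πC hk)
  have hinv' := LC.pts.invPow_mem hkS hk1
  obtain ⟨eK, heC, hee⟩ := LC.invol _ hinv'.1 hinv'.2.1
  set i := orderOf (πC k) / 2
  have huC : πC (el hu) ∈ (SC : Subgroup (LQ C)) := hSC (mem_map_of_mem πC (hPK (mem_zpowers _)))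
  have hIuC : πC (el hu) ∈ invols SC := ⟨LC.ne_one _ hu, by
    rw [← map_mul, show el hu * el hu = 1 from Subtype.ext (hC.sq u hu), map_one], smul_eq_of_mem huC⟩
  obtain ⟨e, he⟩ := eK
  change e ∈ C at heC
  change πC (el heC) = _ at hee
  have hec : Commute e u := congrArg Subtype.val ((LC.commute_iff (el heC) heC (el hu) hu).mp
    (hee ▸ ((LC.pts.commute_iff hIuC hinv'.1 hinv'.2.1).mpr hinv'.2.2).symm)).eq
  have hee2 : el heC * el heC = 1 := Subtype.ext (hC.sq _ heC)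
  have heS : ρ (el heC) ∈ (Su : Subgroup (LQ M)) := by
    have h2 : ρ (el heC) * ρ (el heC) = 1 := by rw [← map_mul, hee2, map_one]
    exact mem_sylow_of_fixes h2 ((LM.pts.commute_iff hIu (LM.ne_one _ (hCM heC)) h2).mp
      (Commute.map (show Commute (el hu) (el heC) from Subtype.ext hec.eq.symm) ρ))
  have hρe : ρ (el heC) = s0 ^ i := by
    have hz : (el heC)⁻¹ * k ^ i ∈ Cfsg.twoZCore ↥(closure C) :=
      QuotientGroup.eq.mp (show πC (el heC) = πC (k ^ i) by rw [hee, map_pow])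
    have h3 := hZ _ hz (by
      rw [map_mul, map_inv, map_pow, hρk]
      exact mul_mem (inv_mem heS) (pow_mem (mem_sylow_of_fixes hs0.2.1 hs0.2.2) i))
    rw [map_mul, map_inv, map_pow, hρk, inv_mul_eq_one] at h3
    exact h3
  refine ⟨e, heC, hec, ?_⟩
  show ρ (el heC) = s0
  rcases Nat.even_or_odd i with ⟨m, hm⟩ | ⟨m, hm⟩
  · exfalso
    rw [hm, ← two_mul, pow_mul, pow_two, hs0.2.1, one_pow] at hρe
    exact LM.ne_one _ (hCM heC) hρe
  · rw [hρe, hm, pow_succ, pow_mul, pow_two, hs0.2.1, one_pow, one_mul]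

end Cfsg.Agent.H76.OddT
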