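import Cfsg.Agent.H76.OddT.Pts
import Cfsg.Agent.S1132
import Cfsg.Agent.S1137
import Cfsg.Agent.S1138

/-!
An automorphism of odd prime order dividing `q - 1` fixing the involutions of a point and commuting with a
torus fixes the whole Sylow 2-subgroup.
-/

set_option autoImplicit false
set_option linter.style.haveILetI false

namespace Cfsg.Agent.H76.OddT

open Subgroup MulAction

universe u

/-- Powers of two congruent to one modulo `2 ^ n - 1` have exponent divisible by `n`. -/
theorem dvd_of_pow_two_sub_one {n : ℕ} (hn : 0 < n) : ∀ i : ℕ, (2 ^ n - 1) ∣ (2 ^ i - 1) → n ∣ i := by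
  intro i
  induction i using Nat.strong_induction_on with
  | _ i ih =>
    intro h
    rcases Nat.lt_or_ge i n with hlt | hge
    · rcases Nat.eq_zero_or_pos i with rfl | hi
      · exact dvd_zero n
      exfalso
      have h1 : 2 ^ i < 2 ^ n := Nat.pow_lt_pow_right one_lt_two hlt
      have h2 : 2 ≤ 2 ^ i := Nat.le_self_pow hi.ne' 2
      exact absurd (Nat.le_of_dvd (by omega) h) (by omega)
    · obtain ⟨k, rfl⟩ := Nat.exists_eq_add_of_le hge
      have h1 : 2 ^ (n + k) - 1 = 2 ^ k * (2 ^ n - 1) + (2 ^ k - 1) := by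
        have := Nat.one_le_two_pow (n := n)
        have := Nat.one_le_two_pow (n := k)
        rw [pow_add, Nat.mul_sub, mul_one, mul_comm (2 ^ k)]
        have : 2 ^ k ≤ 2 ^ n * 2 ^ k := Nat.le_mul_of_pos_left _ (by positivity)
        omega
      rw [h1] at h
      exact dvd_add (dvd_refl n) (ih k (by omega) ((Nat.dvd_add_right (dvd_mul_left _ _)).mp h))

variable {P : Type u} [Group P] [Finite P]

/-- The abelian case. -/
theorem abelian_fix (hP : IsPGroup 2 P) (hcomm : ∀ x y : P, Commute x y) {r : ℕ} (hr : r.Prime) (hr2 : r ≠ 2)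
    {φ : MulAut P} (hφ : φ ^ r = 1) (hfix : ∀ x : P, x * x = 1 → φ x = x) (x : P) : φ x = x := by
  obtain ⟨k, hk⟩ := hP x
  induction k generalizing x with
  | zero => rw [pow_zero, pow_one] at hk; rw [hk, map_one]
  | succ k ih =>
    have hsq : φ (x * x) = x * x := ih (x * x) (by rw [← pow_two, ← pow_mul, mul_comm, ← pow_succ]; exact hk)
    set v := x⁻¹ * φ x with hv
    have hv2 : v * v = 1 := by
      rw [hv, show x⁻¹ * φ x * (x⁻¹ * φ x) = x⁻¹ * (φ x * x⁻¹) * φ x by group, (hcomm (φ x) x⁻¹).eq,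
        show x⁻¹ * (x⁻¹ * φ x) * φ x = (x * x)⁻¹ * (φ x * φ x) by group, ← map_mul, hsq, inv_mul_cancel]
    have hiter : ∀ i : ℕ, (φ ^ i) x = x * v ^ i := by
      intro i
      induction i with
      | zero => simp
      | succ i ihi =>
        rw [pow_succ', MulAut.mul_apply, ihi, map_mul, map_pow, hfix v hv2, pow_succ', ← mul_assoc]
        congr 1
        rw [hv, mul_inv_cancel_left]
    have h1 := hiter r
    rw [hφ, MulAut.one_apply, eq_comm, mul_eq_left] at h1
    obtain ⟨m, hm⟩ := hr.odd_of_ne_two hr2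
    rw [hm, pow_succ, pow_mul, pow_two, hv2, one_pow, one_mul] at h1
    exact (inv_mul_eq_one.mp h1).symm

/-- The case of squares forming the group of involutions, of exponent four. -/
theorem suzuki_fix {n : ℕ} (hP : IsPGroup 2 P) (hn : {x : P | x * x = 1}.ncard = 2 ^ n)
    (hcen : ∀ z : P, z * z = 1 → ∀ x : P, Commute z x) (hsq : ∀ x : P, x * x * (x * x) = 1)
    (hcard : Nat.card P = (2 ^ n) ^ 2 ∨ Nat.card P = (2 ^ n) ^ 3) {r : ℕ} (hr : r.Prime) (hr2 : r ≠ 2)
    (hrd : r ∣ 2 ^ n - 1) (Cs : Set (MulAut P))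
    (htrans : ∀ z w : P, z ≠ 1 → z * z = 1 → w ≠ 1 → w * w = 1 → ∃ c ∈ Cs, c z = w)
    {φ : MulAut P} (hφ : φ ^ r = 1) (hcomm : ∀ c ∈ Cs, Commute φ c) (hfix : ∀ x : P, x * x = 1 → φ x = x)
    (x : P) : φ x = x := by
  classical
  haveI := Fintype.ofFinite P
  haveI : Fact r.Prime := ⟨hr⟩
  haveI : Fact (Nat.Prime 2) := ⟨Nat.prime_two⟩
  set q := 2 ^ n with hq
  let F : Subgroup P :=
    { carrier := {y | φ y = y}
      one_mem' := map_one φ
      mul_mem' := fun {a b} ha hb => by show φ (a * b) = a * b; rw [map_mul, ha, hb]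
      inv_mem' := fun {a} ha => by show φ a⁻¹ = a⁻¹; rw [map_inv, ha] }
  let fib : P → Finset P := fun z => Finset.univ.filter fun y => y * y = z
  let fibF : P → Finset P := fun z => Finset.univ.filter fun y => y * y = z ∧ φ y = y
  let Zs : Finset P := Finset.univ.filter fun z => z * z = 1 ∧ z ≠ 1
  have hq1 : 1 ≤ q := Nat.one_le_two_pow
  by_cases hq1' : q = 1
  · rcases hcard with hc | hc <;>
    · rw [hq1', one_pow] at hc
      obtain ⟨hsub, -⟩ := Nat.card_eq_one_iff_unique.mp hc
      exact Subsingleton.elim _ _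
  have hZs : Zs.card = q - 1 := by
    have h1 : Zs = (Finset.univ.filter fun z : P => z * z = 1).erase 1 := by
      ext z; simp [Zs, and_comm]
    rw [h1, Finset.card_erase_of_mem (by simp), ← hn, Set.ncard_eq_toFinset_card']
    congr 2
    ext z; simp
  have hpos : 0 < Zs.card := by omega
  obtain ⟨z0, hz0⟩ := Finset.card_pos.mp hpos
  have hz0' : z0 * z0 = 1 ∧ z0 ≠ 1 := (Finset.mem_filter.mp hz0).2
  -- the torus moves the fibres
  have hmove : ∀ z ∈ Zs, (fib z).card = (fib z0).card ∧ (fibF z).card = (fibF z0).card := by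
    intro z hz
    obtain ⟨hz2, hz1⟩ := (Finset.mem_filter.mp hz).2
    obtain ⟨c, hc, hcz⟩ := htrans z0 z hz0'.2 hz0'.1 hz1 hz2
    have hc' : ∀ y, φ (c y) = c (φ y) := fun y => DFunLike.congr_fun (hcomm c hc).eq y
    constructor
    · refine (Finset.card_bij (fun y _ => c y) ?_ (fun a _ b _ h => c.injective h) ?_).symm
      · intro y hy
        simp only [fib, Finset.mem_filter, Finset.mem_univ, true_and] at hy ⊢
        rw [← map_mul, hy, hcz]
      · intro y hy
        simp only [fib, Finset.mem_filter, Finset.mem_univ, true_and] at hy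
        refine ⟨c.symm y, ?_, c.apply_symm_apply y⟩
        simp only [fib, Finset.mem_filter, Finset.mem_univ, true_and]
        exact c.injective (by rw [map_mul, c.apply_symm_apply, hy, hcz])
    · refine (Finset.card_bij (fun y _ => c y) ?_ (fun a _ b _ h => c.injective h) ?_).symm
      · intro y hy
        simp only [fibF, Finset.mem_filter, Finset.mem_univ, true_and] at hy ⊢
        exact ⟨by rw [← map_mul, hy.1, hcz], by rw [hc', hy.2]⟩
      · intro y hy
        simp only [fibF, Finset.mem_filter, Finset.mem_univ, true_and] at hy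
        refine ⟨c.symm y, ?_, c.apply_symm_apply y⟩
        simp only [fibF, Finset.mem_filter, Finset.mem_univ, true_and]
        exact ⟨c.injective (by rw [map_mul, c.apply_symm_apply, hy.1, hcz]),
          c.injective (by rw [← hc', c.apply_symm_apply, hy.2])⟩
  have hA : Nat.card P = q + (q - 1) * (fib z0).card := by
    rw [Nat.card_eq_fintype_card, ← Finset.card_univ,
      ← Finset.card_filter_add_card_filter_not (s := Finset.univ) (fun y : P => y * y = 1)]
    congr 1
    · rw [← hn, Set.ncard_eq_toFinset_card']; congr 1; ext z; simp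
    · rw [← hZs, Finset.card_eq_sum_card_fiberwise (f := fun y : P => y * y) (t := Zs)
        (fun y hy => by
          rw [Finset.mem_coe, Finset.mem_filter] at hy
          rw [Finset.mem_coe]
          exact Finset.mem_filter.mpr ⟨Finset.mem_univ _, hsq y, hy.2⟩),
        Finset.sum_const_nat (m := (fib z0).card)]
      intro z hz
      rw [← (hmove z hz).1]
      congr 1
      ext y
      simp only [fib, Finset.mem_filter, Finset.mem_univ, true_and]
      exact ⟨fun h => h.2, fun h => ⟨fun e => (Finset.mem_filter.mp hz).2.2 (h.symm.trans e), h⟩⟩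
  have hB : Nat.card F = q + (q - 1) * (fibF z0).card := by
    rw [show Nat.card F = Nat.card {y : P // φ y = y} from rfl, Nat.card_eq_fintype_card, Fintype.card_subtype,
      ← Finset.card_filter_add_card_filter_not (fun y : P => y * y = 1)]
    congr 1
    · rw [← hn, Set.ncard_eq_toFinset_card', Finset.filter_filter]
      congr 1; ext z
      simp only [Finset.mem_filter, Finset.mem_univ, true_and, Set.mem_toFinset, Set.mem_setOf_eq]
      exact ⟨fun h => h.2, fun h => ⟨hfix z h, h⟩⟩
    · rw [← hZs, Finset.card_eq_sum_card_fiberwise (f := fun y : P => y * y) (t := Zs)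
        (fun y hy => by
          rw [Finset.mem_coe, Finset.mem_filter] at hy
          rw [Finset.mem_coe]
          exact Finset.mem_filter.mpr ⟨Finset.mem_univ _, hsq y, hy.2⟩),
        Finset.sum_const_nat (m := (fibF z0).card)]
      intro z hz
      rw [← (hmove z hz).2]
      congr 1
      ext y
      simp only [fibF, Finset.mem_filter, Finset.mem_univ, true_and]
      exact ⟨fun h => ⟨h.2, h.1.1⟩, fun h => ⟨⟨h.2, fun e => (Finset.mem_filter.mp hz).2.2 (h.1.symm.trans e)⟩, h.1⟩⟩
  -- fixed elements in the fibre of an involution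
  have hmod : (fibF z0).card ≡ (fib z0).card [MOD r] := by
    let σ : Equiv.Perm {y // y ∈ fib z0} :=
      { toFun := fun y => ⟨φ y.1, by
          have hy := (Finset.mem_filter.mp y.2).2
          exact Finset.mem_filter.mpr ⟨Finset.mem_univ _, by rw [← map_mul, hy, hfix z0 hz0'.1]⟩⟩
        invFun := fun y => ⟨φ.symm y.1, by
          have hy := (Finset.mem_filter.mp y.2).2
          refine Finset.mem_filter.mpr ⟨Finset.mem_univ _, ?_⟩
          rw [← map_mul, hy, MulEquiv.symm_apply_eq, hfix z0 hz0'.1]⟩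
        left_inv := fun y => Subtype.ext (φ.symm_apply_apply y.1)
        right_inv := fun y => Subtype.ext (φ.apply_symm_apply y.1) }
    have hσ : σ ^ r ^ 1 = 1 := by
      rw [pow_one]
      refine Equiv.ext fun y => Subtype.ext ?_
      have : ∀ i : ℕ, ((σ ^ i) y).1 = (φ ^ i) y.1 := by
        intro i
        induction i with
        | zero => simp
        | succ i ih =>
          rw [pow_succ', Equiv.Perm.mul_apply, pow_succ', MulAut.mul_apply, ← ih]
          rfl
      rw [this, hφ]; rfl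
    have h := Equiv.Perm.card_compl_support_modEq hσ
    rw [Fintype.card_coe] at h
    have hc : σ.supportᶜ.card = (fibF z0).card := by
      refine Finset.card_bij (fun y _ => y.1) ?_ (fun a _ b _ e => Subtype.ext e) ?_
      · intro y hy
        rw [Finset.mem_compl, Equiv.Perm.mem_support, not_not] at hy
        exact Finset.mem_filter.mpr ⟨Finset.mem_univ _, (Finset.mem_filter.mp y.2).2, congrArg Subtype.val hy⟩
      · intro y hy
        obtain ⟨-, hy1, hy2⟩ := Finset.mem_filter.mp hy
        refine ⟨⟨y, Finset.mem_filter.mpr ⟨Finset.mem_univ _, hy1⟩⟩, ?_, rfl⟩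
        rw [Finset.mem_compl, Equiv.Perm.mem_support, not_not]
        exact Subtype.ext hy2
    rwa [hc] at h
  have hFdvd : Nat.card F ∣ Nat.card P := card_subgroup_dvd_card F
  obtain ⟨j, hj⟩ := IsPGroup.iff_card.mp (hP.to_subgroup F)
  obtain ⟨N, hN⟩ : ∃ N, N = (fibF z0).card := ⟨_, rfl⟩
  obtain ⟨M, hM⟩ : ∃ M, M = (fib z0).card := ⟨_, rfl⟩
  rw [← hN, ← hM] at hmod
  rw [← hM] at hA
  rw [← hN, hj] at hB
  have hn0 : 0 < n := Nat.pos_of_ne_zero fun h => hq1' (by rw [hq, h, pow_zero])
  have hnj : n ≤ j := (Nat.pow_le_pow_iff_right one_lt_two).mp (hB ▸ Nat.le_add_right _ _)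
  have hji : (q - 1) ∣ 2 ^ j - 1 := ⟨N + 1, by rw [hB, mul_add, mul_one]; omega⟩
  obtain ⟨i, rfl⟩ := dvd_of_pow_two_sub_one hn0 j hji
  have hi1 : 1 ≤ i := Nat.pos_of_ne_zero fun h => by rw [h, mul_zero] at hnj; omega
  have hqpos : 0 < q - 1 := by omega
  -- the fixed subgroup is everything
  suffices hall : Nat.card F = Nat.card P from
    ((F.card_eq_iff_eq_top.mp hall) ▸ mem_top x : x ∈ F)
  rw [hj, pow_mul, ← hq]
  rw [pow_mul, ← hq] at hB
  have hqr : q ≡ 1 [MOD r] := ((Nat.modEq_iff_dvd' hq1).mpr hrd).symm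
  have hle : q ^ i ∣ Nat.card P := by rw [hq, ← pow_mul, ← hj]; exact hFdvd
  have hr2' : ¬ r ∣ 2 := fun h => hr2 ((Nat.prime_dvd_prime_iff_eq hr Nat.prime_two).mp h)
  rcases hcard with hc | hc <;> rw [hc] at hA hle ⊢ <;>
    have hi := (Nat.pow_dvd_pow_iff_le_right (by omega : 1 < q)).mp hle
  · have hM' : M = q := Nat.eq_of_mul_eq_mul_left hqpos (by
      have : (q - 1) * q = q ^ 2 - q := by rw [Nat.sub_mul, one_mul, pow_two]
      omega)
    interval_cases i
    · exfalso
      have hN0 : N = 0 := Nat.eq_of_mul_eq_mul_left hqpos (by rw [pow_one] at hB; omega)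
      rw [hN0, hM'] at hmod
      exact Nat.Prime.not_dvd_one hr ((Nat.modEq_zero_iff_dvd).mp (hqr.symm.trans hmod.symm))
    · rfl
  · have hM' : M = q * (q + 1) := Nat.eq_of_mul_eq_mul_left hqpos (by
      have : (q - 1) * (q * (q + 1)) = q ^ 3 - q := by
        obtain ⟨k, hk⟩ := Nat.exists_eq_add_of_le hq1
        rw [hk, Nat.add_sub_cancel_left]
        ring_nf
        omega
      omega)
    have hMr : M ≡ 2 [MOD r] := by
      rw [hM']
      exact hqr.mul (hqr.add_right 1)
    interval_cases i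
    · exfalso
      have hN0 : N = 0 := Nat.eq_of_mul_eq_mul_left hqpos (by rw [pow_one] at hB; omega)
      rw [hN0] at hmod
      exact hr2' (Nat.modEq_zero_iff_dvd.mp (hMr.symm.trans hmod.symm))
    · exfalso
      have hN0 : N = q := Nat.eq_of_mul_eq_mul_left hqpos (by
        have : (q - 1) * q = q ^ 2 - q := by rw [Nat.sub_mul, one_mul, pow_two]
        omega)
      rw [hN0] at hmod
      have h12 : 1 ≡ 2 [MOD r] := hqr.symm.trans (hmod.trans hMr)
      exact Nat.Prime.not_dvd_one hr ((Nat.modEq_iff_dvd' (by norm_num)).mp h12)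
    · rfl

/-- The restriction of an automorphism to an invariant subgroup. -/
noncomputable def restrictAut {Q : Type u} [Group Q] [Finite Q] {H : Subgroup Q} (ψ : MulAut Q)
    (h : ∀ x ∈ H, ψ x ∈ H) : MulAut H :=
  MulEquiv.ofBijective ({ toFun := fun x => ⟨ψ x, h x x.2⟩
                          map_one' := Subtype.ext (map_one ψ)
                          map_mul' := fun a b => Subtype.ext (map_mul ψ a.1 b.1) } : H →* H)
    (Function.Injective.bijective_of_finite fun a b e => Subtype.ext (ψ.injective (congrArg Subtype.val e)))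

theorem restrictAut_coe {Q : Type u} [Group Q] [Finite Q] {H : Subgroup Q} (ψ : MulAut Q)
    (h : ∀ x ∈ H, ψ x ∈ H) (x : H) : ((restrictAut ψ h x : H) : Q) = ψ x := rfl

theorem restrictAut_pow {Q : Type u} [Group Q] [Finite Q] {H : Subgroup Q} (ψ : MulAut Q)
    (h : ∀ x ∈ H, ψ x ∈ H) : ∀ (i : ℕ) (x : H), (((restrictAut ψ h) ^ i) x : Q) = (ψ ^ i) x := by
  intro i
  induction i with
  | zero => intro x; rfl
  | succ i ih =>
    intro x
    rw [pow_succ', pow_succ', MulAut.mul_apply, MulAut.mul_apply, restrictAut_coe, ih]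

/-- An automorphism fixing the involutions of a point and a torus fixes its Sylow subgroup. -/
theorem Pts.fix_sylow {Q : Type u} [Group Q] [Finite Q] (P : Pts Q) (S : Sylow 2 Q) {t : Q} (ht : t * t = 1)
    (htS : t • S ≠ S) {r : ℕ} (hr : r.Prime) (hr2 : r ≠ 2) (hrd : r ∣ (invols S).ncard) {φ : MulAut Q}
    (hφ : φ ^ r = 1) (hS : ∀ x ∈ (S : Subgroup Q), φ x ∈ (S : Subgroup Q))
    (hU : ∀ v ∈ invols S, φ v = v)
    (hC : ∀ c : Q, c • S = S → c • t • S = t • S → t * c * t⁻¹ = c⁻¹ → φ c = c) {x : Q}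
    (hx : x ∈ (S : Subgroup Q)) : φ x = x := by
  classical
  haveI : Fact (Nat.Prime 2) := ⟨Nat.prime_two⟩
  haveI := P.faithfulSMul
  obtain ⟨C, -, hCmem, htrans, -⟩ := P.torus ht htS
  set H := (S : Subgroup Q) with hH
  set χ := restrictAut φ hS
  have hχ : χ ^ r = 1 := MulEquiv.ext fun y => Subtype.ext (by rw [restrictAut_pow, hφ]; rfl)
  have hsq1 : ∀ y : H, y * y = 1 → y = 1 ∨ (y : Q) ∈ invols S := fun y hy => by
    rcases eq_or_ne y 1 with h | h
    · exact Or.inl h
    · exact Or.inr ⟨fun e => h (Subtype.ext e), congrArg Subtype.val hy, smul_eq_of_mem y.2⟩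
  have hfix : ∀ y : H, y * y = 1 → χ y = y := fun y hy => by
    rcases hsq1 y hy with rfl | h
    · exact map_one χ
    · exact Subtype.ext (hU _ h)
  suffices hall : ∀ y : H, χ y = y from congrArg Subtype.val (hall ⟨x, hx⟩)
  obtain ⟨T⟩ := (Sylow.nonempty (p := 2) (G := H))
  have hT : (T : Subgroup H) = ⊤ := (T.is_maximal' (fun ⟨y, _⟩ => by
    obtain ⟨k, hk⟩ := S.isPGroup' y
    exact ⟨k, Subtype.ext hk⟩) le_top).symm
  let e : (T : Subgroup H) ≃* H := (MulEquiv.subgroupCongr hT).trans topEquiv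
  rcases Cfsg.Agent.S1132.result (P.setup ht htS) P.two T with hab | hsz
  · exact abelian_fix S.isPGroup' (fun a b => by
      have h := congrArg e (hab.1.comm (e.symm a) (e.symm b))
      rwa [map_mul, map_mul, e.apply_symm_apply, e.apply_symm_apply] at h) hr hr2 hχ hfix
  obtain ⟨h37, h37'⟩ := Cfsg.Agent.S1137.result hsz
  obtain ⟨h38, -, hcard, -⟩ := Cfsg.Agent.S1138.result hsz
  have hn1 : Nat.card (center (T : Subgroup H)) = {y : H | y * y = 1}.ncard := by
    rw [← Nat.card_coe_set_eq]
    refine Nat.card_congr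
      { toFun := fun z => ⟨e z.1, show e z.1 * e z.1 = 1 by rw [← map_mul, h37' _ z.2, map_one]⟩
        invFun := fun y => ⟨e.symm y.1, ?_⟩
        left_inv := fun z => Subtype.ext (e.symm_apply_apply z.1)
        right_inv := fun y => Subtype.ext (e.apply_symm_apply y.1) }
    rcases eq_or_ne (e.symm y.1) 1 with h | h
    · rw [h]; exact one_mem _
    · exact ((h37 _).mp ⟨h, by rw [← map_mul, show y.1 * y.1 = 1 from y.2, map_one]⟩).1
  obtain ⟨n, hn⟩ := IsPGroup.iff_card.mp ((S.isPGroup'.of_equiv e.symm).to_subgroup (center (T : Subgroup H)))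
  rw [hn] at hn1
  have hq : (invols S).ncard = 2 ^ n - 1 := by
    rw [hn1, ← Set.ncard_diff_singleton_of_mem (show (1 : H) ∈ {y : H | y * y = 1} from one_mul 1),
      ← Set.ncard_image_of_injective _ (Subtype.val_injective (p := (· ∈ H)))]
    congr 1
    ext v
    constructor
    · intro hv
      exact ⟨⟨v, mem_sylow_of_fixes hv.2.1 hv.2.2⟩, ⟨Subtype.ext hv.2.1, fun h => hv.1 (congrArg Subtype.val h)⟩,
        rfl⟩
    · rintro ⟨y, ⟨hy, hy1⟩, rfl⟩
      exact (hsq1 y hy).resolve_left hy1
  have hcS : ∀ c ∈ C, ∀ y ∈ H, (MulAut.conj c) y ∈ H := fun c hc y hy =>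
    (mem_normalizer_iff.mp (Sylow.smul_eq_iff_mem_normalizer.mp ((hCmem c).mp hc).1) y).mp hy
  refine suzuki_fix S.isPGroup' hn1.symm (fun z hz y => ?_) (fun y => ?_) ?_ hr hr2 (hq ▸ hrd)
    (Set.range fun c : C => restrictAut (MulAut.conj (c : Q)) (hcS c c.2)) ?_ hχ ?_ hfix
  · rcases hsq1 z hz with rfl | h
    · exact Commute.one_left y
    · exact Subtype.ext (P.invols_central h y.2).eq
  · have h := congrArg e (h37' _ (h38 (e.symm y)))
    rw [map_mul, map_mul, map_one, e.apply_symm_apply] at h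
    exact h
  · rw [Nat.card_congr e.toEquiv, hn] at hcard
    exact hcard
  · intro z w hz hz2 hw hw2
    obtain ⟨c, hc, hcz⟩ := htrans _ ((hsq1 z hz2).resolve_left hz) _ ((hsq1 w hw2).resolve_left hw)
    exact ⟨_, ⟨⟨c, hc⟩, rfl⟩, Subtype.ext hcz⟩
  · rintro _ ⟨c, rfl⟩
    refine MulEquiv.ext fun y => Subtype.ext ?_
    show φ ((c : Q) * y * (c : Q)⁻¹) = (c : Q) * φ y * (c : Q)⁻¹
    obtain ⟨h1, h2, h3⟩ := (hCmem c).mp c.2
    rw [map_mul, map_mul, map_inv, hC _ h1 h2 h3]

end Cfsg.Agent.H76.OddT
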