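import Cfsg.Agent.H76.OddT.Step
import Cfsg.Agent.H76.OddT.SubLine
import Cfsg.Agent.H76.OddT.SuzFix

/-!
The case that the members commuting with `a` and with a common neighbour `b` commute pairwise: a second common
neighbour, and the twists fix every point of the rank-one component.
-/

set_option autoImplicit false
set_option linter.style.haveILetI false

namespace Cfsg.Agent.H76.OddT

open Subgroup MulAction
open scoped Pointwise

universe u

/-- An automorphism keeps the 2-Z-core. -/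
theorem twoZCore_map_mem {K : Type u} [Group K] [Finite K] (ψ : MulAut K) {y : K} (hy : y ∈ Cfsg.twoZCore K) :
    ψ y ∈ Cfsg.twoZCore K := by
  refine mem_comap.mpr (mem_center_iff.mpr fun g => ?_)
  obtain ⟨g, rfl⟩ := QuotientGroup.mk'_surjective _ g
  obtain ⟨k, rfl⟩ := ψ.surjective g
  have h := mem_center_iff.mp hy (QuotientGroup.mk' _ k)
  rw [← map_mul, ← map_mul, QuotientGroup.mk'_apply, QuotientGroup.mk'_apply, QuotientGroup.eq] at h
  simp only [QuotientGroup.mk'_apply, ← QuotientGroup.mk_mul]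
  rw [QuotientGroup.eq, ← map_mul, ← map_mul, ← map_inv, ← map_mul, ← Cores.pCore_map_mulEquiv (p := 2) ψ]
  exact mem_map_of_mem _ h

theorem twoZCore_map_eq {K : Type u} [Group K] [Finite K] (ψ : MulAut K) :
    (Cfsg.twoZCore K).map ψ.toMonoidHom = Cfsg.twoZCore K := by
  refine le_antisymm (by rintro _ ⟨y, hy, rfl⟩; exact twoZCore_map_mem ψ hy) fun y hy => ?_
  exact ⟨ψ⁻¹ y, twoZCore_map_mem ψ⁻¹ hy, MulAut.apply_inv_self K ψ y⟩

variable {G : Type u} [Group G] [Finite G] {S : Set G}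

/-- The automorphism of the quotient. -/
def lineAut (M : Set G) : MulAut ↥(closure M) →* MulAut (LQ M) where
  toFun ψ := QuotientGroup.congr _ _ ψ (twoZCore_map_eq ψ)
  map_one' := MulEquiv.ext fun x => QuotientGroup.induction_on x fun _ => rfl
  map_mul' _ _ := MulEquiv.ext fun x => QuotientGroup.induction_on x fun _ => rfl

/-- Automorphisms carry points to points. -/
theorem invols_map {Q : Type u} [Group Q] [Finite Q] {S : Sylow 2 Q} {x : Q} (hx : x ∈ invols S) (φ : MulAut Q) :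
    φ x ∈ invols (φ • S) :=
  ⟨fun h => hx.1 (φ.injective (h.trans (map_one φ).symm)), by rw [← map_mul, hx.2.1, map_one],
    smul_eq_of_mem ⟨x, mem_sylow_of_fixes hx.2.1 hx.2.2, rfl⟩⟩

theorem smul_smul_point {Q : Type u} [Group Q] (φ : MulAut Q) (g : Q) (S : Sylow 2 Q) :
    φ • (g • S) = φ g • (φ • S) := by
  refine Sylow.ext ?_
  show ((S : Subgroup Q).map (MulAut.conj g).toMonoidHom).map φ.toMonoidHom =
    ((S : Subgroup Q).map φ.toMonoidHom).map (MulAut.conj (φ g)).toMonoidHom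
  rw [map_map, map_map]
  exact congrArg (fun χ : Q →* Q => (S : Subgroup Q).map χ) (MonoidHom.ext fun y => by simp)

variable (hGood : H3.RootInv.GoodHyp.{u}) (hBend : PostBender.BenderHyp.{u})

/-- With two noncommuting common neighbours, a member of the orbit commuting with `u` is in its class. -/
theorem Wit.full (hS : Mem S) (hconn : Conn S) (hB : Below S) {u y b₁ b₂ : G} (w₁ : Wit S u y b₁)
    (w₂ : Wit S u y b₂) (h12 : ¬ Commute b₁ b₂) {m : G} (hm : m ∈ orb S u y) (hmu : Commute m u) :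
    m ∈ cls S u := by
  have hmS : m ∈ S := hS.orb_subset w₁.hx hm
  set T := Cent S u
  have hT : Mem T := hS.cent w₁.ha
  have hmT : m ∈ T := ⟨hmS, hmu⟩
  suffices hsub : ∀ v ∈ T, Commute v m by
    refine ⟨hmS, (Set.eq_of_subset_of_ncard_le (fun v hv => (⟨hv.1, hsub v hv⟩ : v ∈ Cent S m))
      (hS.ncard_cent_reach (hconn u w₁.ha m hmS)).le (Set.toFinite _)).symm⟩
  intro v hv
  by_contra hvm
  have key : ∀ {bi : G}, Wit S u y bi → ∀ z ∈ T, Commute z bi → Commute z m := by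
    intro bi wi z hz hzb
    by_contra hzm
    have hmb : Commute m bi := hS.orb_commute w₁.hx wi.hb wi.hba wi.hbx hm
    obtain ⟨z', hz'S, hz'u, hz'y, hz'c⟩ := (hB _ (hS.cent wi.hb) (wi.cent_lt hS hconn)).1 u
      ⟨w₁.ha, wi.hba.symm⟩ y ⟨w₁.hx, wi.hbx.symm⟩ w₁.hax z
      (cent_comm (S := S) u bi ▸ (⟨hz, hzb⟩ : z ∈ Cent T bi))
      ⟨m, cent_comm (S := S) u bi ▸ (⟨hmT, hmb⟩ : m ∈ Cent T bi), hzm⟩
    rw [← cent_comm] at hz'c
    have hU := hT.cent (show bi ∈ T from ⟨wi.hb, wi.hba⟩)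
    exact hzm ((hU.cong_commute_iff ⟨hz, hzb⟩ ⟨⟨hz'S.1, hz'u⟩, hz'S.2⟩ ⟨hmT, hmb⟩ hz'c).mpr
      (hS.orb_commute w₁.hx hz'S.1 hz'u hz'y hm)).symm
  have hmn : ∃ n ∈ T, ¬ Commute m n := ⟨v, hv, fun e => hvm e.symm⟩
  have h1 := hT.cent_eq_of_subset hmT hmn ⟨w₁.hb, w₁.hba⟩ (key w₁)
  have h2 := hT.cent_eq_of_subset hmT hmn ⟨w₂.hb, w₂.hba⟩ (key w₂)
  have hb2 : b₂ ∈ Cent T b₁ := by rw [h1, ← h2]; exact self_mem_cent ⟨w₂.hb, w₂.hba⟩
  exact h12 hb2.2.symm

/-- The component of the common neighbour when its neighbours commute. -/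
structure Flat (S : Set G) (a b : G) (M : Set G) : Prop where
  mem : Mem M
  eq : M = comp (Cent S a) b
  self : b ∈ M
  partner : ∃ n ∈ M, ¬ Commute b n
  not_linked : ¬ Linked M

theorem Wit.flat (hS : Mem S) (hconn : Conn S) (hB : Below S) {a x b : G} (wb : Wit S a x b)
    (hU : ∀ y ∈ Cent (Cent S a) b, ∀ y' ∈ Cent (Cent S a) b, Commute y y') :
    Flat S a b (OddT.comp (Cent S a) b) := by
  have hT : Mem (Cent S a) := hS.cent wb.ha
  have hbT : b ∈ Cent S a := ⟨wb.hb, wb.hba⟩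
  obtain ⟨n, hn, hbn⟩ := wb.le_of_ncard hS hconn
  refine ⟨hT.comp hbT hn hbn, rfl, ⟨hbT, Relation.ReflTransGen.refl⟩,
    ⟨n, ⟨hn, reach_of_not_commute hbT hn hbn⟩, hbn⟩, fun hl => ?_⟩
  obtain ⟨c, hc, hcb, hcn⟩ := (hB _ hT (hS.ncard_cent_lt wb.hx fun e => wb.hax e.symm)).2 b hbT n hn hbn hl
  have heq := hT.cent_eq_of_subset (w := c) hc.1 ?_ hbT fun y hy hyb => hU y ⟨hy, hyb⟩ c ⟨hc.1, hcb⟩
  · exact hbn ((heq.symm ▸ (⟨hn, hcn.symm⟩ : n ∈ Cent (Cent S a) c)) : n ∈ Cent (Cent S a) b).2.symm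
  · rcases hc.2.cases_tail with h | ⟨d, -, hd⟩
    · exact absurd (h ▸ hcn) hbn
    · exact ⟨d, hd.1, fun e => hd.2.2 e.symm⟩

/-- Facts about a twist acting on the component. -/
theorem Flat.auto {a x h f : G} {r : ℕ} {b : G} {M : Set G} (F : Flat S a b M) (tw : Twist S r a x h f)
    (hS : Mem S) (wb : Wit S a x b) :
    (∀ z ∈ M, h * z * h⁻¹ ∈ M) ∧ h ∈ normalizer ((closure M : Subgroup G) : Set G) := by
  have hhb : Commute h b := tw.comm wb.hb wb.hba wb.hbx
  have hmap : ∀ z ∈ M, h * z * h⁻¹ ∈ M := by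
    rw [F.eq]
    intro z hz
    refine ⟨tw.stab hS wb.ha wb.hx hz.1, ?_⟩
    have hb' : h * b * h⁻¹ = b := by rw [hhb.eq, mul_inv_cancel_right]
    have key : ∀ q, Reach (Cent S a) b q → Reach (Cent S a) b (h * q * h⁻¹) := by
      intro q hq
      induction hq with
      | refl => rw [hb']; exact Relation.ReflTransGen.refl
      | tail _ hpq ih =>
        exact ih.tail ⟨tw.stab hS wb.ha wb.hx hpq.1, tw.stab hS wb.ha wb.hx hpq.2.1,
          fun e => hpq.2.2 ((Commute.conj_iff h).mp e)⟩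
    exact key z hz.2
  refine ⟨hmap, ?_⟩
  have key : ∀ g : G, (∀ z ∈ M, g * z * g⁻¹ ∈ M) → ∀ y ∈ closure M, g * y * g⁻¹ ∈ closure M :=
    fun g hg y hy => ((closure_le (K := (closure M).comap (MulAut.conj g).toMonoidHom)).mpr
      (fun t ht => show g * t * g⁻¹ ∈ closure M from subset_closure (hg t ht))) hy
  rw [mem_normalizer_iff]
  intro y
  refine ⟨key h hmap y, fun hy => ?_⟩
  have h' := key h⁻¹ (fun z hz => by rw [inv_inv]; exact mem_of_conj_closed hmap hz) _ hy
  simpa [mul_assoc] using h'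

/-- An element fixing the image of a member fixes a congruent member. -/
theorem exists_fixed_image {M : Set G} (hM : Mem M)
    (L : IsLine (proj M) ((Subtype.val : ↥(closure M) → G) ⁻¹' M)) {r : ℕ} (hr : r.Prime) (hr2 : r ≠ 2) {h : G}
    (hh : h ^ r = 1) (hmap : ∀ z ∈ M, h * z * h⁻¹ ∈ M) {d n : G} (hd : d ∈ M) (hn : n ∈ M) (hdn : ¬ Commute d n)
    (hfix : proj M (el (hmap d hd)) = proj M (el hd)) :
    ∃ p, ∃ hp : p ∈ M, proj M (el hp) = proj M (el hd) ∧ Commute h p := by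
  obtain ⟨p, hp, hdp, hhp⟩ := hM.exists_fixed_cong hr hr2 hh hmap hd hn hdn
    (cong_of_proj (L := L) hd (hmap d hd) hfix.symm)
  refine ⟨p, hp, ?_, hhp⟩
  have h1 := proj_core hdp
  rw [show (⟨d * p, core_le hdp⟩ : ↥(closure M)) = el hd * el hp from rfl, map_mul] at h1
  rw [eq_inv_of_mul_eq_one_right h1]
  exact inv_eq_of_mul_eq_one_left (by rw [← map_mul, show el hd * el hd = 1 from Subtype.ext (hM.sq d hd), map_one])

include hGood hBend

/-- A second common neighbour centralised by a twist. -/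
theorem Flat.second {a x h f : G} {r : ℕ} {b : G} {M : Set G} (F : Flat S a b M) (tw : Twist S r a x h f)
    (hS : Mem S) (hr : r.Prime) (hr2 : r ≠ 2) (wb : Wit S a x b) :
    ∃ p ∈ M, Wit S a x p ∧ ¬ Commute p b ∧ Commute h p := by
  haveI : Fact r.Prime := ⟨hr⟩
  haveI : Fact (Nat.Prime 2) := ⟨Nat.prime_two⟩
  have L := F.mem.isLine hGood hBend F.not_linked
  obtain ⟨hmap, hN⟩ := F.auto tw hS wb
  set φ := lineAut M ((closure M).normalizerMonoidHom ⟨h, hN⟩)
  have hφr : φ ^ r = 1 := by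
    rw [← map_pow, ← map_pow,
      show (⟨h, hN⟩ : normalizer ((closure M : Subgroup G) : Set G)) ^ r = 1 from Subtype.ext tw.pow_eq,
      map_one, map_one]
  have hφel : ∀ {z : G} (hz : z ∈ M), φ (proj M (el hz)) = proj M (el (hmap z hz)) := fun hz => rfl
  set pb := proj M (el F.self)
  have hhb : h * b * h⁻¹ = b := by rw [(tw.comm wb.hb wb.hba wb.hbx).eq, mul_inv_cancel_right]
  have hφb : φ pb = pb := by
    rw [hφel F.self]; exact congrArg (proj M) (Subtype.ext hhb)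
  have hpb2 : pb * pb = 1 := by
    rw [← map_mul, show el F.self * el F.self = 1 from Subtype.ext (F.mem.sq b F.self), map_one]
  obtain ⟨Sb, hSb⟩ := exists_point hpb2
  have hIb : pb ∈ invols Sb := ⟨L.ne_one _ F.self, hpb2, hSb⟩
  have hφS : φ • Sb = Sb := by
    have h1 := invols_map hIb φ
    rw [hφb] at h1
    exact L.pts.point_unique hIb h1.2.2
  -- a second fixed point
  obtain ⟨d0, hd0, hφd⟩ : ∃ d0 : Sylow 2 (LQ M), d0 ≠ Sb ∧ φ • d0 = d0 := by
    classical
    obtain ⟨T0, hT0⟩ := L.pts.exists_ne Sb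
    obtain ⟨e, he⟩ := Sb.isPGroup'.card_orbit T0
    have horb : orbit (Sb : Subgroup (LQ M)) T0 = {T | T ≠ Sb} := by
      ext T
      constructor
      · rintro ⟨s, rfl⟩ e
        refine hT0 (smul_left_cancel (s : LQ M) ?_)
        rw [show (s : LQ M) • T0 = Sb from e, smul_eq_of_mem s.2]
      · intro hT
        obtain ⟨s, hs, hse⟩ := L.pts.trans Sb T0 T hT0 hT
        exact ⟨⟨s, hs⟩, hse⟩
    rw [horb] at he
    haveI := Fintype.ofFinite {T : Sylow 2 (LQ M) // T ≠ Sb}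
    let σ : Equiv.Perm {T : Sylow 2 (LQ M) // T ≠ Sb} :=
      (MulAction.toPerm φ).subtypePerm fun T =>
        ⟨fun h e => h (by rw [MulAction.toPerm_apply, e, hφS]),
          fun h e => h (smul_left_cancel φ (e.trans hφS.symm))⟩
    have hσi : ∀ (i : ℕ) (T : {T : Sylow 2 (LQ M) // T ≠ Sb}), ((σ ^ i) T).1 = φ ^ i • T.1 := by
      intro i
      induction i with
      | zero => intro T; simp
      | succ i ih =>
        intro T
        rw [pow_succ', Equiv.Perm.mul_apply, pow_succ', mul_smul, ← ih]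
        rfl
    have hσ : σ ^ r ^ 1 = 1 := by
      rw [pow_one]
      refine Equiv.ext fun T => Subtype.ext ?_
      rw [hσi, hφr, one_smul]; rfl
    have hdiv : ¬ r ∣ Fintype.card {T : Sylow 2 (LQ M) // T ≠ Sb} := by
      rw [← Nat.card_eq_fintype_card, show Nat.card {T : Sylow 2 (LQ M) // T ≠ Sb} = 2 ^ e from he]
      intro hd
      exact hr2 ((Nat.prime_dvd_prime_iff_eq hr Nat.prime_two).mp (hr.dvd_of_dvd_pow hd))
    obtain ⟨T, hT⟩ := Equiv.Perm.exists_fixed_point_of_prime hdiv hσ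
    exact ⟨T.1, T.2, congrArg Subtype.val hT⟩
  -- the element of that point carrying the point of `b` to the conjugate point
  set P1 := pb • d0
  have hP1 : P1 ≠ d0 := fun e => hd0 (L.pts.point_unique hIb e)
  obtain ⟨s, hs, hse⟩ := L.pts.trans d0 Sb P1 (Ne.symm hd0) hP1
  have hs1 : s ≠ 1 := fun h => hd0 (by
    have h1 : Sb = pb • d0 := by
      show Sb = P1
      rw [← show s • Sb = P1 from hse, h, one_smul]
    exact (smul_left_cancel pb (hSb.trans h1)).symm)
  have hφs : φ s = s := by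
    have hφsS : φ s ∈ (d0 : Subgroup (LQ M)) := by
      have h1 : φ s ∈ ((φ • d0 : Sylow 2 (LQ M)) : Subgroup (LQ M)) := ⟨s, hs, rfl⟩
      rwa [hφd] at h1
    refine L.pts.eq_of_smul_eq (Ne.symm hd0) hφsS hs ?_
    have h1 : φ • P1 = P1 := by rw [show P1 = pb • d0 from rfl, smul_smul_point, hφb, hφd]
    conv_lhs => rw [← hφS, ← smul_smul_point, hse, h1]
    exact hse.symm
  have hv := L.pts.invPow_mem hs hs1
  obtain ⟨⟨d1, hd1'⟩, hd1, hd1e⟩ := L.invol _ hv.1 hv.2.1
  change d1 ∈ M at hd1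
  change proj M (el hd1) = _ at hd1e
  have hd1b : ¬ Commute d1 b := fun e => hd0 (L.pts.point_unique hIb
    ((L.pts.commute_iff hv hIb.1 hpb2).mp (hd1e ▸ ((L.commute_iff (el hd1) hd1 (el F.self) F.self).mpr
      (Subtype.ext e.eq)))) )
  obtain ⟨p, hp, hpe, hhp⟩ := exists_fixed_image F.mem L hr hr2 tw.pow_eq hmap hd1 F.self hd1b (by
    rw [← hφel hd1, hd1e, map_pow, hφs])
  have hpT : p ∈ Cent S a := (F.eq ▸ hp : p ∈ OddT.comp (Cent S a) b).1
  refine ⟨p, hp, tw.wit hS hr hr2 wb.ha wb.hx wb.hax hpT.1 hpT.2 hhp, fun e => hd1b ?_, hhp⟩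
  refine congrArg Subtype.val ((L.commute_iff (el hd1) hd1 (el F.self) F.self).mp ?_).eq
  rw [← hpe]
  exact (L.commute_iff (el hp) hp (el F.self) F.self).mpr (Subtype.ext e.eq)

/-- Every common neighbour has a second one noncommuting with it. -/
theorem Wit.second (hS : Mem S) (hconn : Conn S) (hB : Below S) {a x b : G} (wb : Wit S a x b) :
    ∃ z, Wit S a x z ∧ ¬ Commute z b := by
  by_cases hU : ∀ y ∈ Cent (Cent S a) b, ∀ y' ∈ Cent (Cent S a) b, Commute y y'
  · obtain ⟨⟨r, hr, hr2, hrd⟩, htw⟩ := wb.torus hGood hBend hS hconn hB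
    obtain ⟨h, f, tw⟩ := htw r hr hr2 hrd
    obtain ⟨p, -, wp, hpb, -⟩ := (wb.flat hS hconn hB hU).second hGood hBend tw hS hr hr2 wb
    exact ⟨p, wp, hpb⟩
  · push Not at hU
    obtain ⟨w, hw, n, hn, hwn⟩ := hU
    obtain ⟨-, -, -, -, z, wz, -, hzb⟩ := wb.pair hS hconn hB hw hn hwn
    exact ⟨z, wz, hzb⟩

/-- The twist fixes every point of the component. -/
theorem Flat.fix {a x h f : G} {r : ℕ} {b : G} {M : Set G} (F : Flat S a b M) (tw : Twist S r a x h f)
    (hS : Mem S) (hconn : Conn S) (hB : Below S) (hr : r.Prime) (hr2 : r ≠ 2)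
    (hrd : r ∣ (cls S a).ncard) (wb : Wit S a x b) {w : G} (hw : w ∈ M) : Commute (h * w * h⁻¹) w := by
  classical
  haveI : Fact (Nat.Prime 2) := ⟨Nat.prime_two⟩
  have L := F.mem.isLine hGood hBend F.not_linked
  obtain ⟨hmap, hN⟩ := F.auto tw hS wb
  obtain ⟨p0, hp0, wp, hp0b, hhp0⟩ := F.second hGood hBend tw hS hr hr2 wb
  set φ := lineAut M ((closure M).normalizerMonoidHom ⟨h, hN⟩)
  have hφr : φ ^ r = 1 := by
    rw [← map_pow, ← map_pow,
      show (⟨h, hN⟩ : normalizer ((closure M : Subgroup G) : Set G)) ^ r = 1 from Subtype.ext tw.pow_eq,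
      map_one, map_one]
  have hφel : ∀ {z : G} (hz : z ∈ M), φ (proj M (el hz)) = proj M (el (hmap z hz)) := fun hz => rfl
  have hφfix : ∀ {z : G} (hz : z ∈ M), Commute h z → φ (proj M (el hz)) = proj M (el hz) := fun {z} hz hc => by
    rw [hφel hz]
    refine congrArg (proj M) (Subtype.ext ?_)
    show h * z * h⁻¹ = z
    rw [hc.eq, mul_inv_cancel_right]
  have hsq : ∀ {z : G} (hz : z ∈ M), proj M (el hz) * proj M (el hz) = 1 := fun {z} hz => by
    rw [← map_mul, show el hz * el hz = 1 from Subtype.ext (F.mem.sq z hz), map_one]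
  have hMT : ∀ {z : G}, z ∈ M → z ∈ Cent S a := fun {z} hz => (F.eq ▸ hz : z ∈ OddT.comp (Cent S a) b).1
  have hMS : M ⊆ S := fun z hz => (hMT hz).1
  have hMcl : closure M ≤ closure S := closure_mono hMS
  have hcomm : ∀ {u z : G} (hu : u ∈ M) (hz : z ∈ M), Commute (proj M (el hu)) (proj M (el hz)) ↔ Commute u z :=
    fun {u z} hu hz => (L.commute_iff (el hu) hu (el hz) hz).trans
      ⟨fun e => congrArg Subtype.val e.eq, fun e => Subtype.ext e.eq⟩
  obtain ⟨Sb, hSb⟩ := exists_point (hsq F.self)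
  obtain ⟨d0, hd0⟩ := exists_point (hsq hp0)
  have hIb : proj M (el F.self) ∈ invols Sb := ⟨L.ne_one _ F.self, hsq F.self, hSb⟩
  have hIp : proj M (el hp0) ∈ invols d0 := ⟨L.ne_one _ hp0, hsq hp0, hd0⟩
  have hne : d0 ≠ Sb := fun e => hp0b ((hcomm hp0 F.self).mp
    ((L.pts.commute_iff hIp hIb.1 hIb.2.1).mpr (e ▸ hSb)))
  have hφS : φ • Sb = Sb := by
    have h1 := invols_map hIb φ
    rw [hφfix F.self (tw.comm wb.hb wb.hba wb.hbx)] at h1
    exact L.pts.point_unique hIb h1.2.2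
  have hφd : φ • d0 = d0 := by
    have h1 := invols_map hIp φ
    rw [hφfix hp0 hhp0] at h1
    exact L.pts.point_unique hIp h1.2.2
  -- the class of a member of the point of `b`
  have hclsM : ∀ {u : G}, u ∈ M → ¬ Commute u p0 → ∀ e ∈ cls S u, e ∈ M := by
    intro u hu hup e he
    have hea : Commute e a := (commute_of_cls he wb.ha (hMT hu).2.symm).symm
    have hpe : ¬ Commute p0 e := fun hc => hup ((commute_iff_of_cls he (hMS hp0)).mp hc).symm
    have hbp : Reach (Cent S a) b p0 := (F.eq ▸ hp0 : p0 ∈ OddT.comp (Cent S a) b).2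
    rw [F.eq]
    exact ⟨⟨he.1, hea⟩, reach_trans hbp (reach_of_not_commute (hMT hp0) ⟨he.1, hea⟩ hpe)⟩
  have hpoint : ∀ {u : G} (hu : u ∈ M), Commute u b → proj M (el hu) • Sb = Sb := fun {u} hu hub =>
    (L.pts.commute_iff hIb (L.ne_one _ hu) (hsq hu)).mp ((hcomm F.self hu).mpr hub.symm)
  have hup0 : ∀ {u : G}, u ∈ M → Commute u b → ¬ Commute u p0 := fun {u} hu hub e => hp0b
    (F.mem.commute_trans hGood hBend F.not_linked hp0 hu F.self e.symm hub)
  -- for each such member, the common involution comes from its class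
  have hsub : ∀ {u : G} (hu : u ∈ M), Commute u b → ∃ x' ∈ (Sb : Subgroup (LQ M)),
      x' • d0 = proj M (el hp0) • Sb ∧ ∃ e, ∃ he : e ∈ M, e ∈ cls S u ∧
        proj M (el he) = x' ^ (orderOf x' / 2) := by
    intro u hu hub
    have wu : Wit S u p0 a := ⟨hMS hu, hMS hp0, wb.ha, hup0 hu hub, (hMT hu).2.symm, (hMT hp0).2.symm⟩
    obtain ⟨a2, wa2, ha2⟩ := wu.second hGood hBend hS hconn hB
    have hgenM : gen S u p0 ≤ closure M := (closure_le _).mpr (by
      rintro z (hz | rfl)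
      · exact subset_closure (hclsM hu (hup0 hu hub) z hz)
      · exact subset_closure hp0)
    have hCM : orb S u p0 ⊆ M := by
      rintro _ ⟨g, hg, y, hy, rfl⟩
      exact F.mem.conj_mem_closure (hgenM hg) (hclsM hu (hup0 hu hub) y hy)
    have hC := hS.orb_mem wu.ha wu.hx wu.hax
    obtain ⟨x', hx', -, hxd, e, he, heu, hee⟩ := sub_invol F.mem L hC hCM
      (hC.isLine hGood hBend (wu.orb_not_linked hS hconn hB)) (cls_subset_orb (self_mem_cls wu.ha))
      (hS.mem_orb wu.ha wu.hx wu.hax) wu.hax (Su := Sb) (Sy := d0) (hpoint hu hub) hd0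
    exact ⟨x', hx', hxd, e, hCM he, wu.full hS hconn hB wa2 (fun e => ha2 e.symm) he heu, hee⟩
  have hA : ∀ v ∈ invols Sb, ∃ e, ∃ he : e ∈ M, e ∈ cls S b ∧ proj M (el he) = v := by
    intro v hv
    obtain ⟨⟨c, hc'⟩, hc, rfl⟩ := L.invol v hv.1 hv.2.1
    change c ∈ M at hc
    have hcb : Commute c b := (hcomm hc F.self).mp ((L.pts.commute_iff hv hIb.1 hIb.2.1).mpr hSb)
    obtain ⟨xb, hxb, hxbd, eb, hebM, heb, hebe⟩ := hsub F.self (Commute.refl b)
    obtain ⟨xc, hxc, hxcd, ec, hecM, hec, hece⟩ := hsub hc hcb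
    rw [L.pts.eq_of_smul_eq hne hxc hxb (hxcd.trans hxbd.symm), ← hebe] at hece
    have hebp : ¬ Commute eb p0 := fun e =>
      hup0 F.self (Commute.refl b) ((commute_iff_of_cls heb (hMS hp0)).mp e.symm).symm
    obtain ⟨q, hq, hqe⟩ := F.mem.cong_conj_exists hebM hecM hp0 hebp
      (cong_of_proj (L := L) hebM hecM hece.symm)
    have hqS : q ∈ closure S := hMcl (core_le hq)
    have hcls : q⁻¹ * c * q ∈ cls S b := by
      have h1 := hS.cls_conj (inv_mem hqS) (show c ∈ cls S ec from ⟨hMS hc, hec.2.symm⟩)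
      rw [inv_inv, show q⁻¹ * ec * q = eb by rw [← hqe]; group] at h1
      exact ⟨h1.1, h1.2.trans heb.2⟩
    have hm : q⁻¹ * c * q ∈ M := hclsM F.self (hup0 F.self (Commute.refl b)) _ hcls
    refine ⟨_, hm, hcls, ?_⟩
    show proj M ((⟨q, core_le hq⟩ : ↥(closure M))⁻¹ * el hc * ⟨q, core_le hq⟩) = proj M (el hc)
    rw [map_mul, map_mul, map_inv, proj_core hq]
    group
  have hclsfix : ∀ {e : G}, e ∈ cls S b → Commute h e := fun {e} he =>
    tw.comm he.1 (commute_of_cls he wb.ha wb.hba.symm).symm (commute_of_cls he wb.hx wb.hbx.symm).symm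
  have hU : ∀ v ∈ invols Sb, φ v = v := fun v hv => by
    obtain ⟨e, heM, he, rfl⟩ := hA v hv
    exact hφfix heM (hclsfix he)
  -- the exchanging involution
  obtain ⟨f0, hf0, hf0g, hf0b⟩ := hS.exists_mid wb.hb (hMS hp0) fun e => hp0b e.symm
  have hf0M : f0 ∈ closure M := (closure_le _).mpr (by
    rintro y (rfl | rfl)
    · exact subset_closure F.self
    · exact subset_closure hp0) hf0g
  have hhf0 : Commute h f0 := by
    have hle : closure ({b, p0} : Set G) ≤ centralizer {h} := (closure_le _).mpr (by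
      rintro y (rfl | rfl)
      · exact mem_centralizer_singleton_iff.mpr (tw.comm wb.hb wb.hba wb.hbx).eq.symm
      · exact mem_centralizer_singleton_iff.mpr hhp0.eq.symm)
    exact (mem_centralizer_singleton_iff.mp (hle hf0g)).symm
  set t := proj M ⟨f0, hf0M⟩
  have ht : t * t = 1 := by
    rw [← map_mul, show (⟨f0, hf0M⟩ : closure M) * ⟨f0, hf0M⟩ = 1 from Subtype.ext (hS.sq f0 hf0), map_one]
  have htd : t • Sb = d0 := by
    have h1 := invols_conj hIb t
    have h2 : t * proj M (el F.self) * t⁻¹ = proj M (el hp0) := by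
      rw [← map_inv, ← map_mul, ← map_mul]
      refine congrArg (proj M) (Subtype.ext ?_)
      show f0 * b * f0⁻¹ = p0
      rw [hS.inv_eq hf0, hf0b]
    rw [h2] at h1
    exact L.pts.point_unique hIp h1.2.2
  have htS : t • Sb ≠ Sb := htd ▸ hne
  have hφt : φ t = t := by
    show proj M _ = proj M _
    refine congrArg (proj M) (Subtype.ext ?_)
    show h * f0 * h⁻¹ = f0
    rw [hhf0.eq, mul_inv_cancel_right]
  obtain ⟨C, -, hCmem, -, hfree⟩ := L.pts.torus ht htS
  have hC : ∀ c, c • Sb = Sb → c • t • Sb = t • Sb → t * c * t⁻¹ = c⁻¹ → φ c = c := by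
    intro c h1 h2 h3
    have hcC : c ∈ C := (hCmem c).mpr ⟨h1, h2, h3⟩
    have hφc : φ c ∈ C := by
      refine (hCmem _).mpr ⟨?_, ?_, ?_⟩
      · conv_lhs => rw [← hφS, ← smul_smul_point, h1]
        exact hφS
      · rw [htd] at h2 ⊢
        conv_lhs => rw [← hφd, ← smul_smul_point, h2]
        exact hφd
      · have h4 := congrArg φ h3
        rwa [map_mul, map_mul, map_inv, map_inv, hφt] at h4
    refine L.pts.torus_unique hfree hIb hφc hcC ?_
    have hv := invols_conj hIb c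
    rw [h1] at hv
    have h4 := hU _ hv
    rwa [map_mul, map_mul, map_inv, hU _ hIb] at h4
  -- the count
  let Fm : G → LQ M := fun z => if hz : z ∈ M then proj M (el hz) else 1
  have hFm : ∀ {z : G} (hz : z ∈ M), Fm z = proj M (el hz) := fun {z} hz => dif_pos hz
  have hFconj : ∀ (g : ↥(closure M)) (z : G), z ∈ M →
      Fm ((g : G) * z * (g : G)⁻¹) = proj M g * Fm z * (proj M g)⁻¹ := by
    intro g z hz
    rw [hFm hz, hFm (F.mem.conj_mem_closure g.2 hz), ← map_inv, ← map_mul, ← map_mul]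
    rfl
  have hclsb : ∀ e ∈ cls S b, e ∈ M := hclsM F.self (hup0 F.self (Commute.refl b))
  have himg : Fm '' cls S b = invols Sb := by
    refine Set.Subset.antisymm ?_ fun v hv => ?_
    · rintro _ ⟨e, he, rfl⟩
      rw [hFm (hclsb e he)]
      exact ⟨L.ne_one _ (hclsb e he), hsq _, hpoint _ (commute_of_cls he wb.hb (Commute.refl b)).symm⟩
    · obtain ⟨e, heM, he, rfl⟩ := hA v hv
      exact ⟨e, he, hFm heM⟩
  obtain ⟨i, hi⟩ : ∃ i : ℕ, (cls S b).ncard = (Fm '' cls S b).ncard * 2 ^ i := by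
    refine ncard_fibres Fm (core_isPGroup (S := M)) (self_mem_cls wb.hb) ?_ ?_ ?_
    · intro e he hFe
      rw [hFm (hclsb e he), hFm F.self] at hFe
      obtain ⟨q, hq, hqe⟩ := F.mem.cong_conj_exists F.self (hclsb e he) hp0 (hup0 F.self (Commute.refl b))
        (cong_of_proj (L := L) F.self (hclsb e he) hFe.symm)
      refine ⟨q, hq, fun y hy => ?_, hqe⟩
      have h1 := hS.cls_conj (hMcl (core_le hq)) hy
      rw [hqe] at h1
      exact ⟨h1.1, h1.2.trans he.2⟩
    · intro q hq _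
      rw [show q * b * q⁻¹ = ((⟨q, core_le hq⟩ : closure M) : G) * b * ((⟨q, core_le hq⟩ : closure M) : G)⁻¹
        from rfl, hFconj _ b F.self, proj_core hq]
      group
    · intro e he
      obtain ⟨m, hm, hmg, hme⟩ := hS.exists_mid he.1 (hMS hp0) fun hc =>
        hup0 F.self (Commute.refl b) ((commute_iff_of_cls he (hMS hp0)).mp hc.symm).symm
      have hgM : f0 * m ∈ closure M := mul_mem hf0M ((closure_le _).mpr (by
        rintro y (rfl | rfl)
        · exact subset_closure (hclsb y he)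
        · exact subset_closure hp0) hmg)
      have hge : f0 * m * e * (f0 * m)⁻¹ = b := by
        rw [hS.mul_inv hf0 hm]
        calc f0 * m * e * (m * f0) = f0 * (m * e * m) * f0 := by group
          _ = f0 * (f0 * b * f0) * f0 := by rw [hme, hf0b]
          _ = b := by rw [mul_assoc f0 b, hS.self_mul hf0, mul_assoc, hS.sq f0 hf0, mul_one]
      refine ⟨f0 * m, fun y hy => ?_, hge, fun e' he' e'' he'' => ?_⟩
      · have h1 := hS.cls_conj (hMcl hgM) (show y ∈ cls S e from ⟨hy.1, hy.2.trans he.2.symm⟩)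
        rwa [hge] at h1
      · rw [show Fm (f0 * m * e' * (f0 * m)⁻¹) = _ from hFconj ⟨f0 * m, hgM⟩ e' (hclsb e' he'),
          show Fm (f0 * m * e'' * (f0 * m)⁻¹) = _ from hFconj ⟨f0 * m, hgM⟩ e'' (hclsb e'' he'')]
        exact ⟨fun e => by rw [e], fun e => by simpa using e⟩
  have hrd' : r ∣ (invols Sb).ncard := by
    have h1 : r ∣ (cls S b).ncard := hS.ncard_cls_reach (hconn a wb.ha b wb.hb) ▸ hrd
    rw [hi, himg] at h1
    exact ((Nat.coprime_primes hr Nat.prime_two).mpr hr2 |>.pow_right i).dvd_of_dvd_mul_right h1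
  have hSmem : ∀ z ∈ (Sb : Subgroup (LQ M)), φ z ∈ (Sb : Subgroup (LQ M)) := fun z hz => by
    have h1 : φ z ∈ ((φ • Sb : Sylow 2 (LQ M)) : Subgroup (LQ M)) := ⟨z, hz, rfl⟩
    rwa [hφS] at h1
  have hfixS : ∀ z ∈ (Sb : Subgroup (LQ M)), φ z = z := fun z hz =>
    L.pts.fix_sylow Sb ht htS hr hr2 hrd' hφr hSmem hU hC hz
  -- every point is fixed
  have hpts : ∀ T : Sylow 2 (LQ M), φ • T = T := by
    intro T
    by_cases hT : T = Sb
    · rw [hT, hφS]
    · obtain ⟨z, hz, hze⟩ := L.pts.trans Sb d0 T hne hT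
      rw [← hze, smul_smul_point, hfixS z hz, hφd]
  obtain ⟨T, hT⟩ := exists_point (hsq hw)
  have hIw : proj M (el hw) ∈ invols T := ⟨L.ne_one _ hw, hsq hw, hT⟩
  have h1 := invols_map hIw φ
  rw [hpts, hφel hw] at h1
  exact (hcomm (hmap w hw) hw).mp ((L.pts.commute_iff h1 hIw.1 hIw.2.1).mpr hIw.2.2)

end Cfsg.Agent.H76.OddT
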