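import Cfsg.Agent.H76.OddT.Ident
import Cfsg.Agent.H76.OddT.Class
import Cfsg.Prelude.Def_Solvable

/-!
Classes of odd transpositions: the statement of S5052, given `GoodHyp`.
-/

set_option autoImplicit false
set_option linter.style.haveILetI false

namespace Cfsg.Agent.H76.OddT

open Subgroup

universe u

variable {G : Type u} [Group G] {D : Set G}

theorem sameCommutingClass_eq {d : G} : Cfsg.sameCommutingClass D d = cls D d := by
  have h : ∀ a, Cfsg.commutingMembers D a = Cent D a := fun _ => rfl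
  ext e
  exact ⟨fun he => ⟨he.1, by rw [← h, ← h]; exact he.2.symm⟩, fun he => ⟨he.1, by rw [h, h]; exact he.2.symm⟩⟩

theorem exists_noncommuting (hcl : Cfsg.IsRootInvolutionClass D) (hZ : center G = ⊥) (hS : Mem D) {d : G}
    (hd : d ∈ D) : ∃ x ∈ D, ¬ Commute d x := by
  by_contra h
  push Not at h
  refine hS.ne_one d hd ?_
  rw [← mem_bot, ← hZ, mem_center_iff]
  intro g
  have hle : closure D ≤ centralizer {d} := (closure_le _).mpr fun y hy =>
    mem_centralizer_singleton_iff.mpr (h y hy).eq.symm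
  rw [hcl.1.generates] at hle
  exact mem_centralizer_singleton_iff.mp (hle (mem_top g))

variable [Finite G]

theorem core_eq_bot (hgen : closure D = ⊤) (hO : Cfsg.pCore 2 G = ⊥) : core D = ⊥ := by
  haveI : (core D).Normal := ⟨fun q hq g => core_normalized (hgen ▸ mem_top g) hq⟩
  rw [eq_bot_iff, ← hO]
  exact Cores.le_pCore core_isPGroup

/-- The statement of S5052. -/
theorem root_group (hGood : H3.RootInv.GoodHyp.{u}) (hD : Cfsg.IsOddTranspositionSet D)
    (hcl : Cfsg.IsRootInvolutionClass D) (hO : Cfsg.pCore 2 G = ⊥) (hZ : center G = ⊥)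
    (hDD : (D ∩ Cfsg.commutingProducts D).Nonempty) (hc : Cfsg.IsConnectedSet (Cfsg.CommAdj D) D) {d : G}
    (hd : d ∈ D) :
    (Cfsg.sameCommutingSubgroup D d : Set G) = Cfsg.sameCommutingClass D d ∪ {1} ∧
    ∀ x ∈ Cfsg.oddPartners D d, ∃ (F : Type) (_ : Field F) (_ : Fintype F),
      Fintype.card F = Nat.card ↥(Cfsg.sameCommutingSubgroup D d) ∧
      Nonempty (↥(closure (Cfsg.sameCommutingClass D d ∪ {x})) ≃* Matrix.ProjectiveSpecialLinearGroup (Fin 2) F) := by
  have hS := mem_of_class hD hcl hDD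
  obtain ⟨x0, hx0, hdx0⟩ := exists_noncommuting hcl hZ hS hd
  have B : Big D := ⟨hS, conn_of_class hS hcl hd hx0 hdx0, hc, core_eq_bot hcl.1.generates hO⟩
  simp only [Cfsg.sameCommutingSubgroup]
  have hE := sameCommutingClass_eq (D := D) (d := d)
  revert hE
  generalize Cfsg.sameCommutingClass D d = E
  rintro rfl
  refine ⟨Set.Subset.antisymm (fun u hu => ?_) ?_, fun x hx => ?_⟩
  · by_cases h1 : u = 1
    · exact Or.inr h1
    · exact Or.inl (B.closure_cls hGood Bridge.bender hd hx0 hdx0 hu h1)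
  · rintro u (hu | rfl)
    · exact subset_closure hu
    · exact one_mem _
  · have h := B.line_iso hGood Bridge.bender hd hx.1 (not_commute_of_oddPartner hS hd hx)
    simp only [gen] at h
    exact h

end Cfsg.Agent.H76.OddT
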