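import Cfsg.Agent.H76.OddT.Opposite
import Cfsg.Agent.H76.OddT.ClassTwo
import Cfsg.Agent.H76.OddT.Unitary
import Cfsg.Agent.S0206
import Cfsg.Agent.S0331
import Cfsg.Prelude.Def_Sz

/-!
The group generated by a class and an odd partner, modulo its 2-core: the statement of S5051, given `GoodHyp`.
-/

set_option autoImplicit false
set_option linter.style.haveILetI false

namespace Cfsg.Agent.H76.OddT

open Subgroup MulAction
open scoped commutatorElement

universe u

theorem exists_conj_of_odd {K : Type*} [Group K] {a b : K} (ha : a * a = 1) (hb : b * b = 1)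
    (h : Odd (orderOf (a * b))) : ∃ g : K, g * a * g⁻¹ = b := by
  obtain ⟨k, hk⟩ := h
  set r := a * b with hr
  have har : a * r * a⁻¹ = r⁻¹ := by
    rw [hr, mul_inv_rev, inv_eq_of_mul_eq_one_left ha, inv_eq_of_mul_eq_one_left hb, ← mul_assoc a a, ha, one_mul]
  have har' : a * r⁻¹ * a⁻¹ = r := by
    rw [show a * r⁻¹ * a⁻¹ = (a * r * a⁻¹)⁻¹ by group, har, inv_inv]
  refine ⟨r ^ k, ?_⟩
  have h3 : a * (r ^ k)⁻¹ * a⁻¹ = r ^ k := by rw [← inv_pow, ← conj_pow, har']
  calc r ^ k * a * (r ^ k)⁻¹ = r ^ k * (a * (r ^ k)⁻¹ * a⁻¹) * a := by group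
    _ = r ^ (k + k) * a := by rw [h3, pow_add]
    _ = r⁻¹ * a := by
      rw [eq_inv_of_mul_eq_one_left (show r ^ (k + k) * r = 1 by
        rw [← pow_succ, ← two_mul, ← hk, pow_orderOf_eq_one])]
    _ = b := by rw [hr, mul_inv_rev, mul_assoc, inv_mul_cancel, mul_one, inv_eq_of_mul_eq_one_left hb]

/-- The odd Sylow subgroups of a group `Sz(q)` or `L₂(q)` are cyclic. -/
theorem isCyclic_of_odd_pGroup {Q : Type u} [Group Q] [Finite Q]
    (hQ : (∃ (F : Type) (_ : Field F) (_ : Fintype F), CharP F 2 ∧ 4 ≤ Fintype.card F ∧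
      Nonempty (Q ≃* Matrix.ProjectiveSpecialLinearGroup (Fin 2) F)) ∨ Cfsg.Lie.IsoSuzuki Q)
    {r : ℕ} [Fact r.Prime] (hr : r ≠ 2) (H : Subgroup Q) (hH : IsPGroup r H) : IsCyclic H := by
  rcases hQ with ⟨F, _, _, _, -, ⟨e⟩⟩ | ⟨F, _, _, m, hm, hF, ⟨e⟩⟩
  · obtain ⟨eSL⟩ := PostBender.nonempty_equiv_sl_two e
    haveI : Fact (Nat.Prime 2) := ⟨Nat.prime_two⟩
    haveI := H27.ProjLine.isCyclic_sl_two_subgroup 2 r hr hr _ (hH.map eSL.toMonoidHom)
    exact isCyclic_of_injective (H.equivMapOfInjective eSL.toMonoidHom eSL.injective).toMonoidHom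
      (MulEquiv.injective _)
  · haveI : Suzuki.SzField F m := ⟨hF, hm⟩
    set ψ := e.trans (Suzuki.lieEquiv (F := F) m).symm
    obtain ⟨P, hP⟩ := (hH.map ψ.toMonoidHom).exists_le_sylow
    haveI := Cfsg.Agent.S0331.result hm hF hr P
    exact isCyclic_of_injective ((inclusion hP).comp (H.equivMapOfInjective ψ.toMonoidHom ψ.injective).toMonoidHom)
      ((inclusion_injective hP).comp (MulEquiv.injective _))

/-- The three cases for a group generated by a class and an opposite member, with trivial 2-core. -/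
theorem quotient_cases (hGood : H3.RootInv.GoodHyp.{u}) (hBend : PostBender.BenderHyp.{u})
    {Y : Type u} [Group Y] [Finite Y] {C : Set Y} (hC : Cls C) (hO : Cfsg.pCore 2 Y = ⊥) {d x : Y}
    (h : Opp C d x) :
    (∃ (F : Type) (_ : Field F) (_ : Fintype F), CharP F 2 ∧ 4 ≤ Fintype.card F ∧
      Nonempty (Y ≃* Matrix.ProjectiveSpecialLinearGroup (Fin 2) F)) ∨
    Cfsg.Lie.IsoSuzuki Y ∨ (∃ n : ℕ, Nonempty (Y ≃* DihedralGroup n)) := by
  have hord : ∀ s ∈ C, orderOf s = 2 := fun s hs =>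
    orderOf_eq_prime (by rw [pow_two, hC.sq s hs]) (hC.ne_one s hs)
  by_cases hno : ∀ a ∈ C, ∀ b ∈ C, Commute a b → a * b ∉ C
  · -- dihedral
    refine Or.inr (Or.inr ⟨orderOf (d * x), ?_⟩)
    obtain ⟨e⟩ := Cfsg.Agent.S0206.result d x (hord d h.hd) (hord x h.hz)
      (fun hdx => h.ncomm (hdx ▸ Commute.refl d))
    have hcl : cls C d = {d} := Set.eq_singleton_iff_unique_mem.mpr
      ⟨self_mem_cls h.hd, fun e he => h.cls_trivial hC hO hno he⟩
    have htop : closure ({d, x} : Set Y) = ⊤ := by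
      rw [← h.top, hcl, Set.singleton_union]
    exact ⟨(topEquiv.symm.trans (MulEquiv.subgroupCongr htop.symm)).trans e⟩
  push Not at hno
  obtain ⟨a₀, ha₀, b₀, hb₀, hab₀, hm₀⟩ := hno
  have hM : Mem C :=
    { sq := hC.sq
      ne_one := hC.ne_one
      conj := fun s hs t ht => by have := hC.conj t ht s; rwa [hC.inv_eq hs] at this
      odd := hC.odd
      partner := fun s hs => by
        obtain ⟨g, rfl⟩ := hC.trans b₀ hb₀ s hs
        refine ⟨g * a₀ * g⁻¹, hC.conj a₀ ha₀ g, fun e => ?_, (Commute.conj_iff g).mpr hab₀, ?_⟩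
        · refine hC.ne_one _ hm₀ ?_
          rw [mul_left_cancel (mul_right_cancel e), hC.sq b₀ hb₀]
        · rw [show g * a₀ * g⁻¹ * (g * b₀ * g⁻¹) = g * (a₀ * b₀) * g⁻¹ by group]
          exact hC.conj _ hm₀ g }
  have hgen : closure C = ⊤ := by
    rw [eq_top_iff, ← h.top]
    refine closure_mono ?_
    rintro y (hy | rfl)
    · exact hy.1
    · exact h.hz
  have hcl : Cfsg.IsRootInvolutionClass C := by
    refine ⟨⟨hord, hgen, fun s hs g => hC.conj s hs g, fun s hs t ht => ?_⟩, ⟨d, h.hd⟩, fun s hs t ht => ?_⟩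
    · rcases hC.odd s hs t ht with e | e
      · exact Or.inl e.eq
      · exact Or.inr (Or.inl e)
    · obtain ⟨g, hg⟩ := hC.trans s hs t ht
      exact ⟨g, hg.symm⟩
  have hconn := conn_of_class hM hcl h.hd h.hz h.ncomm
  -- no common neighbour, so a line
  have hnl : ¬ Linked C := by
    intro hl
    have hcomp : OddT.comp C d = C := Set.ext fun s => ⟨fun e => e.1, fun e => ⟨e, hconn d h.hd s e⟩⟩
    obtain ⟨c, hc, hcd, hcx⟩ :=
      (pr_and_cn hGood hBend C hM).2 d h.hd x h.hz h.ncomm (by rwa [hcomp])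
    exact hC.ne_one c hc.1 (no_central_involution hO (hC.sq c hc.1)
      (h.central (fun e he => commute_of_cls he hc.1 hcd) hcx))
  have L := hM.isLine hGood hBend hnl
  set X := ↥(closure C)
  set π := proj C
  let ι : X ≃* Y := (MulEquiv.subgroupCongr hgen).trans topEquiv
  have hOX : Cfsg.pCore 2 X = ⊥ := by
    rw [← Cores.pCore_map_mulEquiv ι.symm, hO, Subgroup.map_bot]
  have hsq : ∀ {s : Y} (hs : s ∈ C), π (el hs) * π (el hs) = 1 := fun {s} hs => by
    rw [← map_mul, show el hs * el hs = 1 from Subtype.ext (hC.sq s hs), map_one]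
  obtain ⟨P, hP⟩ := exists_point (hsq h.hd)
  obtain ⟨R, hR⟩ := exists_point (hsq h.hz)
  have hId : π (el h.hd) ∈ invols P := ⟨L.ne_one _ h.hd, hsq h.hd, hP⟩
  have hinv : ∀ {s : Y} (hs : s ∈ C), Commute s d → π (el hs) ∈ invols P := fun {s} hs hsd =>
    ⟨L.ne_one _ hs, hsq hs, (L.pts.commute_iff hId (L.ne_one (el hs) hs) (hsq hs)).mp
      ((L.commute_iff _ h.hd _ hs).mpr (Subtype.ext hsd.eq.symm))⟩
  have hQ : (∃ (F : Type) (_ : Field F) (_ : Fintype F), CharP F 2 ∧ 4 ≤ Fintype.card F ∧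
      Nonempty (LQ C ≃* Matrix.ProjectiveSpecialLinearGroup (Fin 2) F)) ∨ Cfsg.Lie.IsoSuzuki (LQ C) := by
    rcases L.bender with hl | hsz | ⟨F, _, _, q, hq, heven, -, ⟨e⟩⟩
    · exact Or.inl hl
    · exact Or.inr hsz
    exfalso
    haveI := PostBender.charP_two_of_card hq heven
    have hRP : R ≠ P := by
      intro e'
      subst e'
      exact h.ncomm (congrArg Subtype.val ((L.commute_iff _ h.hd _ h.hz).mp
        ((L.pts.commute_iff hId (L.ne_one (el h.hz) h.hz) (hsq h.hz)).mpr hR)).eq)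
    have hall : ∀ y : LQ C, y ∈ closure (invols P ∪ invols R) := by
      intro y
      obtain ⟨k, rfl⟩ := L.surj y
      have hle : closure (cls C d ∪ {x}) ≤
          ((closure (invols P ∪ invols R)).comap π).map (closure C).subtype := by
        rw [closure_le]
        rintro z (hz | rfl)
        · exact ⟨el hz.1, subset_closure (Or.inl (hinv hz.1
            (commute_of_cls hz h.hd (Commute.refl d)).symm)), rfl⟩
        · exact ⟨el h.hz, subset_closure (Or.inr ⟨L.ne_one _ h.hz, hsq h.hz, hR⟩), rfl⟩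
      obtain ⟨k', hk', hkk⟩ := hle (h.top ▸ mem_top (k : Y))
      exact Subtype.ext hkk ▸ hk'
    have hP2 : ∀ z ∈ (P : Subgroup (LQ C)), z * z = 1 := fun z hz =>
      sq_of_mem_closure_invols hq e hRP hz (hall z)
    refine H10.AbTwo.psu_sylow_nonabelian hq e P ⟨⟨fun p p' => Subtype.ext ?_⟩⟩
    show (p : LQ C) * p' = p' * p
    have h2 := inv_eq_of_mul_eq_one_left (hP2 _ (mul_mem p.2 p'.2))
    rwa [mul_inv_rev, inv_eq_of_mul_eq_one_left (hP2 _ p.2), inv_eq_of_mul_eq_one_left (hP2 _ p'.2),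
      eq_comm] at h2
  have hcen : π.ker ≤ center X := by
    intro z hz
    rw [L.ker] at hz
    rw [mem_center_iff]
    intro g
    have h1 : QuotientGroup.mk' (Cfsg.pCore 2 X) (g * z * (z * g)⁻¹) = 1 := by
      rw [map_mul, map_inv, map_mul, map_mul, mem_center_iff.mp hz, mul_inv_cancel]
    rw [QuotientGroup.mk'_apply, QuotientGroup.eq_one_iff, hOX, mem_bot] at h1
    exact mul_inv_eq_one.mp h1
  have hnoinv : ∀ z ∈ π.ker, z * z = 1 → z = 1 := fun z hz hz2 =>
    no_central_involution hOX hz2 fun g => mem_center_iff.mp (hcen hz) g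
  have hodd : ∀ z ∈ π.ker, Odd (orderOf z) := by
    intro z hz
    refine Nat.not_even_iff_odd.mp fun hev => ?_
    have ho := orderOf_pow_orderOf_div (orderOf_pos z).ne' hev.two_dvd
    have h2 := pow_orderOf_eq_one (z ^ (orderOf z / 2))
    rw [ho, pow_two] at h2
    rw [hnoinv _ (pow_mem hz _) h2, orderOf_one] at ho
    omega
  -- perfect
  have hperf : commutator X = ⊤ := by
    obtain ⟨e, he, hne, hed, hm⟩ := hM.partner d h.hd
    have hIe := hinv he hed
    have hIm := hinv hm (hed.mul_left (Commute.refl d))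
    obtain ⟨t, ht, htP⟩ := L.pts.exists_invol_move P
    obtain ⟨T, -, hT, htrans, -⟩ := L.pts.torus ht htP
    obtain ⟨c, -, hce⟩ := htrans _ hIe _ hIm
    obtain ⟨k, rfl⟩ := L.surj c
    set c₀ := ⁅k, el he⁆ with hc₀
    have hc₀mem : c₀ ∈ commutator X := commutator_mem_commutator (mem_top _) (mem_top _)
    have hc₀π : π c₀ = π (el h.hd) := by
      rw [hc₀, map_commutatorElement, commutatorElement_def, hce, ← map_inv, ← map_mul]
      refine congrArg π (Subtype.ext ?_)
      show e * d * e⁻¹ = d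
      rw [hed.eq, mul_inv_cancel_right]
    have hz : c₀⁻¹ * el h.hd ∈ π.ker := by
      rw [MonoidHom.mem_ker, map_mul, map_inv, hc₀π, inv_mul_cancel]
    set z := c₀⁻¹ * el h.hd with hzdef
    have hz2 : z ^ 2 ∈ commutator X := by
      have h1 : z ^ 2 = c₀⁻¹ * (el h.hd * c₀⁻¹ * (el h.hd)⁻¹) * (el h.hd * el h.hd) := by
        rw [pow_two, hzdef]; group
      rw [h1, show el h.hd * el h.hd = 1 from Subtype.ext (hC.sq d h.hd), mul_one]
      exact mul_mem (inv_mem hc₀mem) ((inferInstance : (commutator X).Normal).conj_mem _ (inv_mem hc₀mem) _)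
    have hzmem : z ∈ commutator X := by
      obtain ⟨j, hj⟩ := hodd z hz
      have h1 : z = (z ^ 2) ^ (j + 1) := by
        rw [← pow_mul, show 2 * (j + 1) = orderOf z + 1 by omega, pow_succ, pow_orderOf_eq_one, one_mul]
      rw [h1]; exact pow_mem hz2 _
    have hdmem : el h.hd ∈ commutator X := by
      have := mul_mem hc₀mem hzmem
      rwa [hzdef, mul_inv_cancel_left] at this
    have hle : closure ((Subtype.val : X → Y) ⁻¹' C) ≤ commutator X := (closure_le _).mpr fun s hs => by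
      obtain ⟨g, hg⟩ := hC.trans d h.hd _ hs
      rw [show s = (⟨g, hgen ▸ mem_top g⟩ : X) * el h.hd * (⟨g, hgen ▸ mem_top g⟩ : X)⁻¹ from
        Subtype.ext hg.symm]
      exact (inferInstance : (commutator X).Normal).conj_mem _ hdmem _
    rw [closure_closure_coe_preimage] at hle
    exact eq_top_iff.mpr hle
  -- the kernel is trivial
  have hker : π.ker = ⊥ := by
    rw [eq_bot_iff]
    intro z hz
    rw [mem_bot]
    by_contra hz1
    obtain ⟨r, hr, hrd⟩ := Nat.exists_prime_and_dvd (fun e => hz1 (orderOf_eq_one_iff.mp e))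
    haveI := Fact.mk hr
    have hr2 : r ≠ 2 := by
      rintro rfl
      exact Nat.not_odd_iff_even.mpr (even_iff_two_dvd.mpr hrd) (hodd z hz)
    have hord' : orderOf (z ^ (orderOf z / r)) = r := orderOf_pow_orderOf_div (orderOf_pos z).ne' hrd
    obtain ⟨Rr, hRr⟩ := (IsPGroup.of_card (p := r) (n := 1) (G := zpowers (z ^ (orderOf z / r)))
      (by rw [Nat.card_zpowers, hord', pow_one])).exists_le_sylow
    have hRab : IsMulCommutative ↥(Rr : Subgroup X) := by
      let η : ↥(Rr : Subgroup X) →* LQ C := π.comp (Rr : Subgroup X).subtype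
      have hRη : IsPGroup r η.range := Rr.isPGroup'.of_surjective η.rangeRestrict η.rangeRestrict_surjective
      haveI : IsCyclic η.range := isCyclic_of_odd_pGroup hQ hr2 _ hRη
      refine ⟨⟨fun a c => commutative_of_cyclic_center_quotient η.rangeRestrict (fun k hk => ?_) a c⟩⟩
      rw [mem_center_iff]
      intro g
      exact Subtype.ext (mem_center_iff.mp (hcen (MonoidHom.mem_ker.mpr
        (congrArg Subtype.val (MonoidHom.mem_ker.mp hk)) : (k : X) ∈ π.ker)) g)
    have h1 := H25.eq_one_of_mem_commutator_of_mem_center (Rr : Subgroup X) hRab Rr.card_coprime_index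
      (hRr (mem_zpowers _)) (pow_mem (hcen hz) _) (by rw [hperf]; exact mem_top _)
    rw [h1, orderOf_one] at hord'
    exact hr.ne_one hord'.symm
  let θ : Y ≃* LQ C := ι.symm.trans (MulEquiv.ofBijective π ⟨(MonoidHom.ker_eq_bot_iff π).mp hker, L.surj⟩)
  rcases hQ with ⟨F, iF, iF', hch, hcard, ⟨e⟩⟩ | ⟨F, iF, iF', m, hm, hF, ⟨e⟩⟩
  · exact Or.inl ⟨F, iF, iF', hch, hcard, ⟨θ.trans e⟩⟩
  · exact Or.inr (Or.inl ⟨F, iF, iF', m, hm, hF, ⟨θ.trans e⟩⟩)

/-- The statement of S5051. -/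
theorem class_with_partner (hGood : H3.RootInv.GoodHyp.{u}) {G : Type u} [Group G] [Finite G] {D : Set G}
    (hD : Cfsg.IsOddTranspositionSet D) {d x : G} (hd : d ∈ D) (hx : x ∈ Cfsg.oddPartners D d) :
    (∃ (F : Type) (_ : Field F) (_ : Fintype F), CharP F 2 ∧ 4 ≤ Fintype.card F ∧
      Nonempty ((↥(closure (Cfsg.sameCommutingClass D d ∪ {x})) ⧸
        Cfsg.pCore 2 ↥(closure (Cfsg.sameCommutingClass D d ∪ {x}))) ≃*
          Matrix.ProjectiveSpecialLinearGroup (Fin 2) F)) ∨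
    Cfsg.Lie.IsoSuzuki ((↥(closure (Cfsg.sameCommutingClass D d ∪ {x})) ⧸
        Cfsg.pCore 2 ↥(closure (Cfsg.sameCommutingClass D d ∪ {x})))) ∨
    (∃ n : ℕ, Nonempty ((↥(closure (Cfsg.sameCommutingClass D d ∪ {x})) ⧸
        Cfsg.pCore 2 ↥(closure (Cfsg.sameCommutingClass D d ∪ {x}))) ≃* DihedralGroup n)) := by
  have hE := sameCommutingClass_eq (D := D) (d := d)
  revert hE
  generalize Cfsg.sameCommutingClass D d = E
  rintro rfl
  have hsqD : ∀ {s : G}, s ∈ D → s * s = 1 := fun hs => sq_of_root hD.1 hs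
  have hoddD : ∀ {s t : G}, s ∈ D → t ∈ D → Commute s t ∨ Odd (orderOf (s * t)) := by
    intro s t hs ht
    rcases hD.1.pair s hs t ht with e | e | e
    · exact Or.inl e
    · exact Or.inr e
    · exact absurd e.1 (hD.2 s hs t ht)
  have hdx : ¬ Commute d x := by
    intro hc
    refine hx.2.1 ?_
    have h1 := eq_one_of_odd_pow (c := d * x) (by
      rw [mul_assoc, ← mul_assoc x, ← hc.eq, mul_assoc d x x, hsqD hx.1, mul_one, hsqD hd]) hx.2.2
      (pow_orderOf_eq_one _)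
    rw [eq_inv_of_mul_eq_one_right h1, inv_eq_of_mul_eq_one_left (hsqD hd)]
  set X := closure (cls D d ∪ {x})
  set φ : ↥X →* ↥X ⧸ Cfsg.pCore 2 ↥X := QuotientGroup.mk' _
  have hsqX : ∀ {a : ↥X}, (a : G) ∈ D → a * a = 1 := fun ha => Subtype.ext (hsqD ha)
  have hcm : ∀ {a b : ↥X}, (a : G) ∈ D → (b : G) ∈ D → Commute (φ a) (φ b) → Commute (a : G) b := by
    intro a b ha hb hc
    refine (hoddD ha hb).elim id fun hodd => ?_
    have hodd' : Odd (orderOf (a * b)) := by rwa [← Subgroup.orderOf_coe]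
    have h1 : φ ((a * b) ^ 2) = 1 := by
      rw [map_pow, map_mul, pow_two, mul_assoc, ← mul_assoc (φ b), ← hc.eq, mul_assoc (φ a) (φ b),
        ← map_mul φ b b, hsqX hb, map_one, mul_one, ← map_mul, hsqX ha, map_one]
    obtain ⟨k, hk⟩ := Cores.pCore_isPGroup (p := 2) ⟨_, (QuotientGroup.eq_one_iff _).mp h1⟩
    have hk' : ((a * b) ^ 2) ^ 2 ^ k = 1 := congrArg Subtype.val hk
    rw [← pow_mul, ← pow_succ'] at hk'
    have h2 : a * b = 1 := orderOf_eq_one_iff.mp (Nat.dvd_one.mp (by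
      have hd1 := orderOf_dvd_of_pow_eq_one hk'
      have hcop : Nat.Coprime (orderOf (a * b)) (2 ^ (k + 1)) := (hodd'.coprime_two_right).pow_right _
      exact (Nat.dvd_gcd dvd_rfl hd1).trans (by rw [hcop])))
    rw [← inv_eq_of_mul_eq_one_right h2]
    exact (Commute.refl _).inv_right
  set dd : ↥X := ⟨d, subset_closure (Or.inl (self_mem_cls hd))⟩
  set xx : ↥X := ⟨x, subset_closure (Or.inr rfl)⟩
  set C : Set (↥X ⧸ Cfsg.pCore 2 ↥X) := {y | ∃ w, w * φ dd * w⁻¹ = y}
  have hpre : ∀ y ∈ C, ∃ a : ↥X, (a : G) ∈ D ∧ φ a = y := by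
    rintro _ ⟨w, rfl⟩
    obtain ⟨W, rfl⟩ := QuotientGroup.mk'_surjective _ w
    exact ⟨W * dd * W⁻¹, hD.1.conj_mem d hd _, by rw [map_mul, map_mul, map_inv]⟩
  have hC : Cls C := by
    refine ⟨?_, ?_, ?_, ?_, ?_⟩
    · intro y hy
      obtain ⟨a, ha, rfl⟩ := hpre y hy
      rw [← map_mul, hsqX ha, map_one]
    · rintro _ ⟨w, rfl⟩ he
      rw [mul_inv_eq_one, mul_eq_left] at he
      exact hdx (hcm (a := dd) (b := xx) hd hx.1 (he ▸ Commute.one_left _))
    · rintro _ ⟨w, rfl⟩ g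
      exact ⟨g * w, by group⟩
    · intro s hs t ht
      obtain ⟨a, ha, rfl⟩ := hpre s hs
      obtain ⟨b, hb, rfl⟩ := hpre t ht
      rcases hoddD ha hb with e | e
      · exact Or.inl ((show Commute a b from Subtype.ext e.eq).map φ)
      · refine Or.inr (Odd.of_dvd_nat e ?_)
        rw [← map_mul, show (a : G) * b = ((a * b : ↥X) : G) from rfl, Subgroup.orderOf_coe]
        exact orderOf_map_dvd φ _
    · rintro _ ⟨v, rfl⟩ _ ⟨w, rfl⟩
      exact ⟨w * v⁻¹, by group⟩
  have hconj : ∀ {a b : ↥X}, (a : G) ∈ D → (b : G) ∈ D → ¬ Commute (a : G) b → φ a ∈ C → φ b ∈ C := by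
    intro a b ha hb hne haC
    have hodd := (hoddD ha hb).resolve_left hne
    rw [show (a : G) * b = ((a * b : ↥X) : G) from rfl, Subgroup.orderOf_coe] at hodd
    obtain ⟨g, hg⟩ := exists_conj_of_odd (hsqX ha) (hsqX hb) hodd
    rw [← hg, map_mul, map_mul, map_inv]
    exact hC.conj _ haC _
  have hdC : φ dd ∈ C := ⟨1, by simp⟩
  have hxC : φ xx ∈ C := hconj (a := dd) (b := xx) hd hx.1 hdx hdC
  have hEC : ∀ e, ∀ he : e ∈ cls D d, φ ⟨e, subset_closure (Or.inl he)⟩ ∈ cls C (φ dd) := by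
    intro e he
    have hxe : ¬ Commute x e := fun hc => hdx ((commute_iff_of_cls he hx.1).mp hc).symm
    refine ⟨hconj (a := xx) (b := ⟨e, _⟩) hx.1 he.1 hxe hxC, ?_⟩
    ext y
    constructor <;> rintro ⟨hy, hc⟩ <;> refine ⟨hy, ?_⟩ <;> obtain ⟨a, ha, rfl⟩ := hpre y hy
    · have h1 := (commute_iff_of_cls he ha).mp (hcm (b := ⟨e, _⟩) ha he.1 hc)
      exact (show Commute a dd from Subtype.ext h1.eq).map φ
    · have h1 := (commute_iff_of_cls he ha).mpr (hcm (b := dd) ha hd hc)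
      exact (show Commute a ⟨e, _⟩ from Subtype.ext h1.eq).map φ
  have hOpp : Opp C (φ dd) (φ xx) := by
    refine ⟨hdC, hxC, fun hc => hdx (hcm (a := dd) (b := xx) hd hx.1 hc), ?_⟩
    rw [eq_top_iff, ← MonoidHom.range_eq_top.mpr (QuotientGroup.mk'_surjective (Cfsg.pCore 2 ↥X)),
      MonoidHom.range_eq_map, ← closure_closure_coe_preimage (k := cls D d ∪ {x}), MonoidHom.map_closure,
      closure_le]
    rintro _ ⟨⟨z, hz⟩, hzp, rfl⟩
    rcases hzp with hzp | hzp
    · exact subset_closure (Or.inl (hEC z hzp))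
    · have hzx : z = x := hzp
      subst hzx
      exact subset_closure (Or.inr rfl)
  exact quotient_cases hGood Bridge.bender hC Cores.pCore_quotient_pCore hOpp

end Cfsg.Agent.H76.OddT
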