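import Cfsg.Agent.H76.OddT.Basic
import Cfsg.Agent.Cores.PCore
import Cfsg.Prelude.Def_CaseTheorems
import Mathlib.GroupTheory.PGroup

/-!
The 2-core of the group generated by a set of odd transpositions: congruent members, fixed members in
invariant cosets, and the inverter lemma.
-/

set_option autoImplicit false
set_option linter.style.haveILetI false

namespace Cfsg.Agent.H76.OddT

open Subgroup MulAction

variable {G : Type*} [Group G] {S : Set G}

/-- `O₂(⟨S⟩)`. -/
def core (S : Set G) : Subgroup G :=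
  (Cfsg.pCore 2 ↥(closure S)).map (closure S).subtype

/-- Congruent modulo `O₂(⟨S⟩)`. -/
def Cong (S : Set G) (u v : G) : Prop := u * v ∈ core S

theorem core_le : core S ≤ closure S := map_subtype_le _

theorem core_isPGroup : IsPGroup 2 (core S) := (Cores.pCore_isPGroup (p := 2)).map _

theorem core_normalized {g : G} (hg : g ∈ closure S) {x : G} (hx : x ∈ core S) :
    g * x * g⁻¹ ∈ core S := by
  obtain ⟨y, hy, rfl⟩ := hx
  exact ⟨⟨g, hg⟩ * y * ⟨g, hg⟩⁻¹, (Cfsg.pCore_normal 2 _).conj_mem y hy _, rfl⟩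

theorem le_core {P : Subgroup G} (hP : IsPGroup 2 P) (hle : P ≤ closure S)
    (hn : ∀ g ∈ closure S, ∀ x ∈ P, g * x * g⁻¹ ∈ P) : P ≤ core S := by
  haveI : (P.subgroupOf (closure S)).Normal := ⟨fun x hx g => hn g g.2 x hx⟩
  have h := Cores.le_pCore (p := 2) (N := P.subgroupOf (closure S)) hP.comap_subtype
  intro x hx
  exact ⟨⟨x, hle hx⟩, h hx, rfl⟩

theorem core_conj_mem {g : G} (hg : ∀ t ∈ S, g * t * g⁻¹ ∈ S) (hg' : ∀ t ∈ S, g⁻¹ * t * g ∈ S) {x : G}
    (hx : x ∈ core S) : g * x * g⁻¹ ∈ core S := by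
  have key : ∀ {g : G}, (∀ t ∈ S, g * t * g⁻¹ ∈ S) → ∀ y ∈ closure S, g * y * g⁻¹ ∈ closure S :=
    fun {g} hg y hy => ((closure_le (K := (closure S).comap (MulAut.conj g).toMonoidHom)).mpr
      (fun t ht => show g * t * g⁻¹ ∈ closure S from subset_closure (hg t ht))) hy
  have hg2 : ∀ t ∈ S, g⁻¹ * t * g⁻¹⁻¹ ∈ S := fun t ht => by rw [inv_inv]; exact hg' t ht
  have hle : (core S).map (MulAut.conj g).toMonoidHom ≤ closure S := by
    rintro _ ⟨y, hy, rfl⟩
    exact key hg y (core_le hy)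
  refine le_core (core_isPGroup.map _) hle ?_ (mem_map_of_mem _ hx)
  rintro k hk _ ⟨y, hy, rfl⟩
  refine ⟨g⁻¹ * k * g⁻¹⁻¹ * y * (g⁻¹ * k * g⁻¹⁻¹)⁻¹, core_normalized (key hg2 k hk) hy, ?_⟩
  simp [mul_assoc]

theorem pow_two_pow_of_core {x : G} (hx : x ∈ core S) : ∃ k : ℕ, x ^ 2 ^ k = 1 := by
  obtain ⟨k, hk⟩ := core_isPGroup ⟨x, hx⟩
  exact ⟨k, by simpa using congrArg Subtype.val hk⟩

theorem eq_one_of_core_of_odd {x : G} (hx : x ∈ core S) (hodd : Odd (orderOf x)) : x = 1 := by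
  obtain ⟨k, hk⟩ := pow_two_pow_of_core hx
  have h := orderOf_dvd_of_pow_eq_one hk
  exact orderOf_eq_one_iff.mp (((Nat.coprime_two_right.mpr hodd).pow_right k).eq_one_of_dvd h)

variable (hS : Mem S)
include hS

theorem Mem.cong_commute {u v : G} (hu : u ∈ S) (hv : v ∈ S) (h : Cong S u v) : Commute u v := by
  by_contra hc
  have h1 := eq_one_of_core_of_odd h (hS.odd_of_not_commute hu hv hc)
  exact hc (by rw [(eq_inv_of_mul_eq_one_left h1).trans (hS.inv_eq hv)])

theorem Mem.cong_symm {u v : G} (hu : u ∈ S) (hv : v ∈ S) (h : Cong S u v) : Cong S v u := by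
  show v * u ∈ core S
  rw [← hS.mul_inv hu hv]; exact inv_mem h

theorem Mem.cong_trans {u v w : G} (hv : v ∈ S) (h : Cong S u v) (h' : Cong S v w) : Cong S u w := by
  show u * w ∈ core S
  rw [show u * w = u * v * (v * w) by rw [mul_assoc, hS.self_mul hv]]
  exact mul_mem h h'

theorem Mem.cong_self {u : G} (hu : u ∈ S) : Cong S u u := by
  show u * u ∈ core S
  rw [hS.sq u hu]; exact one_mem _

theorem Mem.cong_conj [Finite G] {g : G} (hg : ∀ t ∈ S, g * t * g⁻¹ ∈ S)
    (hg' : ∀ t ∈ S, g⁻¹ * t * g ∈ S) {u v : G} (h : Cong S u v) :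
    Cong S (g * u * g⁻¹) (g * v * g⁻¹) := by
  show g * u * g⁻¹ * (g * v * g⁻¹) ∈ core S
  rw [show g * u * g⁻¹ * (g * v * g⁻¹) = g * (u * v) * g⁻¹ by group]
  exact core_conj_mem hg hg' h

theorem Mem.commute_of_cong {u v y : G} (hu : u ∈ S) (hv : v ∈ S) (hy : y ∈ S) (h : Cong S u v)
    (hc : Commute y u) : Commute y v := by
  by_contra hyv
  have hodd := hS.odd_of_not_commute hy hv hyv
  have hvu : v * u ∈ core S := hS.cong_symm hu hv h
  have h1 : y * v * (y * v) ∈ core S := by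
    have h2 : y * (v * u) * y⁻¹ * (v * u)⁻¹ ∈ core S :=
      mul_mem (core_normalized (subset_closure hy) hvu) (inv_mem hvu)
    have h3 : y * (v * u) * y⁻¹ * (v * u)⁻¹ = y * v * (y * v) := by
      rw [hS.inv_eq hy, hS.mul_inv hv hu]
      calc y * (v * u) * y * (u * v) = y * v * (u * y) * (u * v) := by group
        _ = y * v * (y * u) * (u * v) := by rw [hc.eq]
        _ = y * v * y * (u * u) * v := by group
        _ = y * v * (y * v) := by rw [hS.sq u hu]; group
    rwa [h3] at h2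
  obtain ⟨j, hj⟩ := pow_two_pow_of_core h1
  have h4 : (y * v) ^ 2 ^ (j + 1) = 1 := by rw [pow_succ', pow_mul, pow_two, hj]
  have h5 := ((Nat.coprime_two_right.mpr hodd).pow_right (j + 1)).eq_one_of_dvd (orderOf_dvd_of_pow_eq_one h4)
  rw [orderOf_eq_one_iff] at h5
  exact hyv (by rw [(eq_inv_of_mul_eq_one_left h5).trans (hS.inv_eq hv)])

theorem Mem.cong_commute_iff {u v y : G} (hu : u ∈ S) (hv : v ∈ S) (hy : y ∈ S) (h : Cong S u v) :
    Commute y u ↔ Commute y v :=
  ⟨hS.commute_of_cong hu hv hy h, hS.commute_of_cong hv hu hy (hS.cong_symm hu hv h)⟩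

theorem Mem.orderOf_eq_of_cong {b u v : G} (hb : b ∈ S) (hu : u ∈ S) (hv : v ∈ S) (h : Cong S u v)
    (hu' : ¬ Commute b u) : orderOf (b * v) ∣ orderOf (b * u) := by
  haveI := Cfsg.pCore_normal 2 ↥(closure S)
  set π := QuotientGroup.mk' (Cfsg.pCore 2 ↥(closure S))
  have hv' : ¬ Commute b v := fun hc => hu' ((hS.cong_commute_iff hu hv hb h).mpr hc)
  set p : ↥(closure S) := ⟨b * u, mul_mem (subset_closure hb) (subset_closure hu)⟩ with hp
  set q : ↥(closure S) := ⟨b * v, mul_mem (subset_closure hb) (subset_closure hv)⟩ with hq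
  have hπ : π p = π q := by
    rw [QuotientGroup.mk'_apply, QuotientGroup.mk'_apply, QuotientGroup.eq]
    obtain ⟨y, hy, hy'⟩ := h
    have : p⁻¹ * q = y := Subtype.ext (by
      simp only [hp, hq, Subgroup.coe_mul, InvMemClass.coe_inv]
      rw [show ((y : ↥(closure S)) : G) = u * v from hy']
      calc (b * u)⁻¹ * (b * v) = u⁻¹ * v := by group
        _ = u * v := by rw [hS.inv_eq hu])
    rwa [this]
  have hk : q ^ orderOf p ∈ Cfsg.pCore 2 ↥(closure S) :=
    (QuotientGroup.eq_one_iff _).mp (show π (q ^ orderOf p) = 1 by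
      rw [map_pow, ← hπ, ← map_pow, pow_orderOf_eq_one, map_one])
  obtain ⟨i, hi⟩ := Cores.pCore_isPGroup (p := 2) ⟨_, hk⟩
  have h1 : (b * v) ^ (orderOf (b * u) * 2 ^ i) = 1 := by
    have := congrArg (fun z : Cfsg.pCore 2 ↥(closure S) => ((z : ↥(closure S)) : G)) hi
    simp only [SubmonoidClass.coe_pow, OneMemClass.coe_one, hq] at this
    rw [pow_mul, ← show orderOf p = orderOf (b * u) from (Subgroup.orderOf_mk _ _)]
    exact this
  exact ((Nat.coprime_two_right.mpr (hS.odd_of_not_commute hb hv hv')).pow_right i).dvd_of_dvd_mul_right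
    (orderOf_dvd_of_pow_eq_one h1)

variable [Finite G]

/-- Congruent members with an odd partner are conjugate under the core. -/
theorem Mem.cong_conj_exists {u v n : G} (hu : u ∈ S) (hv : v ∈ S) (hn : n ∈ S) (hun : ¬ Commute u n)
    (h : Cong S u v) : ∃ q ∈ core S, q * u * q⁻¹ = v := by
  haveI := Cfsg.pCore_normal 2 ↥(closure S)
  have hvn : ¬ Commute v n := fun hc => hun ((hS.cong_commute_iff hu hv hn h).mpr hc.symm).symm
  have hnu : ¬ Commute n u := fun hc => hun hc.symm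
  have hnv : ¬ Commute n v := fun hc => hvn hc.symm
  have hord : orderOf (n * v) = orderOf (n * u) := Nat.dvd_antisymm (hS.orderOf_eq_of_cong hn hu hv h hnu)
    (hS.orderOf_eq_of_cong hn hv hu (hS.cong_symm hu hv h) hnv)
  obtain ⟨k, hk⟩ := hS.odd_of_not_commute hn hu hnu
  -- `u` and `v` are the images of `n` under corresponding powers
  have key : ∀ {w : G}, w ∈ S → orderOf (n * w) = 2 * k + 1 →
      (n * w) ^ k * n * ((n * w) ^ k)⁻¹ = w := by
    intro w hw hkw
    have hinv : n * (n * w) * n⁻¹ = (n * w)⁻¹ := by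
      rw [hS.inv_eq hn, hS.self_mul hn, hS.mul_inv hn hw]
    have h2 : n * ((n * w) ^ k)⁻¹ = (n * w) ^ k * n := by
      have h3 : n * (n * w) ^ k * n⁻¹ = ((n * w) ^ k)⁻¹ := by rw [← conj_pow, hinv, inv_pow]
      rw [← h3]
      simp [hS.inv_eq hn, mul_assoc, hS.self_mul hn, hS.sq n hn]
    rw [mul_assoc, h2, ← mul_assoc, ← pow_add]
    have h4 : (n * w) ^ (k + k) * (n * w) = 1 := by rw [← pow_succ, ← two_mul, ← hkw, pow_orderOf_eq_one]
    rw [eq_inv_of_mul_eq_one_left h4, hS.mul_inv hn hw, mul_assoc, hS.sq n hn, mul_one]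
  set gu := (n * u) ^ k
  set gv := (n * v) ^ k
  have hgu : gu * n * gu⁻¹ = u := key hu hk
  have hgv : gv * n * gv⁻¹ = v := key hv (hord.trans hk)
  refine ⟨gv * gu⁻¹, ?_, ?_⟩
  · set p : ↥(closure S) := ⟨n * u, mul_mem (subset_closure hn) (subset_closure hu)⟩ with hp
    set q : ↥(closure S) := ⟨n * v, mul_mem (subset_closure hn) (subset_closure hv)⟩ with hq
    refine ⟨q ^ k * (p ^ k)⁻¹, ?_, by simp [gu, gv, hp, hq]⟩
    have hπ : (QuotientGroup.mk' (Cfsg.pCore 2 ↥(closure S))) p = QuotientGroup.mk' _ q := by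
      rw [QuotientGroup.mk'_apply, QuotientGroup.mk'_apply, QuotientGroup.eq]
      obtain ⟨y, hy, hy'⟩ := h
      have : p⁻¹ * q = y := Subtype.ext (by
        simp only [hp, hq, Subgroup.coe_mul, InvMemClass.coe_inv]
        rw [show ((y : ↥(closure S)) : G) = u * v from hy']
        calc (n * u)⁻¹ * (n * v) = u⁻¹ * v := by group
          _ = u * v := by rw [hS.inv_eq hu])
      rwa [this]
    refine (QuotientGroup.eq_one_iff _).mp ?_
    show QuotientGroup.mk' _ (q ^ k * (p ^ k)⁻¹) = 1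
    rw [map_mul, map_inv, map_pow, map_pow, hπ, mul_inv_cancel]
  · rw [← hgu, ← hgv]; group

omit [Finite G] in
/-- A member centralised by `h` commutes with a member inverting `h`. -/
theorem Mem.inverter_commute {h f p : G} (hh : h * h ≠ 1) (hf : f ∈ S) (hinv : f * h * f = h⁻¹) (hp : p ∈ S)
    (hc : Commute h p) : Commute p f := by
  by_contra hpf
  obtain ⟨k, hk⟩ := hS.odd_of_not_commute hp hf hpf
  have h1 : (p * f) * h * (p * f)⁻¹ = h⁻¹ := by
    rw [hS.mul_inv hp hf]
    calc p * f * h * (f * p) = p * (f * h * f) * p := by group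
      _ = p * (h⁻¹ * p) := by rw [hinv]; group
      _ = p * (p * h⁻¹) := by rw [hc.inv_left.eq]
      _ = h⁻¹ := hS.self_mul hp _
  generalize p * f = c at h1 hk
  have h2 : ∀ i : ℕ, c ^ (2 * i) * h * (c ^ (2 * i))⁻¹ = h := by
    intro i
    induction i with
    | zero => simp
    | succ i ih =>
      rw [show 2 * (i + 1) = 1 + (1 + 2 * i) by ring, pow_add, pow_add, pow_one]
      calc c * (c * c ^ (2 * i)) * h * (c * (c * c ^ (2 * i)))⁻¹
          = c * (c * (c ^ (2 * i) * h * (c ^ (2 * i))⁻¹) * c⁻¹) * c⁻¹ := by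
            group
        _ = c * h⁻¹ * c⁻¹ := by rw [ih, h1]
        _ = (c * h * c⁻¹)⁻¹ := by group
        _ = h := by rw [h1, inv_inv]
  have h3 := congrArg (fun z => c * z * c⁻¹) (h2 k)
  simp only [h1] at h3
  have h4 : c * (c ^ (2 * k) * h * (c ^ (2 * k))⁻¹) * c⁻¹ =
      c ^ (2 * k + 1) * h * (c ^ (2 * k + 1))⁻¹ := by rw [pow_succ']; group
  rw [h4, ← hk, pow_orderOf_eq_one, one_mul, inv_one, mul_one] at h3
  exact hh (eq_inv_iff_mul_eq_one.mp h3)

/-- An element of odd prime order fixing the coset of a member fixes a member of the coset. -/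
theorem Mem.exists_fixed_cong {h u n : G} {r : ℕ} (hr : r.Prime) (hr2 : r ≠ 2) (hh : h ^ r = 1)
    (hhS : ∀ t ∈ S, h * t * h⁻¹ ∈ S) (hu : u ∈ S) (hn : n ∈ S) (hun : ¬ Commute u n)
    (hfix : Cong S u (h * u * h⁻¹)) : ∃ p ∈ S, Cong S u p ∧ Commute h p := by
  classical
  haveI : Fact r.Prime := ⟨hr⟩
  haveI : Fact (Nat.Prime 2) := ⟨Nat.prime_two⟩
  set Q := core S
  have hhS' : ∀ t ∈ S, h⁻¹ * t * h ∈ S := by
    intro t ht
    have hpow : ∀ i : ℕ, h ^ i * t * (h ^ i)⁻¹ ∈ S := by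
      intro i
      induction i with
      | zero => simpa using ht
      | succ i ih =>
        rw [pow_succ', show h * h ^ i * t * (h * h ^ i)⁻¹ = h * (h ^ i * t * (h ^ i)⁻¹) * h⁻¹ by group]
        exact hhS _ ih
    have hi : h⁻¹ = h ^ (r - 1) := inv_eq_of_mul_eq_one_left (by rw [← pow_succ, Nat.sub_add_cancel hr.one_le, hh])
    have h1 := hpow (r - 1)
    rw [← hi, inv_inv] at h1
    exact h1
  -- the coset members
  let P := {p : G // p ∈ S ∧ Cong S u p}
  let act : Q → P → P := fun q p => ⟨q * p.1 * (q : G)⁻¹, hS.conj_mem_closure (core_le q.2) p.2.1, by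
    refine hS.cong_trans p.2.1 p.2.2 ?_
    show p.1 * (q * p.1 * (q : G)⁻¹) ∈ core S
    rw [show p.1 * (q * p.1 * (q : G)⁻¹) = p.1 * q * p.1 * (q : G)⁻¹ by group]
    refine mul_mem ?_ (inv_mem q.2)
    have := core_normalized (subset_closure p.2.1) q.2
    rwa [hS.inv_eq p.2.1] at this⟩
  letI : MulAction Q P :=
    { smul := act
      one_smul := fun p => Subtype.ext (by show (1 : G) * p.1 * (1 : G)⁻¹ = p.1; group)
      mul_smul := fun q q' p => Subtype.ext (by
        show ((q * q' : Q) : G) * p.1 * ((q * q' : Q) : G)⁻¹ = q * (q' * p.1 * (q' : G)⁻¹) * (q : G)⁻¹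
        rw [Subgroup.coe_mul]; group) }
  set u0 : P := ⟨u, hu, hS.cong_self hu⟩
  have horb : MulAction.orbit Q u0 = Set.univ := by
    refine Set.eq_univ_of_forall fun p => ?_
    obtain ⟨q, hq, hqe⟩ := hS.cong_conj_exists hu p.2.1 hn hun p.2.2
    exact ⟨⟨q, hq⟩, Subtype.ext hqe⟩
  obtain ⟨e, he⟩ := (core_isPGroup (S := S)).card_orbit u0
  have hcard : Nat.card P = 2 ^ e := by
    rw [← he, horb, Nat.card_congr (Equiv.Set.univ P)]
  have hh2 : ∀ p : P, Cong S u (h * p.1 * h⁻¹) := fun p =>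
    hS.cong_trans (hhS u hu) hfix (hS.cong_conj hhS hhS' p.2.2)
  let σ : P → P := fun p => ⟨h * p.1 * h⁻¹, hhS _ p.2.1, hh2 p⟩
  have hσ : ∀ (i : ℕ) (p : P), (σ^[i] p).1 = h ^ i * p.1 * (h ^ i)⁻¹ := by
    intro i
    induction i with
    | zero => intro p; simp
    | succ i ih =>
      intro p
      rw [Function.iterate_succ_apply', show (σ (σ^[i] p)).1 = h * (σ^[i] p).1 * h⁻¹ from rfl, ih,
        pow_succ']
      group
  let τ : Equiv.Perm P :=
    { toFun := σ
      invFun := σ^[r - 1]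
      left_inv := fun p => Subtype.ext (by
        rw [hσ, show (σ p).1 = h * p.1 * h⁻¹ from rfl, show h ^ (r - 1) * (h * p.1 * h⁻¹) * (h ^ (r - 1))⁻¹ =
          h ^ (r - 1) * h * p.1 * (h ^ (r - 1) * h)⁻¹ by group, ← pow_succ, Nat.sub_add_cancel hr.one_le, hh]
        group)
      right_inv := fun p => Subtype.ext (by
        show h * (σ^[r - 1] p).1 * h⁻¹ = p.1
        rw [hσ, show h * (h ^ (r - 1) * p.1 * (h ^ (r - 1))⁻¹) * h⁻¹ =
          h * h ^ (r - 1) * p.1 * (h * h ^ (r - 1))⁻¹ by group, ← pow_succ', Nat.sub_add_cancel hr.one_le, hh]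
        group) }
  haveI := Fintype.ofFinite P
  have hdiv : ¬ r ∣ Fintype.card P := by
    rw [← Nat.card_eq_fintype_card, hcard]
    intro hd
    exact hr2 ((Nat.prime_dvd_prime_iff_eq hr Nat.prime_two).mp (hr.dvd_of_dvd_pow hd))
  have hpowτ : τ ^ r ^ 1 = 1 := by
    rw [pow_one]
    refine Equiv.ext fun p => Subtype.ext ?_
    rw [← Equiv.Perm.iterate_eq_pow]
    show (σ^[r] p).1 = p.1
    rw [hσ, hh]; group
  obtain ⟨p, hp⟩ := Equiv.Perm.exists_fixed_point_of_prime hdiv hpowτ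
  exact ⟨p.1, p.2.1, p.2.2, mul_inv_eq_iff_eq_mul.mp (congrArg Subtype.val hp)⟩

/-- An element fixing every value fixes every coset. -/
theorem Mem.cong_of_fix_values {h : G} (hhS : ∀ t ∈ S, h * t * h⁻¹ ∈ S)
    (hfix : ∀ w ∈ S, Cent S (h * w * h⁻¹) = Cent S w) {w : G} (hw : w ∈ S) :
    Cong S w (h * w * h⁻¹) := by
  haveI : Fact (Nat.Prime 2) := ⟨Nat.prime_two⟩
  haveI := Cfsg.pCore_normal 2 ↥(closure S)
  set K := closure S
  set w' := h * w * h⁻¹
  have hw' : w' ∈ S := hhS w hw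
  have hcomm : Commute w w' :=
    ((show w ∈ Cent S w' from (hfix w hw).symm ▸ self_mem_cent hw)).2
  -- elements fixing all values
  let N : Subgroup K :=
    { carrier := {g | ∀ y ∈ S, Cent S ((g : G) * y * (g : G)⁻¹) = Cent S y}
      one_mem' := fun y _ => by simp
      mul_mem' := fun {g g'} hg hg' y hy => by
        show Cent S (((g * g' : K) : G) * y * ((g * g' : K) : G)⁻¹) = _
        rw [Subgroup.coe_mul, show (g : G) * g' * y * ((g : G) * g')⁻¹ = g * (g' * y * (g' : G)⁻¹) * (g : G)⁻¹ by group,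
          hg _ (hS.conj_mem_closure g'.2 hy), hg' y hy]
      inv_mem' := fun {g} hg y hy => by
        show Cent S (((g⁻¹ : K) : G) * y * ((g⁻¹ : K) : G)⁻¹) = _
        have hy' := hS.conj_mem_closure (g⁻¹).2 hy
        rw [← hg _ hy']
        simp [mul_assoc] }
  have htransfer : ∀ {g : G}, g ∈ K → ∀ u v, Cent S u = Cent S v →
      Cent S (g * u * g⁻¹) = Cent S (g * v * g⁻¹) := fun {g} hg u v e => by
    rw [hS.conj_cent_eq (fun t ht => hS.conj_mem_closure hg ht),
      hS.conj_cent_eq (fun t ht => hS.conj_mem_closure hg ht), e]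
  haveI : N.Normal := ⟨fun n hn g y hy => by
    have hy' := hS.conj_mem_closure (g⁻¹).2 hy
    have h1 := htransfer g.2 _ _ (hn _ hy')
    simp only [InvMemClass.coe_inv, inv_inv] at h1
    simp only [Subgroup.coe_mul, InvMemClass.coe_inv]
    rw [show (g : G) * n * (g : G)⁻¹ * y * ((g : G) * n * (g : G)⁻¹)⁻¹ =
      (g : G) * ((n : G) * ((g : G)⁻¹ * y * g) * (n : G)⁻¹) * (g : G)⁻¹ by group, h1]
    simp [mul_assoc]⟩
  set k : K := ⟨w, subset_closure hw⟩ * ⟨w', subset_closure hw'⟩ with hk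
  have hkN : k ∈ N := fun y hy => by
    have hwy : w' * y * w'⁻¹ ∈ S := hS.conj_mem_closure (subset_closure hw') hy
    have hhy : Cent S y = Cent S (h * y * h⁻¹) := (hfix y hy).symm
    have e1 := htransfer (subset_closure hw') _ _ hhy
    have e2 : w' * (h * y * h⁻¹) * w'⁻¹ = h * (w * y * w⁻¹) * h⁻¹ := by simp only [w']; group
    rw [e2, hfix _ (hS.conj_mem_closure (subset_closure hw) hy)] at e1
    have e3 := htransfer (subset_closure hw) _ _ e1
    rw [show w * (w * y * w⁻¹) * w⁻¹ = y by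
      rw [show w * (w * y * w⁻¹) * w⁻¹ = w * w * y * (w * w)⁻¹ by group, hS.sq w hw]; group] at e3
    simp only [hk, Subgroup.coe_mul]
    rw [show w * w' * y * (w * w')⁻¹ = w * (w' * y * w'⁻¹) * w⁻¹ by group]
    exact e3
  -- commutators with the generators are in the core
  have hcomm2 : ∀ n ∈ N, ∀ y : K, (y : G) ∈ S → n * y * n⁻¹ * y⁻¹ ∈ Cfsg.pCore 2 K := by
    intro n hn y hy
    set A := closure (cls S (y : G)) with hA
    have hAc : ∀ p ∈ cls S (y : G), ∀ q ∈ cls S (y : G), Commute p q := fun p hp q hq =>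
      commute_of_cls hq hp.1 (commute_of_cls hp hy (Commute.refl _)).symm
    have hAle : A ≤ K := closure_mono fun p hp => hp.1
    have hAp : IsPGroup 2 A := by
      rintro ⟨x, hx⟩
      haveI := isMulCommutative_closure (k := cls S (y : G)) fun p hp q hq => (hAc p hp q hq).eq
      refine ⟨1, Subtype.ext ?_⟩
      show x ^ 2 ^ 1 = 1
      rw [pow_one]
      induction hx using closure_induction with
      | mem p hp => rw [pow_two, hS.sq p hp.1]
      | one => simp
      | mul p q hp hq ihp ihq =>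
        have : Commute p q := congrArg Subtype.val (mul_comm' (⟨p, hp⟩ : A) ⟨q, hq⟩)
        rw [this.mul_pow, ihp, ihq, one_mul]
      | inv p _ ih => rw [inv_pow, ih, inv_one]
    set P : Subgroup N := (A.subgroupOf K).subgroupOf N
    have hPp : IsPGroup 2 P := hAp.comap_subtype.comap_subtype
    haveI : P.Normal := ⟨fun p hp g => by
      show ((g * p * g⁻¹ : N) : K).1 ∈ A
      simp only [Subgroup.coe_mul, InvMemClass.coe_inv]
      have hg : ∀ q ∈ cls S (y : G), ((g : K) : G) * q * ((g : K) : G)⁻¹ ∈ cls S (y : G) := fun q hq =>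
        ⟨hS.conj_mem_closure (g : K).2 hq.1, (g.2 q hq.1).trans hq.2⟩
      exact (closure_le (K := A.comap (MulAut.conj ((g : K) : G)).toMonoidHom)).mpr
        (fun q hq => subset_closure (hg q hq)) hp⟩
    have hin : n * y * n⁻¹ * y⁻¹ ∈ N := by
      rw [show n * y * n⁻¹ * y⁻¹ = n * (y * n⁻¹ * y⁻¹) by group]
      exact mul_mem hn ((inferInstance : N.Normal).conj_mem _ (inv_mem hn) y)
    refine Cores.map_pCore_le_of_normal N ⟨⟨_, hin⟩, Cores.le_pCore hPp ?_, rfl⟩
    show ((n * y * n⁻¹ * y⁻¹ : K) : G) ∈ A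
    simp only [Subgroup.coe_mul, InvMemClass.coe_inv]
    refine mul_mem (subset_closure ⟨hS.conj_mem_closure n.2 hy, hn _ hy⟩) (inv_mem (subset_closure (self_mem_cls hy)))
  set π := QuotientGroup.mk' (Cfsg.pCore 2 K)
  have hcen : π k ∈ center _ := by
    rw [mem_center_iff]
    intro z
    obtain ⟨g, rfl⟩ := QuotientGroup.mk'_surjective _ z
    have hle : (closure (((↑) : K → G) ⁻¹' S)) ≤ (centralizer {π k}).comap π := (closure_le _).mpr fun y hy => by
      rw [SetLike.mem_coe, mem_comap, mem_centralizer_singleton_iff]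
      have h1 : π (k * y * k⁻¹ * y⁻¹) = 1 := (QuotientGroup.eq_one_iff _).mpr (hcomm2 k hkN y hy)
      rw [map_mul, map_mul, map_mul, map_inv, map_inv, mul_inv_eq_one, mul_inv_eq_iff_eq_mul] at h1
      exact h1.symm
    rw [closure_closure_coe_preimage] at hle
    exact mem_centralizer_singleton_iff.mp (hle (mem_top g))
  have hk2 : π k * π k = 1 := by
    rw [← map_mul]
    convert map_one π
    exact Subtype.ext (hS.commute_mul_self hw hw' hcomm)
  haveI : (zpowers (π k)).Normal := ⟨fun x hx g => by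
    rw [mem_center_iff.mp (zpowers_le.mpr hcen hx) g, mul_inv_cancel_right]; exact hx⟩
  have hZp : IsPGroup 2 (zpowers (π k)) := by
    rintro ⟨x, hx⟩
    obtain ⟨m, rfl⟩ := mem_zpowers_iff.mp hx
    refine ⟨1, Subtype.ext ?_⟩
    show ((π k) ^ m) ^ 2 ^ 1 = 1
    rw [pow_one, ← zpow_natCast, ← zpow_mul, mul_comm, zpow_mul, zpow_natCast, pow_two, hk2, one_zpow]
  have hbot : Cfsg.pCore 2 (K ⧸ Cfsg.pCore 2 K) = ⊥ := Cores.pCore_quotient_pCore
  have hk1 : π k = 1 := by
    rw [← mem_bot, ← hbot]; exact Cores.le_pCore hZp (mem_zpowers _)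
  exact ⟨k, (QuotientGroup.eq_one_iff _).mp hk1, rfl⟩

end Cfsg.Agent.H76.OddT
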