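import Cfsg.Agent.H76.OddT.Pts
import Cfsg.Agent.H3.RootInv.Finish
import Cfsg.Agent.Cores.PCore
import Cfsg.Agent.S1121

/-!
The rank-one quotient of an odd transposition set whose commuting graph is disconnected.
-/

set_option autoImplicit false
set_option linter.style.haveILetI false

namespace Cfsg.Agent.H76.OddT

open Subgroup MulAction

universe u

variable {Γ : Type u} [Group Γ] [Finite Γ] {D : Set Γ}

/-- The rank-one quotient and the behaviour of the members in it. -/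
structure IsLine {Q : Type u} [Group Q] [Finite Q] (π : Γ →* Q) (D : Set Γ) : Prop where
  pts : Pts Q
  bender : PostBender.IsBenderGroup Q
  surj : Function.Surjective π
  ne_one : ∀ d ∈ D, π d ≠ 1
  invol : ∀ s : Q, s ≠ 1 → s * s = 1 → ∃ d ∈ D, π d = s
  commute_iff : ∀ a ∈ D, ∀ b ∈ D, (Commute (π a) (π b) ↔ Commute a b)
  cong : ∀ a ∈ D, ∀ b ∈ D, π a = π b → a * b ∈ Cfsg.pCore 2 Γ
  ker : π.ker = Cfsg.twoZCore Γ

/-- An element of the 2-Z-core of odd order inverted by an involution lies in the 2-core, hence is trivial. -/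
theorem eq_one_of_twoZCore {a x : Γ} (ha : a * a = 1) (hinv : a * x * a = x⁻¹) (hx : x ∈ Cfsg.twoZCore Γ)
    (hodd : Odd (orderOf x)) : x = 1 := by
  set π := QuotientGroup.mk' (Cfsg.pCore 2 Γ)
  have hc := mem_center_iff.mp hx (π a)
  have h1 : π x * π x = 1 := by
    have h2 : π (a * x * a) = π x := by
      rw [map_mul, map_mul, show π a * π x = π x * π a from hc, mul_assoc, ← map_mul, ha, map_one, mul_one]
    rw [hinv, map_inv] at h2
    exact mul_eq_one_iff_inv_eq.mpr h2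
  obtain ⟨k, hk⟩ := hodd
  have h3 : π x = 1 := by
    have h4 : (π x) ^ (2 * k + 1) = 1 := by rw [← map_pow, ← hk, pow_orderOf_eq_one, map_one]
    rwa [pow_succ, pow_mul, pow_two, h1, one_pow, one_mul] at h4
  obtain ⟨i, hi⟩ := Cores.pCore_isPGroup (p := 2) ⟨x, (QuotientGroup.eq_one_iff x).mp h3⟩
  have h5 : orderOf x ∣ 2 ^ i := orderOf_dvd_of_pow_eq_one (by simpa using congrArg Subtype.val hi)
  exact orderOf_eq_one_iff.mp
    (((Nat.coprime_two_right.mpr ⟨k, hk⟩).pow_right i).eq_one_of_dvd h5)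

/-- A member of the 2-Z-core of order two lies in the 2-core. -/
theorem mem_pCore_of_sq {x : Γ} (h2 : x * x = 1) (hx : x ∈ Cfsg.twoZCore Γ) : x ∈ Cfsg.pCore 2 Γ := by
  haveI : Fact (Nat.Prime 2) := ⟨Nat.prime_two⟩
  set π := QuotientGroup.mk' (Cfsg.pCore 2 Γ)
  haveI : (zpowers (π x)).Normal := ⟨fun y hy g => by
    have hy' : y ∈ center (Γ ⧸ Cfsg.pCore 2 Γ) := zpowers_le.mpr (show π x ∈ center _ from hx) hy
    rw [mem_center_iff.mp hy' g, mul_inv_cancel_right]; exact hy⟩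
  have hZp : IsPGroup 2 (zpowers (π x)) := by
    rintro ⟨y, hy⟩
    obtain ⟨m, rfl⟩ := mem_zpowers_iff.mp hy
    refine ⟨1, Subtype.ext ?_⟩
    show ((π x) ^ m) ^ 2 ^ 1 = 1
    rw [pow_one, ← zpow_natCast, ← zpow_mul, mul_comm, zpow_mul, zpow_natCast, pow_two, ← map_mul, h2, map_one,
      one_zpow]
  refine (QuotientGroup.eq_one_iff x).mp ?_
  show π x = 1
  have hbot : Cfsg.pCore 2 (Γ ⧸ Cfsg.pCore 2 Γ) = ⊥ := Cores.pCore_quotient_pCore
  rw [← mem_bot, ← hbot]
  exact Cores.le_pCore hZp (mem_zpowers _)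

/-- Odd transpositions with disconnected commuting graph and a partner have a rank-one quotient. -/
theorem isLine_of_disconnected (hGood : H3.RootInv.GoodHyp.{u}) (hBend : PostBender.BenderHyp.{u})
    (hD : Cfsg.IsRootInvolutionSet D) (hodd : ∀ a ∈ D, ∀ b ∈ D, Commute a b ∨ Odd (orderOf (a * b)))
    (hc : ¬ Cfsg.IsConnectedSet (Cfsg.CommAdj D) D)
    (hp : ∃ a ∈ D, ∃ b ∈ D, a ≠ b ∧ Commute a b ∧ a * b ∈ D) :
    IsLine (QuotientGroup.mk' (Cfsg.twoZCore Γ)) D := by
  haveI : Fact (Nat.Prime 2) := ⟨Nat.prime_two⟩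
  have C := H3.RootInv.config_of_not_connected hD hc
  have hN := (C.ker_eq_twoZCore (C.hasPartners hp)).symm
  have F := C.quotient_faithful (Cfsg.twoZCore Γ) hN
  set π := QuotientGroup.mk' (Cfsg.twoZCore Γ) with hπ
  obtain ⟨a0, ha0, b0, hb0, hne0, hc0, -⟩ := C.image_partner (Cfsg.twoZCore Γ) hN hp
  have hgood := hGood _ _ _ F
  have hB := F.isBenderGroup hgood hBend ⟨a0, ha0, b0, hb0, hne0, hc0⟩
  have hsq : ∀ d ∈ π '' D, d * d = 1 := fun d hd => by
    rw [← pow_two, ← F.root.orderOf_eq d hd, pow_orderOf_eq_one]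
  have hne1 : ∀ d ∈ π '' D, d ≠ 1 := fun d hd h => by
    have := F.root.orderOf_eq d hd
    rw [h, orderOf_one] at this
    omega
  obtain ⟨S0, hS0⟩ := PostBender.eq_normalizer hB (F.isSE hgood ha0)
  have hSE0 : Cfsg.IsStronglyEmbedded (normalizer ((S0 : Subgroup (Γ ⧸ Cfsg.twoZCore Γ)) : Set (Γ ⧸ Cfsg.twoZCore Γ))) :=
    hS0 ▸ F.isSE hgood ha0
  have hstab : ∀ S : Sylow 2 (Γ ⧸ Cfsg.twoZCore Γ),
      stabilizer _ S = normalizer ((S : Subgroup (Γ ⧸ Cfsg.twoZCore Γ)) : Set (Γ ⧸ Cfsg.twoZCore Γ)) :=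
    fun S => Subgroup.ext fun x => Sylow.smul_eq_iff_mem_normalizer
  have P : Pts (Γ ⧸ Cfsg.twoZCore Γ) := by
    refine
      { faithful := fun k hk => F.faithful k fun e he => ?_
        even := ?_
        two := ⟨a0, b0, hne1 a0 ha0, hne1 b0 hb0, hne0, hsq a0 ha0, hsq b0 hb0, hc0.eq⟩
        trans := PostBender.sylTrans_of_bender hB
        disjoint := fun S T hne => ?_
        exists_ne := fun S => ?_ }
    · obtain ⟨Se, hSe⟩ := PostBender.eq_normalizer hB (F.isSE hgood he)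
      show k ∈ F.stab e
      rw [hSe]
      exact Sylow.smul_eq_iff_mem_normalizer.mp (hk Se)
    · have := orderOf_dvd_natCard a0
      rwa [F.root.orderOf_eq a0 ha0] at this
    · obtain ⟨g, rfl⟩ := exists_smul_eq (Γ ⧸ Cfsg.twoZCore Γ) S0 S
      obtain ⟨k, rfl⟩ := exists_smul_eq (Γ ⧸ Cfsg.twoZCore Γ) (g • S0) T
      have hk : g⁻¹ * k * g ∉ normalizer ((S0 : Subgroup (Γ ⧸ Cfsg.twoZCore Γ)) : Set (Γ ⧸ Cfsg.twoZCore Γ)) := fun h => hne (by
        have h1 := Sylow.smul_eq_iff_mem_normalizer.mpr h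
        calc k • g • S0 = g • (g⁻¹ * k * g) • S0 := by rw [← mul_smul, ← mul_smul]; congr 1; group
          _ = g • S0 := by rw [h1])
      have h2 := hSE0.2.2 _ hk
      rw [PostBender.map_conj_normalizer_sylow] at h2
      rw [← hstab, ← hstab] at h2
      have h3 : stabilizer _ (g • S0) ⊓ stabilizer _ (k • g • S0) =
          (stabilizer _ S0 ⊓ stabilizer _ ((g⁻¹ * k * g) • S0)).map (MulAut.conj g).toMonoidHom := by
        rw [map_inf _ _ _ (MulAut.conj g).injective, ← MulAction.stabilizer_smul_eq_stabilizer_map_conj,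
          ← MulAction.stabilizer_smul_eq_stabilizer_map_conj]
        congr 2
        rw [← mul_smul, ← mul_smul]; congr 1; group
      rw [h3, card_map_of_injective (MulAut.conj g).injective]
      exact h2
    · obtain ⟨g, hg⟩ : ∃ g, g ∉ normalizer ((S0 : Subgroup (Γ ⧸ Cfsg.twoZCore Γ)) : Set (Γ ⧸ Cfsg.twoZCore Γ)) := by
        by_contra h
        push Not at h
        exact hSE0.1 (eq_top_iff.mpr fun x _ => h x)
      by_contra h
      push Not at h
      exact hg (Sylow.smul_eq_iff_mem_normalizer.mp ((h (g • S0)).trans (h S0).symm))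
  have hneone : ∀ d ∈ D, π d ≠ 1 := fun d hd => hne1 _ ⟨d, hd, rfl⟩
  refine ⟨P, hB, QuotientGroup.mk'_surjective _, hneone, fun s hs hs2 => ?_, fun a ha b hb => ?_,
    fun a ha b hb hab => ?_, QuotientGroup.ker_mk' _⟩
  · obtain ⟨S, hS⟩ := exists_point (hsq a0 ha0)
    obtain ⟨t, ht, htS⟩ := P.exists_invol_move S
    obtain ⟨g, hg⟩ := (Cfsg.Agent.S1121.result (P.setup ht htS)).2 a0 s (hne1 a0 ha0) (hsq a0 ha0) hs hs2
    exact hg ▸ F.root.conj_mem a0 ha0 g
  · refine ⟨fun h => ?_, fun h => h.map π⟩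
    rcases hodd a ha b hb with hco | ho
    · exact hco
    have ha2 := H87.Inv.sq_eq hD ha
    have hb2 := H87.Inv.sq_eq hD hb
    have hbai : b * a = (a * b)⁻¹ := (H87.Inv.mul_inv_eq hD ha hb).symm
    have hinv : a * (a * b) * a = (a * b)⁻¹ := by rw [← mul_assoc a a, ha2, one_mul, hbai]
    have h2 : π (a * b) * π (a * b) = 1 := by
      rw [map_mul, mul_assoc, ← mul_assoc (π b), ← h.eq, mul_assoc (π a), ← map_mul π b, hb2, map_one, mul_one,
        ← map_mul, ha2, map_one]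
    have h1 : π (a * b) = 1 := H87.Inv.eq_one_of_odd h2 ho (by rw [← map_pow, pow_orderOf_eq_one, map_one])
    have h3 : a * b = 1 := eq_one_of_twoZCore ha2 hinv ((QuotientGroup.eq_one_iff _).mp h1) ho
    rw [(eq_inv_of_mul_eq_one_left h3).trans (H87.Inv.inv_eq hD hb)]
  · have hab' : Commute a b := by
      rcases hodd a ha b hb with hco | ho
      · exact hco
      have ha2 := H87.Inv.sq_eq hD ha
      have hbai : b * a = (a * b)⁻¹ := (H87.Inv.mul_inv_eq hD ha hb).symm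
      have hinv : a * (a * b) * a = (a * b)⁻¹ := by rw [← mul_assoc a a, ha2, one_mul, hbai]
      have h1 : π (a * b) = 1 := by rw [map_mul, hab, ← map_mul, H87.Inv.sq_eq hD hb, map_one]
      have h3 := eq_one_of_twoZCore ha2 hinv ((QuotientGroup.eq_one_iff _).mp h1) ho
      rw [(eq_inv_of_mul_eq_one_left h3).trans (H87.Inv.inv_eq hD hb)]
    refine mem_pCore_of_sq ?_ ((QuotientGroup.eq_one_iff _).mp ?_)
    · rw [mul_assoc, ← mul_assoc b, ← hab'.eq, mul_assoc a b, H87.Inv.sq_eq hD hb, mul_one,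
        H87.Inv.sq_eq hD ha]
    · show π (a * b) = 1
      rw [map_mul, hab, ← map_mul, H87.Inv.sq_eq hD hb, map_one]

end Cfsg.Agent.H76.OddT
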