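import Cfsg.Agent.H76.OddT.BadPair

/-!
In a connected set with trivial 2-core and a bad pair the neighbours of every member outside its class form one
flat component, in which every member is next to a member of the line of any noncommuting pair.
-/

set_option autoImplicit false
set_option linter.style.haveILetI false

namespace Cfsg.Agent.H76.OddT

open Subgroup MulAction

universe u

variable {G : Type u} [Group G] [Finite G] {S : Set G}

/-- The neighbours of a member outside its class. -/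
def rest (S : Set G) (v : G) : Set G := Cent S v \ cls S v

/-- The neighbours outside the class form one component. -/
def OneComp (S : Set G) (v : G) : Prop := ∀ p ∈ rest S v, ∀ q ∈ rest S v, Reach (Cent S v) p q

omit [Finite G] in
theorem rest_of_not_commute {v y n : G} (hy : y ∈ Cent S v) (hn : n ∈ Cent S v) (h : ¬ Commute y n) :
    y ∈ rest S v :=
  ⟨hy, fun hc => h ((commute_of_cls hc hn.1 hn.2).symm)⟩

/-- A member of the rest has a partner in it. -/
theorem rest_partner (hS : Mem S) (hconn : Conn S) {v y : G} (hv : v ∈ S) (hy : y ∈ rest S v) :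
    ∃ n ∈ rest S v, ¬ Commute y n := by
  by_contra h
  push Not at h
  have hsub : Cent S v ⊆ Cent S y := fun n hn => by
    refine ⟨hn.1, ?_⟩
    by_cases hc : n ∈ cls S v
    · exact (commute_of_cls hc hy.1.1 hy.1.2).symm
    · exact (h n ⟨hn, hc⟩).symm
  exact hy.2 ⟨hy.1.1, (Set.eq_of_subset_of_ncard_le hsub
    (hS.ncard_cent_reach (hconn v hv y hy.1.1)).le (Set.toFinite _)).symm⟩

theorem rest_conj (hS : Mem S) {g : G} (hg : g ∈ closure S) (v : G) :
    rest S (g * v * g⁻¹) = (fun t => g * t * g⁻¹) '' rest S v := by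
  rw [rest, rest, Set.image_sdiff (fun a b h => by simpa using h), hS.cls_image hg v,
    hS.conj_cent_eq (fun t ht => hS.conj_mem_closure hg ht)]

theorem mem_rest_conj (hS : Mem S) {g : G} (hg : g ∈ closure S) {v y : G} (hy : y ∈ rest S (g * v * g⁻¹)) :
    g⁻¹ * y * g ∈ rest S v := by
  rw [rest_conj hS hg] at hy
  obtain ⟨t, ht, rfl⟩ := hy
  simpa [mul_assoc] using ht

omit [Finite G] in
theorem linked_image {X : Set G} (g : G) (h : Linked X) : Linked ((fun t => g * t * g⁻¹) '' X) := by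
  rintro _ ⟨a, ha, rfl⟩ _ ⟨b, hb, rfl⟩
  exact (h a ha b hb).lift (fun t => g * t * g⁻¹) fun p q hpq =>
    ⟨⟨p, hpq.1, rfl⟩, ⟨q, hpq.2.1, rfl⟩, fun e => hpq.2.2.1 (by simpa using e),
      (Commute.conj_iff g).mpr hpq.2.2.2⟩

variable (hGood : H3.RootInv.GoodHyp.{u}) (hBend : PostBender.BenderHyp.{u})
include hGood hBend

/-- A neighbour of `d` in another component is a common neighbour commuting with the component of the first. -/
theorem Wit.other (B : Big S) (ih : GoodBelow G S.ncard) {d x b : G} (w : Wit S d x b)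
    (hbad : ¬ Abel (orb S d x)) {b' : G} (hb' : b' ∈ rest S d) (hr : ¬ Reach (Cent S d) b b') :
    Wit S d x b' ∧ ∀ n ∈ OddT.comp (Cent S b) d, Commute b' n := by
  obtain ⟨F, -, -⟩ := w.bad hGood hBend B ih hbad
  set N := OddT.comp (Cent S b) d
  have hT := B.mem.cent w.ha
  have hbT : b ∈ Cent S d := ⟨w.hb, w.hba⟩
  have hb'b : b' ∈ Cent S b := ⟨hb'.1.1, (commute_of_not_reach hbT hb'.1 hr).symm⟩
  have hall : ∀ n ∈ N, Commute b' n := by
    intro n hn
    by_contra hbn
    have hb'N : b' ∈ N := F.of_not_commute hn hb'b fun e => hbn e.symm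
    obtain ⟨n', hn', hbn'⟩ := rest_partner B.mem B.conn w.ha hb'
    have hn'b : n' ∈ Cent S b := ⟨hn'.1.1, (commute_of_not_reach hbT hn'.1 fun e => hr
      (e.trans (reach_of_not_commute hn'.1 hb'.1 fun h => hbn' h.symm))).symm⟩
    have hn'N : n' ∈ N := F.of_not_commute hb'N hn'b hbn'
    exact hbn' (F.mem.commute_trans hGood hBend F.not_linked hb'N F.self hn'N hb'.1.2 hn'.1.2.symm)
  refine ⟨⟨w.ha, w.hx, hb'.1.1, w.hax, hb'.1.2, hall x ?_⟩, hall⟩
  exact F.of_not_commute F.self ⟨w.hx, w.hbx.symm⟩ w.hax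

theorem Wit.comp_subset (B : Big S) (ih : GoodBelow G S.ncard) {d x b b' : G} (w : Wit S d x b)
    (hbad : ¬ Abel (orb S d x)) (w' : Wit S d x b') (h : ∀ n ∈ OddT.comp (Cent S b) d, Commute b' n) :
    OddT.comp (Cent S b) d ⊆ OddT.comp (Cent S b') d := by
  intro n hn
  refine ⟨⟨hn.1.1, (h n hn).symm⟩, ?_⟩
  have hc := conn_comp (S := Cent S b) (u := d) ⟨w.ha, w.hba.symm⟩ d
    ⟨⟨w.ha, w.hba.symm⟩, Relation.ReflTransGen.refl⟩ n hn
  exact hc.lift id fun p q hpq => ⟨⟨hpq.1.1.1, (h p hpq.1).symm⟩, ⟨hpq.2.1.1.1, (h q hpq.2.1).symm⟩, hpq.2.2⟩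

/-- The neighbours of `d` outside its class form one component. -/
theorem Wit.oneComp (B : Big S) (ih : GoodBelow G S.ncard) {d x b : G} (w : Wit S d x b)
    (hbad : ¬ Abel (orb S d x)) : OneComp S d := by
  have hbT : b ∈ Cent S d := ⟨w.hb, w.hba⟩
  suffices hall : ∀ p ∈ rest S d, Reach (Cent S d) b p from
    fun p hp q hq => reach_trans (reach_symm (hall p hp)) (hall q hq)
  intro b' hb'
  by_contra hr
  obtain ⟨w', hN⟩ := w.other hGood hBend B ih hbad hb' hr
  have hb : b ∈ rest S d := by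
    obtain ⟨n, hn, hbn⟩ := w.le_of_ncard B.mem B.conn
    exact rest_of_not_commute hbT hn hbn
  set N := OddT.comp (Cent S b) d
  obtain ⟨-, hN'⟩ := w'.other hGood hBend B ih hbad hb fun e => hr (reach_symm e)
  have hNeq : N = OddT.comp (Cent S b') d := Set.Subset.antisymm
    (w.comp_subset hGood hBend B ih hbad w' hN) (w'.comp_subset hGood hBend B ih hbad w hN')
  -- every member outside the class commutes with the component
  have hevery : ∀ z ∈ rest S d, Wit S d x z ∧ OddT.comp (Cent S z) d = N := by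
    intro z hz
    by_cases hz' : Reach (Cent S d) b z
    · have hr' : ¬ Reach (Cent S d) b' z := fun e => hr (reach_trans hz' (reach_symm e))
      obtain ⟨wz, hNz⟩ := w'.other hGood hBend B ih hbad hz hr'
      obtain ⟨-, hNz'⟩ := wz.other hGood hBend B ih hbad hb' fun e => hr' (reach_symm e)
      refine ⟨wz, (Set.Subset.antisymm ?_ ?_).trans hNeq.symm⟩
      · exact wz.comp_subset hGood hBend B ih hbad w' hNz'
      · exact w'.comp_subset hGood hBend B ih hbad wz hNz
    · obtain ⟨wz, hNz⟩ := w.other hGood hBend B ih hbad hz hz'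
      obtain ⟨-, hNz'⟩ := wz.other hGood hBend B ih hbad hb fun e => hz' (reach_symm e)
      exact ⟨wz, Set.Subset.antisymm (wz.comp_subset hGood hBend B ih hbad w hNz')
        (w.comp_subset hGood hBend B ih hbad wz hNz)⟩
  have hdN : d ∈ N := ⟨⟨w.ha, w.hba.symm⟩, Relation.ReflTransGen.refl⟩
  obtain ⟨u, hu, n, hn, hun, hnu⟩ : ∃ u ∈ S, ∃ n ∈ N, u ∉ N ∧ ¬ Commute n u := by
    have hbN : b ∉ N := by
      intro hbN
      rcases hbN.2.cases_tail with h | ⟨c, -, hc⟩
      · exact w.hax (h ▸ w.hbx)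
      · exact hc.2.2 hc.1.2
    have key : ∀ s, Reach S d s → s ∈ N ∨ ∃ u ∈ S, ∃ n ∈ N, u ∉ N ∧ ¬ Commute n u := by
      intro s hs
      induction hs with
      | refl => exact Or.inl hdN
      | @tail p q _ hpq ih =>
        rcases ih with hp | h
        · by_cases hq : q ∈ N
          · exact Or.inl hq
          · exact Or.inr ⟨q, hpq.2.1, p, hp, hq, hpq.2.2⟩
        · exact Or.inr h
    exact (key b (B.conn d w.ha b w.hb)).resolve_left hbN
  have hnz : ∀ z ∈ rest S d, ¬ Commute u z := by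
    intro z hz hc
    obtain ⟨wz, hz'⟩ := hevery z hz
    obtain ⟨F, -, -⟩ := wz.bad hGood hBend B ih hbad
    rw [hz'] at F
    exact hun (F.of_not_commute hn ⟨hu, hc⟩ hnu)
  have hdu : ¬ Commute d u := fun hc => hr (reach_trans
    (reach_of_not_commute hbT ⟨hu, hc.symm⟩ fun e => hnz b hb e.symm)
    (reach_of_not_commute ⟨hu, hc.symm⟩ hb'.1 (hnz b' hb')))
  obtain ⟨z, wz⟩ := B.mem.exists_wit hGood hBend B.conn B.linked w.ha hu hdu
  obtain ⟨n', hn', hzn'⟩ := wz.le_of_ncard B.mem B.conn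
  exact hnz z (rest_of_not_commute ⟨wz.hb, wz.hba⟩ hn' hzn') wz.hbx.symm

/-- The neighbours outside the class of every member form one flat component. -/
structure Net (S : Set G) : Prop where
  big : Big S
  flat : ∀ v ∈ S, ∀ u ∈ rest S v, Flat S v u (rest S v)
  cov : ∀ v ∈ S, ∀ p ∈ rest S v, ∀ q ∈ rest S v, ¬ Commute p q → ∀ y ∈ rest S v,
    ∃ y' ∈ orb S p q, Commute y' y

theorem Big.net (B : Big S) (ih : GoodBelow G S.ncard) {d x b : G} (w : Wit S d x b)
    (hbad : ¬ Abel (orb S d x)) :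
    Net S ∧ SzLine (LQ (rest S b)) ∧ ∀ P R : Sylow 2 (LQ (rest S b)), R ≠ P → closure (invols P ∪ invols R) = ⊤ := by
  have hS := B.mem
  obtain ⟨F, hsz, hfull⟩ := w.bad hGood hBend B ih hbad
  have hone : ∀ v ∈ S, OneComp S v := by
    intro v hv p hp q hq
    obtain ⟨g, hg, rfl⟩ := hS.exists_conj_of_reach (B.conn d w.ha v hv)
    have h := w.oneComp hGood hBend B ih hbad _ (mem_rest_conj hS hg hp) _ (mem_rest_conj hS hg hq)
    have h' := h.lift (fun t => g * t * g⁻¹) (p := Adj (Cent S (g * d * g⁻¹))) fun a c hac => by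
      rw [hS.conj_cent_eq (fun t ht => hS.conj_mem_closure hg ht)]
      exact ⟨⟨a, hac.1, rfl⟩, ⟨c, hac.2.1, rfl⟩, fun e => hac.2.2 ((Commute.conj_iff g).mp e)⟩
    simpa [mul_assoc, Function.onFun, Reach] using h'
  have hcomp : ∀ v ∈ S, ∀ u ∈ rest S v, OddT.comp (Cent S v) u = rest S v := by
    intro v hv u hu
    refine Set.Subset.antisymm (fun z hz => ?_) fun z hz => ⟨hz.1, hone v hv u hu z hz⟩
    rcases hz.2.cases_tail with rfl | ⟨c, -, hc⟩
    · exact hu
    · exact rest_of_not_commute hc.2.1 hc.1 fun e => hc.2.2 e.symm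
  have hdb : d ∈ rest S b := rest_of_not_commute ⟨w.ha, w.hba.symm⟩ ⟨w.hx, w.hbx.symm⟩ w.hax
  have hNb : OddT.comp (Cent S b) d = rest S b := hcomp b w.hb d hdb
  rw [hNb] at F hsz hfull
  have hnl : ∀ v ∈ S, ¬ Linked (rest S v) := by
    intro v hv hl
    obtain ⟨g, hg, rfl⟩ := hS.exists_conj_of_reach (B.conn b w.hb v hv)
    rw [rest_conj hS hg] at hl
    have h2 := linked_image g⁻¹ hl
    simp only [← Set.image_comp, Function.comp_def] at h2
    simp [mul_assoc] at h2
    exact F.not_linked h2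
  have hflat : ∀ v ∈ S, ∀ u ∈ rest S v, Flat S v u (rest S v) := by
    intro v hv u hu
    obtain ⟨n, hn, hun⟩ := rest_partner hS B.conn hv hu
    exact ⟨hcomp v hv u hu ▸ (hS.cent hv).comp hu.1 hn.1 hun, (hcomp v hv u hu).symm, hu, ⟨n, hn, hun⟩, hnl v hv⟩
  refine ⟨⟨B, hflat, fun v hv p hp q hq hpq y hy => ?_⟩, hsz, hfull⟩
  obtain ⟨g, hg, rfl⟩ := hS.exists_conj_of_reach (B.conn b w.hb v hv)
  have main : ∀ p ∈ rest S b, ∀ q ∈ rest S b, ¬ Commute p q → ∀ y ∈ rest S b,
      ∃ y' ∈ orb S p q, Commute y' y := by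
    intro p hp q hq hpq y hy
    have Fp := hflat b w.hb p hp
    have L := Fp.mem.isLine hGood hBend Fp.not_linked
    set π := proj (rest S b)
    have hsq : ∀ {z : G} (hz : z ∈ rest S b), π (el hz) * π (el hz) = 1 := fun {z} hz => by
      rw [← map_mul, show el hz * el hz = 1 from Subtype.ext (Fp.mem.sq z hz), map_one]
    obtain ⟨P, hP⟩ := exists_point (hsq hp)
    obtain ⟨R, hR⟩ := exists_point (hsq hq)
    have hIp : π (el hp) ∈ invols P := ⟨L.ne_one _ hp, hsq hp, hP⟩
    have hIq : π (el hq) ∈ invols R := ⟨L.ne_one _ hq, hsq hq, hR⟩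
    have hRP : R ≠ P := fun e => hpq (congrArg Subtype.val ((L.commute_iff _ hp _ hq).mp
      ((L.pts.commute_iff hIp hIq.1 hIq.2.1).mpr (e ▸ hR))).eq)
    have hclsN : ∀ e ∈ cls S p, e ∈ rest S b := fun e he => Fp.cls_mem w.hb hp hq hpq he
    have horb : orb S p q ⊆ rest S b := by
      rintro _ ⟨k, hk, z, hz, rfl⟩
      refine Fp.mem.conj_mem_closure ((closure_le _).mpr ?_ hk) (hclsN z hz)
      rintro r (hr | rfl)
      · exact subset_closure (hclsN r hr)
      · exact subset_closure hq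
    set ρ := π.comp (incl horb)
    have hqo : q ∈ orb S p q := hS.mem_orb hp.1.1 hq.1.1 hpq
    have htop : ρ.range = ⊤ := by
      rw [eq_top_iff, ← hfull P R hRP, closure_le]
      rintro u (hu | hu)
      · obtain ⟨e, heN, he, rfl⟩ := Fp.invols_cls hGood hBend hS B.conn (below_all hGood hBend S) w.hb hp hq hpq hP hu
        exact ⟨el (cls_subset_orb he), rfl⟩
      · obtain ⟨e, heN, he, rfl⟩ :=
          Fp.invols_cls hGood hBend hS B.conn (below_all hGood hBend S) w.hb hq hp (fun e => hpq e.symm) hR hu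
        obtain ⟨f, hf, hfg, hfa⟩ := hS.exists_mid hp.1.1 hq.1.1 hpq
        have hfgen : f ∈ gen S p q := closure_mono (by
          rintro r (rfl | rfl)
          · exact Or.inl (self_mem_cls hp.1.1)
          · exact Or.inr rfl) hfg
        have himg := hS.cls_image (subset_closure hf) p
        rw [hS.inv_eq hf, hfa] at himg
        rw [← himg] at he
        obtain ⟨e', he', rfl⟩ := he
        have h1 := orb_conj hfgen (cls_subset_orb (x := q) he')
        rw [hS.inv_eq hf] at h1
        exact ⟨el h1, rfl⟩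
    obtain ⟨Y, hY⟩ := exists_point (hsq hy)
    obtain ⟨k0, hk0⟩ := exists_smul_eq (LQ (rest S b)) R Y
    obtain ⟨k, hk⟩ : k0 ∈ ρ.range := htop ▸ mem_top k0
    have hky : (k : G) * q * (k : G)⁻¹ ∈ orb S p q :=
      (hS.orb_mem hp.1.1 hq.1.1 hpq).conj_mem_closure k.2 hqo
    refine ⟨_, hky, ?_⟩
    have h1 := invols_conj hIq k0
    rw [hk0] at h1
    have h2 : π (el (horb hky)) = k0 * π (el hq) * k0⁻¹ := by
      rw [← hk, show el (horb hky) = incl horb k * el hq * (incl horb k)⁻¹ from Subtype.ext rfl, map_mul, map_mul,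
        map_inv]
      rfl
    rw [← h2] at h1
    exact congrArg Subtype.val ((L.commute_iff (el (horb hky)) (horb hky) (el hy) hy).mp
      ((L.pts.commute_iff h1 (L.ne_one (el hy) hy) (hsq hy)).mpr hY)).eq
  obtain ⟨y', hy', hc⟩ := main _ (mem_rest_conj hS hg hp) _ (mem_rest_conj hS hg hq)
    (fun e => hpq (by simpa [mul_assoc] using (Commute.conj_iff g).mpr e)) _ (mem_rest_conj hS hg hy)
  refine ⟨g * y' * g⁻¹, ?_, by simpa [mul_assoc] using (Commute.conj_iff g).mpr hc⟩
  obtain ⟨k, hk, z, hz, rfl⟩ := hy'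
  refine ⟨g * k * g⁻¹, ?_, g * z * g⁻¹, ?_, by group⟩
  · have hle : gen S (g⁻¹ * p * g) (g⁻¹ * q * g) ≤ (gen S p q).comap (MulAut.conj g).toMonoidHom := by
      refine (closure_le _).mpr ?_
      rintro r (hr | rfl)
      · refine subset_closure (Or.inl ?_)
        have := hS.cls_conj hg hr
        simpa [mul_assoc] using this
      · refine subset_closure (Or.inr ?_)
        simp [mul_assoc]
    exact hle hk
  · have := hS.cls_conj hg hz
    simpa [mul_assoc] using this

end Cfsg.Agent.H76.OddT
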