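import Cfsg.Agent.H76.OddT.NoBad
import Cfsg.Agent.H25.Transfer
import Cfsg.Agent.H27.ProjLine
import Cfsg.Agent.Linear.Order

/-!
With trivial 2-core the group generated by a class and a noncommuting member is `L₂(q)`, where `q` is the order
of the group of the class.
-/

set_option autoImplicit false
set_option linter.style.haveILetI false

namespace Cfsg.Agent.H76.OddT

open Subgroup MulAction
open scoped commutatorElement

universe u

variable {G : Type u} [Group G] [Finite G] {S : Set G}

/-- The Sylow 2-subgroups of `SL₂(2ⁿ)` have order `2ⁿ`. -/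
theorem sylow_card_sl_two {Q : Type u} [Group Q] [Finite Q] {F : Type} [Field F] [Fintype F] [CharP F 2]
    (e : Q ≃* Matrix.SpecialLinearGroup (Fin 2) F) (P : Sylow 2 Q) :
    Nat.card (P : Subgroup Q) = Fintype.card F := by
  haveI : Fact (Nat.Prime 2) := ⟨Nat.prime_two⟩
  obtain ⟨n, -, hn⟩ := FiniteField.card F 2
  have hodd : ¬ 2 ∣ Fintype.card F ^ 2 - 1 := by
    rw [hn, ← pow_mul]
    intro h
    have h1 : 2 ∣ 2 ^ ((n : ℕ) * 2) := dvd_pow_self 2 (by positivity)
    have h2 : 1 ≤ 2 ^ ((n : ℕ) * 2) := Nat.one_le_two_pow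
    omega
  rw [P.card_eq_multiplicity, Nat.card_congr e.toEquiv, Linear.card_SL_two, hn] at *
  rw [Nat.factorization_mul (by positivity) (fun h => hodd (by rw [h]; exact dvd_zero 2)), Finsupp.add_apply,
    Nat.factorization_eq_zero_of_not_dvd hodd, add_zero, Nat.prime_two.factorization_pow, Finsupp.single_eq_same]

variable (hGood : H3.RootInv.GoodHyp.{u}) (hBend : PostBender.BenderHyp.{u})
include hGood hBend

/-- The group of a line. -/
theorem Big.line_iso (B : Big S) {d x : G} (hd : d ∈ S) (hx : x ∈ S) (hdx : ¬ Commute d x) :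
    ∃ (F : Type) (_ : Field F) (_ : Fintype F), Fintype.card F = Nat.card ↥(closure (cls S d)) ∧
      Nonempty (↥(gen S d x) ≃* Matrix.ProjectiveSpecialLinearGroup (Fin 2) F) := by
  haveI : Fact (Nat.Prime 2) := ⟨Nat.prime_two⟩
  have hS := B.mem
  have hB := below_all hGood hBend S
  have hA : Abel (orb S d x) := OddT.noBad hGood hBend S hS B.conn B.linked d hd x hx hdx
  set C := orb S d x
  have hCmem : Mem C := hS.orb_mem hd hx hdx
  have L := hS.orb_line hGood hBend B.conn B.linked hd hx hdx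
  have hdo : d ∈ C := cls_subset_orb (self_mem_cls hd)
  set X := ↥(closure C)
  set π := proj C
  -- the point of `d`
  have hsqm : ∀ {z : G} (hz : z ∈ C), π (el hz) * π (el hz) = 1 := fun {z} hz => by
    rw [← map_mul, show el hz * el hz = 1 from Subtype.ext (hCmem.sq z hz), map_one]
  obtain ⟨P, hP⟩ := exists_point (hsqm hdo)
  obtain ⟨-, hpt⟩ := B.point hGood hBend hd hx hdx hP
  obtain ⟨P0, hP0⟩ := Sylow.mapSurjective_surjective L.surj 2 P
  have hPsq : ∀ z ∈ (P : Subgroup (LQ C)), z * z = 1 := by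
    rw [← hP0]
    rintro _ ⟨k, hk, rfl⟩
    obtain ⟨m, hm⟩ := P0.isPGroup' ⟨k, hk⟩
    rw [← map_mul]
    exact hA k ⟨m, by simpa using congrArg Subtype.val hm⟩
  have hPab : IsMulCommutative ↥(P : Subgroup (LQ C)) := by
    refine ⟨⟨fun p q => Subtype.ext ?_⟩⟩
    show (p : LQ C) * q = q * p
    have h2 := inv_eq_of_mul_eq_one_left (hPsq _ (mul_mem p.2 q.2))
    rwa [mul_inv_rev, inv_eq_of_mul_eq_one_left (hPsq _ p.2), inv_eq_of_mul_eq_one_left (hPsq _ q.2),
      eq_comm] at h2
  rcases L.bender with ⟨F, iF, iF', hch, -, ⟨e⟩⟩ | hsz | ⟨F, _, _, q, hq, heven, -, ⟨e⟩⟩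
  rotate_left
  · exact absurd hPab (H10.AbTwo.sz_sylow_nonabelian hsz P)
  · haveI := PostBender.charP_two_of_card hq heven
    exact absurd hPab (H10.AbTwo.psu_sylow_nonabelian hq e P)
  obtain ⟨eSL⟩ := PostBender.nonempty_equiv_sl_two e
  have hule : closure (cls S d) ≤ closure C := clsGroup_le_orb
  -- the group of the class is the point
  have hcard : Fintype.card F = Nat.card ↥(closure (cls S d)) := by
    rw [← sylow_card_sl_two eSL P]
    have hmemP : ∀ u : ↥(closure (cls S d)), π ⟨u.1, hule u.2⟩ ∈ (P : Subgroup (LQ C)) := by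
      intro u
      rcases eq_or_ne u.1 1 with h1 | h1
      · rw [show (⟨u.1, hule u.2⟩ : X) = 1 from Subtype.ext h1, map_one]; exact one_mem _
      · have hv := (hpt _).mpr ⟨u.1, B.closure_cls hGood hBend hd hx hdx u.2 h1, rfl⟩
        exact mem_sylow_of_fixes hv.2.1 hv.2.2
    let φ : ↥(closure (cls S d)) → ↥(P : Subgroup (LQ C)) := fun u => ⟨π ⟨u.1, hule u.2⟩, hmemP u⟩
    refine (Nat.card_eq_of_bijective φ ⟨fun u u' h => ?_, fun v => ?_⟩).symm
    · have h' : π ⟨u.1, hule u.2⟩ = π ⟨u'.1, hule u'.2⟩ := congrArg Subtype.val h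
      have h3 := B.sep hGood hBend hd hx hdx (mul_mem (inv_mem u.2) u'.2) (by
        show π (⟨u.1, hule u.2⟩⁻¹ * ⟨u'.1, hule u'.2⟩) = 1
        rw [map_mul, map_inv, h', inv_mul_cancel])
      exact Subtype.ext (inv_mul_eq_one.mp h3)
    · rcases eq_or_ne (v : LQ C) 1 with h1 | h1
      · exact ⟨1, Subtype.ext (by rw [h1]; exact map_one π)⟩
      · obtain ⟨e, he, hev⟩ := (hpt _).mp ⟨h1, hPsq _ v.2, smul_eq_of_mem v.2⟩
        exact ⟨⟨e, subset_closure he⟩, Subtype.ext hev⟩
  -- the kernel is central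
  obtain ⟨b₁, b₂, w₁, w₂, h12⟩ := hS.exists_wit_pair hGood hBend B.conn B.linked hd hx hdx
  have hocls : ∀ o : X, π o = 1 → ∀ e ∈ cls S d, Commute (o : G) e := by
    intro o ho e he
    have heC : e ∈ C := cls_subset_orb he
    have hm : (o : G) * e * (o : G)⁻¹ ∈ C := hCmem.conj_mem_closure o.2 heC
    have heq : π (el hm) = π (el heC) := by
      rw [show el hm = o * el heC * o⁻¹ from Subtype.ext rfl, map_mul, map_mul, map_inv, ho, one_mul, inv_one,
        mul_one]
    have hme : Commute ((o : G) * e * (o : G)⁻¹) e :=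
      congrArg Subtype.val ((L.commute_iff (el hm) hm (el heC) heC).mp (heq ▸ Commute.refl _)).eq
    have hcl := w₁.full hS B.conn hB w₂ h12 hm ((commute_iff_of_cls he (hS.orb_subset hx hm)).mp hme)
    have h2 := B.proj_inj hGood hBend hd hx hdx hcl he heq
    show (o : G) * e = e * o
    calc (o : G) * e = (o : G) * e * (o : G)⁻¹ * o := by group
      _ = e * o := by rw [h2]
  have hcenX : π.ker ≤ center X := by
    intro o ho
    have hocen : ∀ z ∈ C, Commute (o : G) z := by
      rintro _ ⟨g, hg, y, hy, rfl⟩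
      have hgC : g ∈ closure C := by rw [hS.closure_orb hd hx hdx]; exact hg
      have h0 : π (⟨g, hgC⟩⁻¹ * o * ⟨g, hgC⟩) = 1 := by
        rw [map_mul, map_mul, map_inv, show π o = 1 from ho, mul_one, inv_mul_cancel]
      have h1 := (Commute.conj_iff g).mpr (hocls _ h0 y hy)
      simpa [mul_assoc] using h1
    rw [mem_center_iff]
    intro g
    have hle : closure C ≤ centralizer {(o : G)} := (closure_le _).mpr fun z hz =>
      mem_centralizer_singleton_iff.mpr (hocen z hz).eq.symm
    exact Subtype.ext (mem_centralizer_singleton_iff.mp (hle g.2))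
  -- the group is perfect
  have hxo : x ∈ C := hS.mem_orb hd hx hdx
  obtain ⟨f, hf, hfg, hfd⟩ := hS.exists_mid hd hx hdx
  have hfC : f ∈ closure C := (closure_le _).mpr (by
    rintro y (rfl | rfl)
    · exact subset_closure hdo
    · exact subset_closure hxo) hfg
  have hId : π (el hdo) ∈ invols P := (hpt _).mpr ⟨d, self_mem_cls hd, rfl⟩
  obtain ⟨t, ht, htP⟩ := L.pts.exists_invol_move P
  obtain ⟨T, -, hT, htrans, -⟩ := L.pts.torus ht htP
  have hperf : commutator X = ⊤ := by
    have hcls : ∀ e, ∀ he : e ∈ cls S d, el (cls_subset_orb (x := x) he) ∈ commutator X := by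
      intro e he
      obtain ⟨e', he', hne, hc, hm⟩ := hS.partner_cls he
      have hIm := (hpt _).mpr ⟨_, hm, rfl⟩
      have hI' := (hpt _).mpr ⟨_, he', rfl⟩
      obtain ⟨c, hcT, hce⟩ := htrans _ hI' _ hIm
      obtain ⟨k, rfl⟩ := L.surj c
      have hkm : (k : G) * e' * (k : G)⁻¹ ∈ C := hCmem.conj_mem_closure k.2 (cls_subset_orb he')
      have hk2 : π (el hkm) = π (el (cls_subset_orb hm)) := by
        rw [show el hkm = k * el (cls_subset_orb he') * k⁻¹ from Subtype.ext rfl, map_mul, map_mul, map_inv]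
        exact hce
      have hkd : Commute ((k : G) * e' * (k : G)⁻¹) d := by
        refine congrArg Subtype.val ((L.commute_iff (el hkm) hkm (el hdo) hdo).mp ?_).eq
        rw [hk2]
        exact (L.pts.commute_iff hIm hId.1 hId.2.1).mpr hId.2.2
      have h2 := B.proj_inj hGood hBend hd hx hdx (w₁.full hS B.conn hB w₂ h12 hkm hkd) hm hk2
      have h3 : el (cls_subset_orb (x := x) he) = (⁅k, el (cls_subset_orb he')⁆)⁻¹ := by
        refine Subtype.ext ?_
        show e = ((k : G) * e' * (k : G)⁻¹ * e'⁻¹)⁻¹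
        rw [h2, hS.inv_eq he'.1, mul_assoc, ← hc.eq, ← mul_assoc, hS.sq e' he'.1, one_mul, hS.inv_eq he.1]
      rw [h3]
      exact inv_mem (commutator_mem_commutator (mem_top _) (mem_top _))
    have hle : closure ((Subtype.val : X → G) ⁻¹' C) ≤ commutator X := (closure_le _).mpr fun z hz => by
      obtain ⟨g, hg, y, hy, hze⟩ := id hz
      have hgC : g ∈ closure C := by rw [hS.closure_orb hd hx hdx]; exact hg
      rw [show z = ⟨g, hgC⟩ * el (cls_subset_orb hy) * (⟨g, hgC⟩ : X)⁻¹ from Subtype.ext hze]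
      exact (inferInstance : (commutator X).Normal).conj_mem _ (hcls y hy) _
    rw [closure_closure_coe_preimage] at hle
    exact eq_top_iff.mpr hle
  -- the Sylow subgroups are abelian
  have hP0ab : IsMulCommutative ↥(P0 : Subgroup X) := by
    have hdec : ∀ k ∈ (P0 : Subgroup X), ∃ u, ∃ hu : u ∈ closure (cls S d),
        (⟨u, hule hu⟩ : X)⁻¹ * k ∈ center X := by
      intro k hk
      have hkP : π k ∈ (P : Subgroup (LQ C)) := hP0 ▸ mem_map_of_mem π hk
      rcases eq_or_ne (π k) 1 with h1 | h1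
      · refine ⟨1, one_mem _, hcenX ?_⟩
        show π _ = 1
        rw [show (⟨1, hule (one_mem _)⟩ : X) = 1 from rfl, inv_one, one_mul]; exact h1
      · obtain ⟨e, he, hev⟩ := (hpt _).mp ⟨h1, hPsq _ hkP, smul_eq_of_mem hkP⟩
        refine ⟨e, subset_closure he, hcenX ?_⟩
        show π _ = 1
        rw [map_mul, map_inv, ← hev]
        exact inv_mul_cancel _
    refine ⟨⟨fun p q => Subtype.ext ?_⟩⟩
    obtain ⟨u, hu, hcu⟩ := hdec p p.2
    obtain ⟨v, hv, hcv⟩ := hdec q q.2
    have huv : Commute (⟨u, hule hu⟩ : X) ⟨v, hule hv⟩ := by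
      refine Subtype.ext ?_
      show u * v = v * u
      clear hcu hcv
      induction hv using closure_induction with
      | mem e he => exact (clsGroup_sq hS hd hu).2 e he
      | one => rw [mul_one, one_mul]
      | mul a b _ _ ha hb => exact (show Commute u a from ha).mul_right hb
      | inv a _ ha => exact (show Commute u a from ha).inv_right
    have hc1 : ∀ z : X, Commute ((⟨u, hule hu⟩ : X)⁻¹ * p) z := fun z => (mem_center_iff.mp hcu z).symm
    have hc2 : ∀ z : X, Commute ((⟨v, hule hv⟩ : X)⁻¹ * q) z := fun z => (mem_center_iff.mp hcv z).symm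
    show Commute (p : X) q
    rw [← mul_inv_cancel_left (⟨u, hule hu⟩ : X) p, ← mul_inv_cancel_left (⟨v, hule hv⟩ : X) q]
    exact (huv.mul_right ((hc2 _).symm)).mul_left ((hc1 _).mul_right (hc1 _))
  -- the kernel is trivial
  have hker : π.ker = ⊥ := by
    rw [eq_bot_iff]
    intro z hz
    rw [mem_bot]
    by_contra hz1
    obtain ⟨r, hr, hrd⟩ := Nat.exists_prime_and_dvd (fun h => hz1 (orderOf_eq_one_iff.mp h))
    haveI := Fact.mk hr
    have hord : orderOf (z ^ (orderOf z / r)) = r := orderOf_pow_orderOf_div (orderOf_pos z).ne' hrd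
    obtain ⟨R, hR⟩ := (IsPGroup.of_card (p := r) (n := 1) (G := zpowers (z ^ (orderOf z / r)))
      (by rw [Nat.card_zpowers, hord, pow_one])).exists_le_sylow
    have hRab : IsMulCommutative ↥(R : Subgroup X) := by
      by_cases h2 : r = 2
      · subst h2
        exact ⟨⟨fun a c => Subtype.ext (H10.AbTwo.comm_of_sylow P0 hP0ab R.isPGroup' a.2 c.2).eq⟩⟩
      · let η : ↥(R : Subgroup X) →* Matrix.SpecialLinearGroup (Fin 2) F :=
          (eSL.toMonoidHom.comp π).comp (R : Subgroup X).subtype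
        have hRr : IsPGroup r η.range := R.isPGroup'.of_surjective η.rangeRestrict η.rangeRestrict_surjective
        haveI : IsCyclic η.range := H27.ProjLine.isCyclic_sl_two_subgroup 2 r h2 h2 _ hRr
        refine ⟨⟨fun a c => commutative_of_cyclic_center_quotient η.rangeRestrict (fun k hk => ?_) a c⟩⟩
        rw [mem_center_iff]
        intro g
        have hk1 : η k = 1 := congrArg Subtype.val (MonoidHom.mem_ker.mp hk)
        exact Subtype.ext (mem_center_iff.mp (hcenX (show π (k : X) = 1 from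
          eSL.injective (hk1.trans (map_one eSL).symm))) g)
    have h1 := H25.eq_one_of_mem_commutator_of_mem_center (R : Subgroup X) hRab R.card_coprime_index
      (hR (mem_zpowers _)) (pow_mem (hcenX hz) _) (by rw [hperf]; exact mem_top _)
    rw [h1, orderOf_one] at hord
    exact hr.ne_one hord.symm
  refine ⟨F, iF, iF', hcard, ⟨((MulEquiv.subgroupCongr (hS.closure_orb hd hx hdx)).symm.trans
    (MulEquiv.ofBijective π ⟨(MonoidHom.ker_eq_bot_iff π).mp hker, L.surj⟩)).trans e⟩⟩

end Cfsg.Agent.H76.OddT
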