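import Cfsg.Agent.H76.OddT.Trl

/-!
No connected set with trivial 2-core has a pair whose line has Sylow 2-subgroups of exponent four.
-/

set_option autoImplicit false
set_option linter.style.haveILetI false

namespace Cfsg.Agent.H76.OddT

open Subgroup MulAction
open scoped Pointwise

universe u

variable {G : Type u} [Group G] [Finite G] {S : Set G}

omit [Finite G] in
theorem Flat.mem_normalizer {a b : G} {M : Set G} (_F : Flat S a b M) {g : G} (hg : ∀ z ∈ M, g * z * g⁻¹ ∈ M)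
    (hg' : ∀ z ∈ M, g⁻¹ * z * g ∈ M) : g ∈ normalizer ((closure M : Subgroup G) : Set G) := by
  have key : ∀ g : G, (∀ z ∈ M, g * z * g⁻¹ ∈ M) → ∀ y ∈ closure M, g * y * g⁻¹ ∈ closure M :=
    fun g hg y hy => ((closure_le (K := (closure M).comap (MulAut.conj g).toMonoidHom)).mpr
      (fun t ht => show g * t * g⁻¹ ∈ closure M from subset_closure (hg t ht))) hy
  rw [mem_normalizer_iff]
  refine fun y => ⟨key g hg y, fun hy => ?_⟩
  have h' := key g⁻¹ (fun z hz => by rw [inv_inv]; exact hg' z hz) _ hy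
  simpa [mul_assoc] using h'

namespace Net

variable (hGood : H3.RootInv.GoodHyp.{u}) (hBend : PostBender.BenderHyp.{u}) (N : Net S)
include N

omit [Finite G] in
theorem witness_rest {d x b : G} (w : Wit S d x b) : x ∈ rest S b ∧ d ∈ rest S b :=
  ⟨rest_of_not_commute ⟨w.hx, w.hbx.symm⟩ ⟨w.ha, w.hba.symm⟩ fun e => w.hax e.symm,
    rest_of_not_commute ⟨w.ha, w.hba.symm⟩ ⟨w.hx, w.hbx.symm⟩ w.hax⟩

include hGood hBend

/-- Neighbours outside the neighbourhood of `d` differ by a translation next to `d`. -/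
theorem step {d z z' : G} (hd : d ∈ S) (hz : z ∈ S) (hz' : z' ∈ S) (hdz : ¬ Commute d z) (hdz' : ¬ Commute d z')
    (hzz : Commute z z') : ∃ r ∈ trl S d, r * z * r⁻¹ ∈ cls S z' := by
  by_cases hcl : z' ∈ cls S z
  · exact ⟨1, one_mem _, by simpa using mem_cls_symm hz hcl⟩
  obtain ⟨c, hc, hcd, hcz'⟩ :=
    N.u2 hGood hBend hz hd (fun e => hdz e.symm) (⟨⟨hz', hzz.symm⟩, hcl⟩ : z' ∈ rest S z)
  have hcS : c ∈ S := hc.1.1
  obtain ⟨a, ha, ha2, hacl, hash, haax, hax⟩ :=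
    N.edge hGood hBend hd hz hz' hdz hdz' hzz ⟨hd, hz, hcS, hdz, hcd, hc.1.2⟩ hcz'
  have hcr : c ∈ rest S d := ⟨⟨hcS, hcd⟩, fun h => hdz ((commute_iff_of_cls h hz).mp hc.1.2.symm).symm⟩
  exact ⟨a, subset_closure ⟨c, hcr, ha, ha2, hacl, hash, haax⟩, hax⟩

omit hGood hBend in
theorem conj_trans {r s z y t : G} (hr : r ∈ closure S) (h₁ : s * z * s⁻¹ ∈ cls S y)
    (h₂ : r * y * r⁻¹ ∈ cls S t) : r * s * z * (r * s)⁻¹ ∈ cls S t := by
  rw [show r * s * z * (r * s)⁻¹ = r * (s * z * s⁻¹) * r⁻¹ by group]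
  exact mem_cls_trans (N.big.mem.cls_conj hr h₁) h₂

omit hGood hBend in
theorem genAt_conj {d c a r : G} (hr : r ∈ closure S) (hrd : r * d * r⁻¹ ∈ cls S d) (h : GenAt S d c a) :
    GenAt S d (r * c * r⁻¹) (r * a * r⁻¹) := by
  have hS := N.big.mem
  have hrest : rest S d = rest S (r * d * r⁻¹) := (rest_of_cls hrd).symm
  have hcls : cls S d = cls S (r * d * r⁻¹) := (cls_eq_of_mem hrd).symm
  refine ⟨?_, mul_mem (mul_mem hr h.mem) (inv_mem hr), ?_, fun e he => ?_, fun y hy => ?_, fun y hy hyc => ?_⟩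
  · rw [hrest, rest_conj hS hr]
    exact ⟨c, h.line, rfl⟩
  · rw [show r * a * r⁻¹ * (r * a * r⁻¹) = r * (a * a) * r⁻¹ by group, h.sq]; group
  · rw [hcls, ← hS.cls_image hr] at he
    obtain ⟨e', he', rfl⟩ := he
    exact (Commute.conj_iff r).mpr (h.cls_comm e' he')
  · rw [hrest, rest_conj hS hr] at hy
    obtain ⟨y', hy', rfl⟩ := hy
    have := (Commute.conj_iff r).mpr (h.shift y' hy')
    rw [show r * a * r⁻¹ * (r * y' * r⁻¹) * (r * a * r⁻¹)⁻¹ = r * (a * y' * a⁻¹) * r⁻¹ by group]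
    exact this
  · rw [hrest, rest_conj hS hr] at hy
    obtain ⟨y', hy', rfl⟩ := hy
    exact (Commute.conj_iff r).mpr (h.axis y' hy' ((Commute.conj_iff r).mp hyc))

/-- A translation next to `d` carries `x` as a given element of the line does; its square then moves `x`
off its point. -/
theorem exists_square {d x b : G} (w : Wit S d x b) (hsz : SzLine (LQ (rest S b)))
    (hfull : ∀ P R : Sylow 2 (LQ (rest S b)), R ≠ P → closure (invols P ∪ invols R) = ⊤) :
    ∃ r ∈ trl S d, FixVals S d r ∧ r * r * x * (r * r)⁻¹ ∈ rest S b ∧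
      ¬ Commute (r * r * x * (r * r)⁻¹) x := by
  have hS := N.big.mem
  have hB := below_all hGood hBend S
  obtain ⟨hxN, hdN⟩ := N.witness_rest w
  have F := N.flat b w.hb d hdN
  have L := N.line hGood hBend w.hb hdN
  set M := rest S b with hM
  set π := proj M
  have hsq : ∀ {z : G} (hz : z ∈ M), π (el hz) * π (el hz) = 1 := fun {z} hz => by
    rw [← map_mul, show el hz * el hz = 1 from Subtype.ext (F.mem.sq z hz), map_one]
  obtain ⟨P, hP⟩ := exists_point (hsq hdN)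
  obtain ⟨R, hR⟩ := exists_point (hsq hxN)
  have hId : π (el hdN) ∈ invols P := ⟨L.ne_one _ hdN, hsq hdN, hP⟩
  have hIx : π (el hxN) ∈ invols R := ⟨L.ne_one _ hxN, hsq hxN, hR⟩
  have hcomm : ∀ {p z : G} (hp : p ∈ M) (hz : z ∈ M), Commute (π (el hp)) (π (el hz)) ↔ Commute p z :=
    fun {p z} hp hz => (L.commute_iff (el hp) hp (el hz) hz).trans
      ⟨fun e => congrArg Subtype.val e.eq, fun e => Subtype.ext e.eq⟩
  have hRP : R ≠ P := fun e => w.hax ((hcomm hdN hxN).mp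
    ((L.pts.commute_iff hId hIx.1 hIx.2.1).mpr (e ▸ hR)))
  -- an element of order four at the point of `d`
  obtain ⟨y, hyP, hy2⟩ : ∃ y ∈ (P : Subgroup (LQ M)), y * y ≠ 1 := by
    by_contra h
    push Not at h
    refine hsz.nonab P ⟨⟨fun p q => Subtype.ext ?_⟩⟩
    show (p : LQ M) * q = q * p
    have h2 := inv_eq_of_mul_eq_one_left (h _ (mul_mem p.2 q.2))
    rwa [mul_inv_rev, inv_eq_of_mul_eq_one_left (h _ p.2), inv_eq_of_mul_eq_one_left (h _ q.2), eq_comm] at h2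
  -- a lift fixing every common neighbour of the pair
  obtain ⟨g, hgw, hgy⟩ : ∃ g : ↥(closure M), (∀ w', Wit S d x w' → Commute (g : G) w') ∧ π g = y := by
    let H : Subgroup ↥(closure M) :=
      { carrier := {k | ∀ w', Wit S d x w' → Commute (k : G) w'}
        one_mem' := fun w' _ => Commute.one_left w'
        mul_mem' := fun {p q} hp hq w' hw' => (hp w' hw').mul_left (hq w' hw')
        inv_mem' := fun {p} hp w' hw' => (hp w' hw').inv_left }
    have hle : (⊤ : Subgroup (LQ M)) ≤ H.map π := by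
      rw [← hfull P R hRP, closure_le]
      rintro v (hv | hv)
      · obtain ⟨e, heM, he, rfl⟩ := F.invols_cls hGood hBend hS N.big.conn hB w.hb hdN hxN w.hax hP hv
        exact ⟨el heM, fun w' hw' => (commute_of_cls he hw'.hb hw'.hba).symm, rfl⟩
      · obtain ⟨e, heM, he, rfl⟩ :=
          F.invols_cls hGood hBend hS N.big.conn hB w.hb hxN hdN (fun e => w.hax e.symm) hR hv
        exact ⟨el heM, fun w' hw' => (commute_of_cls he hw'.hb hw'.hbx).symm, rfl⟩
    obtain ⟨g, hg, hgy⟩ := hle (mem_top y)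
    exact ⟨g, hg, hgy⟩
  set x2 := (g : G) * x * (g : G)⁻¹
  have hx2M : x2 ∈ M := F.mem.conj_mem_closure g.2 hxN
  have hgcl : (g : G) ∈ closure S := closure_mono (fun z hz => hz.1.1) g.2
  have hx2e : el hx2M = g * el hxN * g⁻¹ := Subtype.ext rfl
  have hIx2 : π (el hx2M) ∈ invols (y • R) := by
    rw [hx2e, map_mul, map_mul, map_inv, hgy]
    exact invols_conj hIx y
  have hy1 : y ≠ 1 := fun h => hy2 (by rw [h, one_mul])
  have hyR : y • R ≠ R := fun e => hy1 (L.pts.semi hRP hyP e)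
  have hyRP : y • R ≠ P := fun e => hRP (smul_left_cancel y (e.trans (smul_eq_of_mem hyP).symm))
  have hdx2 : ¬ Commute d x2 := fun e => hyRP (L.pts.point_unique hId
    ((L.pts.commute_iff hIx2 hId.1 hId.2.1).mp ((hcomm hx2M hdN).mpr e.symm)))
  -- the path
  have hbd : b ∈ rest S d := N.rest_symm w.hb hdN
  have hbx : b ∈ rest S x := N.rest_symm w.hb hxN
  obtain ⟨v, hv, hvb, hvc⟩ := N.line_two hGood hBend w.ha hbd
  have hvN : v ∈ M := N.mem_rest w.hb hv.1.1 hvb w.hx w.hbx.symm fun e => hvc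
    (N.u1 hGood hBend w.ha w.hx w.hax w.hb hv.1.1 w.hba w.hbx hv.1.2 e hvb.symm)
  have hxv : ¬ Commute x v := fun e => hvc
    (N.u1 hGood hBend w.ha w.hx w.hax w.hb hv.1.1 w.hba w.hbx hv.1.2 e.symm hvb.symm)
  obtain ⟨c, hc, hcb, -, -⟩ := N.exists_fourth hGood hBend w.ha hbd hbd hbd
  obtain ⟨c', hc', hc'x, hc'c⟩ := N.u2 hGood hBend w.ha w.hx w.hax hc
  have hc'b : ¬ Commute c' b := fun e => hcb (N.trans_rest hGood hBend w.ha hc hc' hbd hc'c.symm e)
  have hc'rx : c' ∈ rest S x := ⟨⟨hc'.1.1, hc'x⟩,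
    fun h => w.hax ((commute_iff_of_cls h w.ha).mp hc'.1.2.symm)⟩
  obtain ⟨z, hz, hzv, hzc⟩ := N.u2 hGood hBend w.hx hv.1.1 hxv hc'rx
  have hzd : ¬ Commute z d := fun e => hc'b (N.trans_rest hGood hBend w.ha hc' hv hbd
    (commute_of_cls (mem_cls_symm hc'.1.1
      (N.u1 hGood hBend w.ha w.hx w.hax hc'.1.1 hz.1.1 hc'.1.2 hc'x e hz.1.2 hzc.symm)) hv.1.1 hzv.symm).symm hvb)
  have hdz : ¬ Commute d z := fun e => hzd e.symm
  obtain ⟨r₁, hr₁, hr₁z⟩ := N.step hGood hBend w.ha w.hx hz.1.1 w.hax hdz hz.1.2.symm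
  obtain ⟨r, hr, hrx⟩ : ∃ r ∈ trl S d, r * x * r⁻¹ ∈ cls S x2 := by
    by_cases hzx : Commute z x2
    · obtain ⟨r₂, hr₂, hr₂x⟩ := N.step hGood hBend w.ha hz.1.1 hx2M.1.1 hdz hdx2 hzx
      exact ⟨r₂ * r₁, mul_mem hr₂ hr₁, N.conj_trans (N.trl_le hr₂) hr₁z hr₂x⟩
    have hvz : v ∈ rest S z := ⟨⟨hv.1.1, hzv.symm⟩, fun h => hdz ((commute_iff_of_cls h w.ha).mp hv.1.2.symm)⟩
    obtain ⟨t, ht, htx, htv⟩ := N.u2 hGood hBend hz.1.1 hx2M.1.1 hzx hvz
    have hdt : ¬ Commute d t := fun e => hdx2 (N.trans_rest hGood hBend w.hb hdN hvN hx2M hv.1.2.symm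
      (commute_of_cls (N.u1 hGood hBend w.ha hz.1.1 hdz hv.1.1 ht.1.1 hv.1.2 hzv.symm e.symm ht.1.2 htv.symm |>
        mem_cls_symm hv.1.1) hx2M.1.1 htx.symm).symm)
    obtain ⟨r₂, hr₂, hr₂t⟩ := N.step hGood hBend w.ha hz.1.1 ht.1.1 hdz hdt ht.1.2.symm
    obtain ⟨r₃, hr₃, hr₃x⟩ := N.step hGood hBend w.ha ht.1.1 hx2M.1.1 hdt hdx2 htx
    exact ⟨r₃ * (r₂ * r₁), mul_mem hr₃ (mul_mem hr₂ hr₁),
      N.conj_trans (N.trl_le hr₃) (N.conj_trans (N.trl_le hr₂) hr₁z hr₂t) hr₃x⟩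
  have hfix : FixVals S d r := N.fix_of_point hGood hBend w.ha hr w.hx w.hax hrx fun w' hw' => by
    have := (Commute.conj_iff (g : G)).mpr hw'.hbx
    rwa [(hgw w' hw').eq, mul_inv_cancel_right] at this
  -- both act on the points in the same way
  obtain ⟨hrd, hrcls, -⟩ := N.trl_spec hGood hBend w.ha hr
  have hrS := N.trl_le hr
  have hrb : r * b * r⁻¹ ∈ cls S b := mem_of_act_eq w.hb (hfix b hbd)
  have hrM : ∀ {z : G}, z ∈ M → r * z * r⁻¹ ∈ M := fun {z} hz => by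
    rw [hM, ← rest_of_cls hrb, rest_conj hS hrS]
    exact ⟨z, hz, rfl⟩
  have hrn : r ∈ normalizer ((closure M : Subgroup G) : Set G) :=
    F.mem_normalizer (fun z hz => hrM hz) fun z hz => mem_of_conj_closed (fun t ht => hrM ht) hz
  set φ := lineAut M ((closure M).normalizerMonoidHom ⟨r, hrn⟩)
  have hφel : ∀ {z : G} (hz : z ∈ M), φ (π (el hz)) = π (el (hrM hz)) := fun hz => rfl
  set ψ : MulAut (LQ M) := MulAut.conj y⁻¹ * φ
  have hψ : ∀ v : LQ M, ψ v = y⁻¹ * φ v * y := fun v => by simp [ψ]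
  have hφU : ∀ v ∈ invols P, φ v = v := fun v hv => by
    obtain ⟨e, heM, he, rfl⟩ := F.invols_cls hGood hBend hS N.big.conn hB w.hb hdN hxN w.hax hP hv
    rw [hφel heM]
    exact congrArg π (Subtype.ext (show r * e * r⁻¹ = e by rw [(hrcls e he).eq, mul_inv_cancel_right]))
  have hψU : ∀ v ∈ invols P, ψ v = v := fun v hv => by
    rw [hψ, hφU v hv, mul_assoc, (L.pts.invols_central hv hyP).eq, inv_mul_cancel_left]
  have hψP : ψ • P = P := by
    have h1 := invols_map hId ψ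
    rw [hψU _ hId] at h1
    exact L.pts.point_unique hId h1.2.2
  have hφR : φ • R = y • R := by
    have h1 := invols_map hIx φ
    rw [hφel hxN] at h1
    exact (L.pts.point_unique h1 ((L.pts.commute_iff hIx2 h1.1 h1.2.1).mp
      ((hcomm hx2M (hrM hxN)).mpr (commute_of_cls (mem_cls_symm hx2M.1.1 hrx) (hrM hxN).1.1
        (Commute.refl _)).symm |> fun h => h))).symm
  have hψsmul : ∀ T : Sylow 2 (LQ M), ψ • T = y⁻¹ • (φ • T) := fun T => by
    rw [mul_smul]; exact Sylow.ext rfl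
  have hψR : ψ • R = R := by rw [hψsmul, hφR, inv_smul_smul]
  have hmap : ∀ {T : Sylow 2 (LQ M)}, ψ • T = T → ∀ z ∈ (T : Subgroup (LQ M)), ψ z ∈ (T : Subgroup (LQ M)) :=
    fun {T} hT z hz => by
      have h1 : ψ z ∈ ((ψ • T : Sylow 2 (LQ M)) : Subgroup (LQ M)) := ⟨z, hz, rfl⟩
      rwa [hT] at h1
  have hψpts : ∀ T : Sylow 2 (LQ M), ψ • T = T := by
    intro T
    by_cases hT : T = P
    · rw [hT, hψP]
    obtain ⟨z, hz, rfl⟩ := L.pts.trans P R T hRP hT
    rw [smul_smul_point, hsz.rigid hRP hψU (hmap hψP) (hmap hψR) hz, hψR]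
  have hφT : φ • (y • R) = y • y • R := by
    have h1 := hψpts (y • R)
    rw [hψsmul, inv_smul_eq_iff] at h1
    exact h1
  refine ⟨r, hr, hfix, ?_⟩
  have hmem : r * r * x * (r * r)⁻¹ ∈ M := by
    rw [show r * r * x * (r * r)⁻¹ = r * (r * x * r⁻¹) * r⁻¹ by group]
    exact hrM (hrM hxN)
  refine ⟨hmem, fun hc => hy2 (L.pts.semi hRP (mul_mem hyP hyP) ?_)⟩
  have h1 := invols_map (invols_map hIx φ) φ
  rw [hφel hxN, hφel (hrM hxN), hφR, hφT] at h1
  rw [mul_smul]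
  refine (L.pts.point_unique h1 ((L.pts.commute_iff hIx h1.1 h1.2.1).mp
    ((hcomm hxN (hrM (hrM hxN))).mpr ?_))).symm
  rw [show r * (r * x * r⁻¹) * r⁻¹ = r * r * x * (r * r)⁻¹ by group]
  exact hc.symm

/-- The configuration does not exist. -/
theorem false {d x b : G} (w : Wit S d x b) (hsz : SzLine (LQ (rest S b)))
    (hfull : ∀ P R : Sylow 2 (LQ (rest S b)), R ≠ P → closure (invols P ∪ invols R) = ⊤) : False := by
  have hS := N.big.mem
  obtain ⟨r, hr, hfix, hx2, hxx2⟩ := N.exists_square hGood hBend w hsz hfull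
  obtain ⟨hxb, hdb⟩ := N.witness_rest w
  have hbd : b ∈ rest S d := N.rest_symm w.hb hdb
  obtain ⟨hrd, hrcls, -⟩ := N.trl_spec hGood hBend w.ha hr
  have hrS := N.trl_le hr
  have hrb : r * b * r⁻¹ ∈ cls S b := mem_of_act_eq w.hb (hfix b hbd)
  have hrM : ∀ {y : G}, y ∈ rest S b → r * y * r⁻¹ ∈ rest S b := fun {y} hy => by
    rw [← rest_of_cls hrb, rest_conj hS hrS]
    exact ⟨y, hy, rfl⟩
  have hrW : ∀ a ∈ trl S b, r * a * r⁻¹ ∈ trl S b := by
    intro a ha
    have hle : trl S b ≤ (trl S b).comap (MulAut.conj r).toMonoidHom := (closure_le _).mpr fun a ⟨c, hc⟩ =>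
      subset_closure ⟨_, N.genAt_conj hrS hrb hc⟩
    exact hle ha
  have hrfixT : ∀ y ∈ S, Commute y d → act r (cls S y) = cls S y := by
    intro y hy hyd
    by_cases h : y ∈ cls S d
    · rw [act_cls hS hrS, (hrcls y h).eq, mul_inv_cancel_right]
    · exact hfix y ⟨⟨hy, hyd⟩, h⟩
  have hrfixT' : ∀ y ∈ S, Commute y d → act r⁻¹ (cls S y) = cls S y := fun y hy hyd => by
    conv_lhs => rw [← hrfixT y hy hyd]
    rw [act_inv_act]
  -- a second common neighbour
  obtain ⟨b2, w2, hb2b⟩ := w.second hGood hBend hS N.big.conn (below_all hGood hBend S)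
  have hb2r : b2 ∈ rest S d := N.rest_symm w2.hb (N.witness_rest w2).2
  have hbb2 : ¬ Commute b b2 := fun e => hb2b e.symm
  -- commutators with the translations next to `b`
  have hcomm : ∀ a ∈ trl S b, ∀ y ∈ rest S b, act (r * r * a * (r * r)⁻¹) (cls S y) = act a (cls S y) := by
    intro a ha
    set u := r * a * r⁻¹ * a⁻¹
    have hu : u ∈ trl S b := mul_mem (hrW a ha) (inv_mem ha)
    have huline : ∀ y ∈ rest S b, Commute y d → act u (cls S y) = cls S y := by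
      intro y hy hyd
      obtain ⟨hb', -, hsh⟩ := N.trl_spec hGood hBend w.hb (inv_mem ha)
      have h1 := N.rest_map (N.trl_le (inv_mem ha)) hb' hy
      have h2 := act_cls hS (N.trl_le (inv_mem ha)) y
      have h1d : Commute (a⁻¹ * y * a⁻¹⁻¹) d := N.trans_rest hGood hBend w.hb h1 hy hdb (hsh y hy) hyd
      simp only [u, act_mul]
      rw [h2, hrfixT' _ h1.1.1 h1d, ← h2, act_act_inv, hrfixT y hy.1.1 hyd]
    have hud := mem_of_act_eq w.ha (huline d hdb (Commute.refl d))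
    obtain ⟨hub, -, -⟩ := N.trl_spec hGood hBend w.hb hu
    have huS := N.trl_le hu
    set p := u * b2 * u⁻¹
    have hpS : p ∈ S := hS.conj_mem_closure huS w2.hb
    have hpd : Commute p d :=
      (commute_of_cls (mem_cls_symm w.ha hud) hpS ((Commute.conj_iff u).mpr w2.hba))
    have hbp : ¬ Commute b p := fun e => hbb2 (by
      refine (Commute.conj_iff u).mp ?_
      rw [hub]; exact e)
    have hu'W : r * u * r⁻¹ * u⁻¹ ∈ trl S b := mul_mem (hrW u hu) (inv_mem hu)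
    have hfixp : (r * u * r⁻¹ * u⁻¹) * p * (r * u * r⁻¹ * u⁻¹)⁻¹ ∈ cls S p := by
      refine mem_of_act_eq hpS ?_
      simp only [act_mul]
      rw [show cls S p = act u (cls S b2) from (act_cls hS huS b2).symm, act_inv_act,
        hrfixT' b2 w2.hb w2.hba, act_cls hS huS, hrfixT p hpS hpd]
    have hu' := N.fix_of_point hGood hBend w.hb hu'W hpS hbp hfixp fun w' hw' => hw'.hbx
    intro y hy
    have h1 : r * r * a * (r * r)⁻¹ = (r * u * r⁻¹ * u⁻¹) * u * (u * a) := by simp only [u]; group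
    obtain ⟨hab, -, -⟩ := N.trl_spec hGood hBend w.hb ha
    have h2 := N.rest_map (N.trl_le ha) hab hy
    have h2' := act_cls hS (N.trl_le ha) y
    have h3 := N.rest_map huS hub h2
    have h3' := act_cls hS huS (a * y * a⁻¹)
    rw [h1, act_mul (r * u * r⁻¹ * u⁻¹ * u) (u * a), act_mul (r * u * r⁻¹ * u⁻¹) u, act_mul u a, h2', h3', show act u (cls S (u * (a * y * a⁻¹) * u⁻¹)) = cls S (a * y * a⁻¹) by
      rw [← h3']; exact N.trl_sq hGood hBend w.hb hu h2, hu' _ h2]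
  -- a translation moving `b2` along the line of `x`
  have hb2x : b2 ∈ rest S x := N.rest_symm w2.hb (N.witness_rest w2).1
  have hbx : b ∈ rest S x := N.rest_symm w.hb hxb
  obtain ⟨y, hy, hyb2, hyc⟩ := N.line_two hGood hBend w.hx hb2x
  have hby : ¬ Commute b y := fun e => hbb2 (N.trans_rest hGood hBend w.hx hbx hy hb2x e hyb2)
  obtain ⟨a, ha, ha2, hacl, hash, haax, hax⟩ := N.edge hGood hBend w.hb w2.hb hy.1.1 hbb2 hby hyb2.symm
    ⟨w.hb, w2.hb, w.hx, hbb2, w.hbx.symm, w2.hbx.symm⟩ hy.1.2.symm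
  have hG : GenAt S b x a := ⟨hxb, ha, ha2, hacl, hash, haax⟩
  set e := r * r
  have heS : e ∈ closure S := mul_mem hrS hrS
  set x2 := e * x * e⁻¹
  have hfix2 : act a (cls S x2) = cls S x2 := by
    have h1 := hcomm a (subset_closure ⟨x, hG⟩) x2 hx2
    rw [← h1, show cls S x2 = act e (cls S x) from (act_cls hS heS x).symm, ← act_mul, inv_mul_cancel_right,
      act_mul, N.genAt_fix hG hxb (Commute.refl x)]
  have hb2e : e * b2 * e⁻¹ ∈ cls S b2 :=
    mem_of_act_eq w2.hb (by rw [act_mul, hfix b2 hb2r, hfix b2 hb2r])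
  have hx2b2 : Commute x2 b2 :=
    commute_of_cls (mem_cls_symm w2.hb hb2e) hx2.1.1 ((Commute.conj_iff e).mpr w2.hbx.symm)
  have hx2y : Commute x2 y := by
    have h1 : a * x2 * a⁻¹ ∈ cls S x2 := mem_of_act_eq hx2.1.1 hfix2
    have h2 : Commute (a * x2 * a⁻¹) y :=
      commute_of_cls (mem_cls_symm hy.1.1 hax) h1.1 ((Commute.conj_iff a).mpr hx2b2)
    exact (commute_of_cls (mem_cls_symm hx2.1.1 h1) hy.1.1 h2.symm).symm
  exact hyc (N.u1 hGood hBend w.hx hx2.1.1 (fun e => hxx2 e.symm) w2.hb hy.1.1 w2.hbx hx2b2.symm hy.1.2 hx2y.symm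
    hyb2.symm)

end Net

end Cfsg.Agent.H76.OddT
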