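import Cfsg.Agent.H76.OddT.Bottom

/-!
Congruent members with prescribed neighbours, and common neighbours, in sets of odd transpositions.
-/

set_option autoImplicit false
set_option linter.style.haveILetI false

namespace Cfsg.Agent.H76.OddT

open Subgroup

universe u

variable {G : Type u} [Group G] [Finite G] {S : Set G}
variable (hGood : H3.RootInv.GoodHyp.{u}) (hBend : PostBender.BenderHyp.{u})

omit [Finite G] in
theorem exists_not_commute_of_mem_comp {b n c : G} (hb : b ∈ S) (hn : n ∈ S) (hbn : ¬ Commute b n)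
    (hc : c ∈ OddT.comp S b) : ∃ d ∈ S, ¬ Commute c d := by
  rcases hc.2.cases_tail with rfl | ⟨d, -, hd⟩
  · exact ⟨n, hn, hbn⟩
  · exact ⟨d, hd.1, fun e => hd.2.2 e.symm⟩

omit [Finite G] in
theorem comp_comp {u : G} (hu : u ∈ S) : OddT.comp (OddT.comp S u) u = OddT.comp S u := by
  refine Set.ext fun s => ⟨fun h => h.1, fun h => ⟨h, ?_⟩⟩
  obtain ⟨hs, hr⟩ := h
  induction hr with
  | refl => exact Relation.ReflTransGen.refl
  | tail hub hbc ih =>
    exact (ih hbc.1).tail ⟨⟨hbc.1, hub⟩, ⟨hbc.2.1, hub.tail hbc⟩, hbc.2.2⟩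

include hGood hBend

/-- A twist fixes all values. -/
theorem Twist.fix_values {r : ℕ} {a x h f : G} (tw : Twist S r a x h f) (hS : Mem S) (hconn : Conn S)
    (hB : Below S) (hr : r.Prime) (hr2 : r ≠ 2) (hrd : r ∣ (cls S a).ncard) {b : G} (wb : Wit S a x b) {w : G}
    (hw : w ∈ Cent S a) : Cent (Cent S a) (h * w * h⁻¹) = Cent (Cent S a) w := by
  set T := Cent S a
  have hT : Mem T := hS.cent wb.ha
  have hbT : b ∈ T := ⟨wb.hb, wb.hba⟩
  have hhT : ∀ t ∈ T, h * t * h⁻¹ ∈ T := fun t ht => tw.stab hS wb.ha wb.hx ht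
  have hconjeq := hT.conj_cent_eq hhT
  have fromFixed : ∀ {p : G}, Commute h p → Cent T p = Cent T w → Cent T (h * w * h⁻¹) = Cent T w := by
    intro p hhp hpw
    rw [hconjeq, ← hpw, ← hconjeq, hhp.eq, mul_inv_cancel_right]
  by_cases hwn : ∀ n ∈ T, Commute w n
  · have h1 : Cent T w = T := Set.ext fun y => ⟨fun hy => hy.1, fun hy => ⟨hy, (hwn y hy).symm⟩⟩
    rw [hconjeq, h1]
    exact Set.eq_of_subset_of_ncard_le (Set.image_subset_iff.mpr hhT)
      (Set.ncard_image_of_injective T fun u v e => by simpa using e).ge T.toFinite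
  push Not at hwn
  by_cases hwb : Commute w b
  · obtain ⟨p, -, hhp, hp⟩ := tw.val hGood hBend hS hconn hB hr hr2 hrd wb hw hwb hwn
    exact fromFixed hhp hp
  have hbw : ¬ Commute b w := fun e => hwb e.symm
  have hwM : w ∈ OddT.comp T b := ⟨hw, reach_of_not_commute hbT hw hbw⟩
  by_cases hU : ∀ y ∈ Cent T b, ∀ y' ∈ Cent T b, Commute y y'
  · have F := wb.flat hS hconn hB hU
    have h1 := F.fix hGood hBend tw hS hconn hB hr hr2 hrd wb hwM
    have hw'M := (F.auto tw hS wb).1 w hwM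
    ext y
    refine ⟨fun hy => ⟨hy.1, ?_⟩, fun hy => ⟨hy.1, ?_⟩⟩
    · by_cases hyM : y ∈ OddT.comp T b
      · exact F.mem.commute_trans hGood hBend F.not_linked hyM hw'M hwM hy.2 h1
      · exact commute_of_not_reach hy.1 hw fun e => hyM ⟨hy.1, reach_trans hwM.2 (reach_symm e)⟩
    · by_cases hyM : y ∈ OddT.comp T b
      · exact F.mem.commute_trans hGood hBend F.not_linked hyM hwM hw'M hy.2 h1.symm
      · exact commute_of_not_reach hy.1 hw'M.1 fun e => hyM ⟨hy.1, reach_trans hw'M.2 (reach_symm e)⟩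
  push Not at hU
  obtain ⟨y, hy, y', hy', hyy'⟩ := hU
  obtain ⟨u, huT, hub, huw, hun⟩ : ∃ u ∈ T, Commute u b ∧ Commute u w ∧ ∃ n ∈ T, ¬ Commute u n := by
    by_cases hyM : Reach T b y
    · have hM : Mem (OddT.comp T b) := hT.comp hbT hw hbw
      have hy'M : y' ∈ OddT.comp T b := ⟨hy'.1, reach_trans hyM (reach_of_not_commute hy.1 hy'.1 hyy')⟩
      have hl : Linked (OddT.comp T b) := by_contra fun hl => hyy'
        (hM.commute_trans hGood hBend hl ⟨hy.1, hyM⟩ ⟨hbT, Relation.ReflTransGen.refl⟩ hy'M hy.2 hy'.2.symm)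
      obtain ⟨c, hc, hcb, hcw⟩ := (hB _ hT (hS.ncard_cent_lt wb.hx fun e => wb.hax e.symm)).2 b hbT w hw hbw hl
      exact ⟨c, hc.1, hcb, hcw, exists_not_commute_of_mem_comp hbT hw hbw hc⟩
    · exact ⟨y, hy.1, hy.2, commute_of_not_reach hy.1 hw fun e => hyM (reach_trans hwM.2 (reach_symm e)),
        y', hy'.1, hyy'⟩
  obtain ⟨p, hpT, hhp, hp⟩ := tw.val hGood hBend hS hconn hB hr hr2 hrd wb huT hub hun
  have wp := tw.wit hS hr hr2 wb.ha wb.hx wb.hax hpT.1 hpT.2 hhp
  have hwp : Commute w p := ((hp.symm ▸ (⟨hw, huw.symm⟩ : w ∈ Cent T u)) : w ∈ Cent T p).2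
  obtain ⟨p', -, hhp', hp'⟩ := tw.val hGood hBend hS hconn hB hr hr2 hrd wp hw hwp hwn
  exact fromFixed hhp' hp'

/-- Congruent members next to `a` and `x`, given a common neighbour. -/
theorem Wit.congruent (hS : Mem S) (hconn : Conn S) (hB : Below S) {a x b : G} (wb : Wit S a x b) {v : G}
    (hv : v ∈ Cent S a) {n : G} (hn : n ∈ Cent S a) (hvn : ¬ Commute v n) :
    ∃ p ∈ S, Commute p a ∧ Commute p x ∧ Cong (Cent S a) v p := by
  obtain ⟨⟨r, hr, hr2, hrd⟩, htw⟩ := wb.torus hGood hBend hS hconn hB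
  obtain ⟨h, f, tw⟩ := htw r hr hr2 hrd
  have hT : Mem (Cent S a) := hS.cent wb.ha
  have hhT : ∀ t ∈ Cent S a, h * t * h⁻¹ ∈ Cent S a := fun t ht => tw.stab hS wb.ha wb.hx ht
  have hfix := hT.cong_of_fix_values hhT
    (fun w hw => tw.fix_values hGood hBend hS hconn hB hr hr2 hrd wb hw) hv
  obtain ⟨p, hp, hpc, hhp⟩ := hT.exists_fixed_cong hr hr2 tw.pow_eq hhT hv hn hvn hfix
  have wp := tw.wit hS hr hr2 wb.ha wb.hx wb.hax hp.1 hp.2 hhp
  exact ⟨p, wp.hb, wp.hba, wp.hbx, hpc⟩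

theorem cn_of_conn (hS : Mem S) (hconn : Conn S) (hB : Below S) : CN S := by
  intro u hu w hw huw hl
  have hcomp : OddT.comp S u = S := Set.ext fun s => ⟨fun h => h.1, fun h => ⟨h, hconn u hu s h⟩⟩
  rw [hcomp] at hl ⊢
  suffices H : ∀ z, Relation.ReflTransGen (Cfsg.CommAdj S) u z →
      Commute u z ∨ ∃ c ∈ S, Commute c u ∧ Commute c z from (H w (hl u hu w hw)).resolve_left huw
  intro z hz
  induction hz with
  | refl => exact Or.inl (Commute.refl u)
  | @tail y z _ hyz ih =>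
    have hyz' : Commute y z := hyz.2.2.2
    by_cases huz : Commute u z
    · exact Or.inl huz
    right
    by_cases huy : Commute u y
    · exact ⟨y, hyz.1, huy.symm, hyz'⟩
    obtain ⟨c, hc, hcu, hcy⟩ := ih.resolve_left huy
    by_cases hcz : Commute c z
    · exact ⟨c, hc, hcu, hcz⟩
    obtain ⟨p, hp, hpc, hpz, hpu⟩ := Wit.congruent hGood hBend hS hconn hB
      ⟨hc, hyz.2.1, hyz.1, hcz, hcy.symm, hyz'⟩ (show u ∈ Cent S c from ⟨hu, hcu.symm⟩)
      (show y ∈ Cent S c from ⟨hyz.1, hcy.symm⟩) huy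
    exact ⟨p, hp, ((hS.cent hc).cong_commute ⟨hu, hcu.symm⟩ ⟨hp, hpc⟩ hpu).symm, hpz⟩

theorem pr_of_conn (hS : Mem S) (hconn : Conn S) (hB : Below S) : PR S := by
  intro a ha x hx hax v hv ⟨n, hn, hvn⟩
  by_cases hvx : Commute v x
  · exact ⟨v, hv.1, hv.2, hvx, (hS.cent ha).cong_self hv⟩
  have hcomp : OddT.comp S a = S := Set.ext fun s => ⟨fun h => h.1, fun h => ⟨h, hconn a ha s h⟩⟩
  have hl : Linked S := by_contra fun hl =>
    hvn (hS.commute_trans hGood hBend hl hv.1 ha hn.1 hv.2 hn.2.symm)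
  obtain ⟨b, hb, hba, hbx⟩ := cn_of_conn hGood hBend hS hconn hB a ha x hx hax (hcomp.symm ▸ hl)
  exact Wit.congruent hGood hBend hS hconn hB ⟨ha, hx, hb.1, hax, hba, hbx⟩ hv hn hvn

/-- Congruent members and common neighbours exist. -/
theorem pr_and_cn {G : Type u} [Group G] [Finite G] (S : Set G) (hS : Mem S) : PR S ∧ CN S := by
  suffices H : ∀ (n : ℕ) (S : Set G), S.ncard = n → Mem S → PR S ∧ CN S from H _ S rfl hS
  intro n
  induction n using Nat.strong_induction_on with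
  | _ n ih =>
    intro S hn hS
    have hB : Below S := fun S' hS' hlt => ih S'.ncard (hn ▸ hlt) S' rfl hS'
    by_cases hconn : Conn S
    · exact ⟨pr_of_conn hGood hBend hS hconn hB, cn_of_conn hGood hBend hS hconn hB⟩
    have hlt : ∀ {u : G}, u ∈ S → (OddT.comp S u).ncard < S.ncard := fun {u} _ =>
      Set.ncard_lt_ncard ⟨fun s hs => hs.1, fun hsub => hconn fun s hs t ht =>
        reach_trans (reach_symm (hsub hs).2) (hsub ht).2⟩ S.toFinite
    refine ⟨fun a ha x hx hax v hv hvn => ?_, fun u hu w hw huw hl => ?_⟩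
    · set M := OddT.comp S a
      have hM : Mem M := hS.comp ha hx hax
      have hxM : x ∈ M := ⟨hx, reach_of_not_commute ha hx hax⟩
      by_cases hvM : v ∈ M
      · obtain ⟨n, hn, hvn⟩ := hvn
        have hnM : n ∈ M := ⟨hn.1, reach_trans hvM.2 (reach_of_not_commute hv.1 hn.1 hvn)⟩
        obtain ⟨p, hp, hpa, hpx, hpc⟩ := (hB M hM (hlt ha)).1 a ⟨ha, Relation.ReflTransGen.refl⟩ x hxM hax v
          ⟨hvM, hv.2⟩ ⟨n, ⟨hnM, hn.2⟩, hvn⟩
        have hsub : Cent M a ⊆ Cent S a := fun s hs => ⟨hs.1.1, hs.2⟩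
        have hnorm : closure (Cent S a) ≤ normalizer ((core (Cent M a) : Subgroup G) : Set G) := by
          rw [closure_le]
          intro s hs
          refine mem_normalizer_core fun t ht => ?_
          by_cases hsM : s ∈ M
          · exact (hM.cent ⟨ha, Relation.ReflTransGen.refl⟩).conj_mem_closure (subset_closure ⟨hsM, hs.2⟩) ht
          · rw [(commute_of_not_reach hs.1 ht.1.1 fun e =>
              hsM ⟨hs.1, reach_trans ht.1.2 (reach_symm e)⟩).eq, mul_inv_cancel_right]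
            exact ht
        refine ⟨p, hp.1, hpa, hpx, ?_⟩
        exact le_core core_isPGroup (core_le.trans (closure_mono hsub))
          (fun g hg y hy => ((mem_normalizer_iff.mp (hnorm hg)) y).mp hy) hpc
      · refine ⟨v, hv.1, hv.2, commute_of_not_reach hv.1 hx fun e => hvM ⟨hv.1, reach_trans hxM.2 (reach_symm e)⟩,
          (hS.cent ha).cong_self hv⟩
    · have hM : Mem (OddT.comp S u) := hS.comp hu hw huw
      obtain ⟨c, hc, h1, h2⟩ := (hB _ hM (hlt hu)).2 u ⟨hu, Relation.ReflTransGen.refl⟩ w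
        ⟨hw, reach_of_not_commute hu hw huw⟩ huw (by rwa [comp_comp hu])
      exact ⟨c, hc.1, h1, h2⟩

end Cfsg.Agent.H76.OddT
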