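import Cfsg.Agent.H76.OddT.Kill

/-!
In every connected linked set each line has Sylow 2-subgroups of exponent two.
-/

set_option autoImplicit false
set_option linter.style.haveILetI false

namespace Cfsg.Agent.H76.OddT

open Subgroup MulAction

universe u

variable {G : Type u} [Group G] [Finite G] {S : Set G}

/-- The quotient by the 2-core. -/
abbrev CQ (S : Set G) : Type u := ↥(closure S) ⧸ Cfsg.pCore 2 ↥(closure S)

/-- The projection to it. -/
def cproj (S : Set G) : ↥(closure S) →* CQ S := QuotientGroup.mk' _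

/-- The image of the set. -/
def cimg (S : Set G) : Set (CQ S) := cproj S '' ((Subtype.val : ↥(closure S) → G) ⁻¹' S)

omit [Finite G] in
theorem core_of_cproj {z : ↥(closure S)} (h : cproj S z = 1) : (z : G) ∈ core S :=
  ⟨z, (QuotientGroup.eq_one_iff z).mp h, rfl⟩

omit [Finite G] in
theorem mem_cimg {z : CQ S} (h : z ∈ cimg S) : ∃ s, ∃ hs : s ∈ S, cproj S (el hs) = z := by
  obtain ⟨⟨s, hs'⟩, hs, rfl⟩ := h
  exact ⟨s, hs, rfl⟩

omit [Finite G] in
theorem closure_cimg : closure (cimg S) = ⊤ := by
  rw [cimg, ← MonoidHom.map_closure, closure_closure_coe_preimage, ← MonoidHom.range_eq_map,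
    MonoidHom.range_eq_top]
  exact QuotientGroup.mk'_surjective _

theorem Mem.cproj_commute (hS : Mem S) {a b : G} (ha : a ∈ S) (hb : b ∈ S) :
    Commute (cproj S (el ha)) (cproj S (el hb)) ↔ Commute a b := by
  refine ⟨fun h => ?_, fun h => (show Commute (el ha) (el hb) from Subtype.ext h.eq).map _⟩
  by_contra hab
  have hodd := hS.odd_of_not_commute ha hb hab
  set p := cproj S (el ha * el hb)
  have h2 : p * p = 1 := by
    simp only [p, map_mul]
    rw [mul_assoc, ← mul_assoc (cproj S (el hb)), ← h.eq, mul_assoc (cproj S (el ha)), ← map_mul _ (el hb),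
      show el hb * el hb = 1 from Subtype.ext (hS.sq b hb), map_one, mul_one, ← map_mul,
      show el ha * el ha = 1 from Subtype.ext (hS.sq a ha), map_one]
  have h1 : p = 1 := eq_one_of_odd_pow h2 hodd (by
    rw [← map_pow, show (el ha * el hb) ^ orderOf (a * b) = 1 from
      Subtype.ext (by simp [el_coe, pow_orderOf_eq_one]), map_one])
  have h3 : a * b = 1 := eq_one_of_core_of_odd (core_of_cproj h1) hodd
  exact hab (by rw [(eq_inv_of_mul_eq_one_left h3).trans (hS.inv_eq hb)])

theorem Mem.cimg_big (hS : Mem S) (hconn : Conn S) (hl : Linked S) {d x : G} (hd : d ∈ S) (hx : x ∈ S)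
    (hdx : ¬ Commute d x) : Big (cimg S) ∧ (cimg S).ncard ≤ S.ncard := by
  have hsq : ∀ {s : G} (hs : s ∈ S), cproj S (el hs) * cproj S (el hs) = 1 := fun {s} hs => by
    rw [← map_mul, show el hs * el hs = 1 from Subtype.ext (hS.sq s hs), map_one]
  have hne : ∀ {s : G} (hs : s ∈ S), cproj S (el hs) ≠ 1 := by
    intro s hs h
    obtain ⟨n, hn, hns⟩ : ∃ n ∈ S, ¬ Commute n s := by
      by_cases hsd : d = s
      · exact ⟨x, hx, fun e => hdx (hsd ▸ e.symm)⟩
      · exact hS.exists_not_commute hd hconn hs hsd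
    refine hns ((hS.cproj_commute hn hs).mp ?_)
    rw [h]; exact Commute.one_right _
  refine ⟨⟨⟨?_, ?_, ?_, ?_, ?_⟩, ?_, ?_, ?_⟩, ?_⟩
  · intro z hz; obtain ⟨s, hs, rfl⟩ := mem_cimg hz; exact hsq hs
  · intro z hz; obtain ⟨s, hs, rfl⟩ := mem_cimg hz; exact hne hs
  · intro z hz z' hz'
    obtain ⟨s, hs, rfl⟩ := mem_cimg hz
    obtain ⟨t, ht, rfl⟩ := mem_cimg hz'
    rw [← map_mul, ← map_mul]
    exact ⟨el hs * el ht * el hs, hS.conj s hs t ht, rfl⟩
  · intro z hz z' hz'
    obtain ⟨s, hs, rfl⟩ := mem_cimg hz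
    obtain ⟨t, ht, rfl⟩ := mem_cimg hz'
    rcases hS.odd s hs t ht with h | h
    · exact Or.inl ((hS.cproj_commute hs ht).mpr h)
    · refine Or.inr (h.of_dvd_nat ?_)
      rw [← map_mul, ← Subgroup.orderOf_mk (s * t) (mul_mem (subset_closure hs) (subset_closure ht))]
      exact orderOf_map_dvd (cproj S) _
  · intro z hz
    obtain ⟨s, hs, rfl⟩ := mem_cimg hz
    obtain ⟨e, he, -, hes, hm⟩ := hS.partner s hs
    refine ⟨cproj S (el he), ⟨el he, he, rfl⟩, fun h => hne hm ?_, (hS.cproj_commute he hs).mpr hes, ?_⟩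
    · rw [show el hm = el he * el hs from Subtype.ext rfl, map_mul, h, hsq hs]
    · rw [← map_mul]; exact ⟨el he * el hs, hm, rfl⟩
  · intro z hz z' hz'
    obtain ⟨s, hs, rfl⟩ := mem_cimg hz
    obtain ⟨t, ht, rfl⟩ := mem_cimg hz'
    have key : ∀ q, Reach S s q → ∀ hq : q ∈ S, Reach (cimg S) (cproj S (el hs)) (cproj S (el hq)) := by
      intro q hq
      induction hq with
      | refl => intro _; exact Relation.ReflTransGen.refl
      | @tail p q _ hpq ih =>
        intro _
        exact (ih hpq.1).tail ⟨⟨el hpq.1, hpq.1, rfl⟩, ⟨el hpq.2.1, hpq.2.1, rfl⟩,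
          fun e => hpq.2.2 ((hS.cproj_commute hpq.1 hpq.2.1).mp e)⟩
    exact key t (hconn s hs t ht) ht
  · intro z hz z' hz'
    obtain ⟨s, hs, rfl⟩ := mem_cimg hz
    obtain ⟨t, ht, rfl⟩ := mem_cimg hz'
    have key : ∀ q, Relation.ReflTransGen (Cfsg.CommAdj S) s q → ∀ hq : q ∈ S,
        Relation.ReflTransGen (Cfsg.CommAdj (cimg S)) (cproj S (el hs)) (cproj S (el hq)) := by
      intro q hq
      induction hq with
      | refl => intro _; exact Relation.ReflTransGen.refl
      | @tail p q _ hpq ih =>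
        intro hq
        by_cases e : cproj S (el hpq.1) = cproj S (el hq)
        · rw [← e]; exact ih hpq.1
        · exact (ih hpq.1).tail ⟨⟨el hpq.1, hpq.1, rfl⟩, ⟨el hq, hq, rfl⟩, e,
            ((hS.cproj_commute hpq.1 hq).mpr hpq.2.2.2).eq⟩
    exact key t (hl s hs t ht) ht
  · rw [eq_bot_iff, ← Cores.pCore_quotient_pCore (G := ↥(closure S)) (p := 2)]
    haveI : (core (cimg S)).Normal := ⟨fun q hq g => core_normalized (closure_cimg (S := S) ▸ mem_top g) hq⟩
    exact Cores.le_pCore core_isPGroup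
  · refine (Set.ncard_image_le (Set.toFinite _)).trans ?_
    exact Set.ncard_le_ncard_of_injOn Subtype.val (fun z hz => hz) Subtype.val_injective.injOn S.toFinite

variable (hGood : H3.RootInv.GoodHyp.{u}) (hBend : PostBender.BenderHyp.{u})
include hGood hBend

theorem Big.noBad (B : Big S) (ih : GoodBelow G S.ncard) : NoBad S := by
  intro d hd x hx hdx
  by_contra hbad
  obtain ⟨b, w⟩ := B.mem.exists_wit hGood hBend B.conn B.linked hd hx hdx
  obtain ⟨N, hsz, hfull⟩ := B.net hGood hBend ih w hbad
  exact N.false hGood hBend w hsz hfull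

/-- Every line of a connected linked set has Sylow 2-subgroups of exponent two. -/
theorem noBad (S : Set G) (hS : Mem S) (hconn : Conn S) (hl : Linked S) : NoBad S := by
  suffices H : ∀ (n : ℕ) (G : Type u) [Group G] [Finite G] (S : Set G),
      S.ncard = n → Mem S → Conn S → Linked S → NoBad S from H _ G S rfl hS hconn hl
  clear hl hconn hS S
  intro n
  induction n using Nat.strong_induction_on with
  | _ n ih =>
    intro G _ _ S hn hS hconn hl d hd x hx hdx
    obtain ⟨B, hle⟩ := hS.cimg_big hconn hl hd hx hdx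
    have hA : NoBad (cimg S) := B.noBad hGood hBend fun S' hS' hc' hl' hlt =>
      ih S'.ncard (by omega) (CQ S) S' rfl hS' hc' hl'
    set π := cproj S
    set d' := π (el hd)
    set x' := π (el hx)
    have hd' : d' ∈ cimg S := ⟨el hd, hd, rfl⟩
    have hx' : x' ∈ cimg S := ⟨el hx, hx, rfl⟩
    have hdx' : ¬ Commute d' x' := fun e => hdx ((hS.cproj_commute hd hx).mp e)
    have hAbel := hA d' hd' x' hx' hdx'
    have hCS : orb S d x ⊆ S := hS.orb_subset hx
    have hcls : ∀ {e : G} (he : e ∈ cls S d), π (el he.1) ∈ cls (cimg S) d' := by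
      intro e he
      refine ⟨⟨el he.1, he.1, rfl⟩, Set.ext fun y => ?_⟩
      constructor
      · rintro ⟨hy, hc⟩
        obtain ⟨s, hs, rfl⟩ := mem_cimg hy
        exact ⟨hy, (hS.cproj_commute hs hd).mpr ((commute_iff_of_cls he hs).mp ((hS.cproj_commute hs he.1).mp hc))⟩
      · rintro ⟨hy, hc⟩
        obtain ⟨s, hs, rfl⟩ := mem_cimg hy
        exact ⟨hy, (hS.cproj_commute hs he.1).mpr ((commute_iff_of_cls he hs).mpr ((hS.cproj_commute hs hd).mp hc))⟩
    have hle' : gen S d x ≤ closure S := gen_le hx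
    have hgen : ∀ g, ∀ hg : g ∈ gen S d x, π ⟨g, hle' hg⟩ ∈ gen (cimg S) d' x' := by
      have : (gen S d x).subgroupOf (closure S) ≤ (gen (cimg S) d' x').comap π := by
        have h1 : (gen S d x).subgroupOf (closure S) =
            closure ((Subtype.val : ↥(closure S) → G) ⁻¹' (cls S d ∪ {x})) := by
          apply Subgroup.map_injective (f := (closure S).subtype) Subtype.val_injective
          rw [Subgroup.map_subgroupOf_eq_of_le hle', MonoidHom.map_closure]
          show Subgroup.closure (cls S d ∪ {x}) = Subgroup.closure (Subtype.val '' _)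
          rw [Set.image_preimage_eq_of_subset]
          rintro z (hz | rfl)
          · exact ⟨el hz.1, rfl⟩
          · exact ⟨el hx, rfl⟩
        rw [h1, closure_le]
        rintro ⟨z, hz'⟩ (hz | hz)
        · exact subset_closure (Or.inl (hcls hz))
        · refine subset_closure (Or.inr ?_)
          cases hz
          exact rfl
      intro g hg
      exact this (show (⟨g, hle' hg⟩ : ↥(closure S)) ∈ (gen S d x).subgroupOf (closure S) from hg)
    have horb : ∀ {z : G} (hz : z ∈ orb S d x), π (el (hCS hz)) ∈ orb (cimg S) d' x' := by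
      rintro _ hz
      obtain ⟨g, hg, y, hy, rfl⟩ := id hz
      refine ⟨_, hgen g hg, _, hcls hy, ?_⟩
      rw [← map_inv, ← map_mul, ← map_mul]
      rfl
    let σ : ↥(closure (orb S d x)) →* ↥(closure (orb (cimg S) d' x')) :=
      (π.comp (incl hCS)).codRestrict _ fun k => by
        have hle : closure ((Subtype.val : ↥(closure (orb S d x)) → G) ⁻¹' orb S d x) ≤
            (closure (orb (cimg S) d' x')).comap (π.comp (incl hCS)) :=
          (closure_le _).mpr fun z hz => subset_closure (horb hz)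
        rw [closure_closure_coe_preimage] at hle
        exact hle (mem_top k)
    have L := hS.orb_line hGood hBend hconn hl hd hx hdx
    have L' := B.mem.orb_line hGood hBend B.conn B.linked hd' hx' hdx'
    refine Abel.of_hom (hS.orb_mem hd hx hdx) L ((proj (orb (cimg S) d' x')).comp σ) (fun e he => ?_)
      fun k hk => ?_
    · obtain ⟨y, hy, hey⟩ := hS.orb_exists_ne hGood hBend hconn hl hd hx hdx e he
      refine ⟨y, hy, fun hc => hey ((hS.cproj_commute (hCS he) (hCS hy)).mp ?_)⟩
      exact congrArg Subtype.val ((L'.commute_iff (σ (el he)) (horb he) (σ (el hy)) (horb hy)).mp hc).eq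
    · obtain ⟨m, hm⟩ := hk
      rw [← map_mul]
      show proj _ (σ (k * k)) = 1
      rw [map_mul]
      exact hAbel (σ k) ⟨m, by rw [← map_pow, hm, map_one]⟩

end Cfsg.Agent.H76.OddT
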