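import Cfsg.Agent.H76.OddT.Basic
import Cfsg.Agent.Cores.PCore
import Cfsg.Prelude.Def_CaseTheorems

/-!
A class of odd transpositions without products of commuting members, generating with the class of `d` and one
member `x` a group with trivial 2-core: the class of `d` is trivial.
-/

set_option autoImplicit false
set_option linter.style.haveILetI false

namespace Cfsg.Agent.H76.OddT

open Subgroup

universe u

variable {Y : Type u} [Group Y] [Finite Y] {C : Set Y}

/-- A class of odd transpositions of `Y`. -/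
structure Cls (C : Set Y) : Prop where
  sq : ∀ s ∈ C, s * s = 1
  ne_one : ∀ s ∈ C, s ≠ 1
  conj : ∀ s ∈ C, ∀ g : Y, g * s * g⁻¹ ∈ C
  odd : ∀ s ∈ C, ∀ t ∈ C, Commute s t ∨ Odd (orderOf (s * t))
  trans : ∀ s ∈ C, ∀ t ∈ C, ∃ g : Y, g * s * g⁻¹ = t

/-- `z` generates with the class of `d`. -/
structure Opp (C : Set Y) (d z : Y) : Prop where
  hd : d ∈ C
  hz : z ∈ C
  ncomm : ¬ Commute d z
  top : closure (cls C d ∪ {z}) = ⊤

omit [Finite Y] in
theorem Cls.inv_eq (hC : Cls C) {a : Y} (ha : a ∈ C) : a⁻¹ = a := inv_eq_of_mul_eq_one_left (hC.sq a ha)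

theorem no_central_involution (hO : Cfsg.pCore 2 Y = ⊥) {w : Y} (hw : w * w = 1) (hc : ∀ g : Y, Commute g w) :
    w = 1 := by
  haveI : (zpowers w).Normal := ⟨fun y hy g => by
    obtain ⟨m, rfl⟩ := mem_zpowers_iff.mp hy
    rw [((hc g).zpow_right m).eq, mul_inv_cancel_right]; exact zpow_mem (mem_zpowers w) m⟩
  have hp : IsPGroup 2 (zpowers w) := by
    rintro ⟨y, hy⟩
    obtain ⟨m, rfl⟩ := mem_zpowers_iff.mp hy
    refine ⟨1, Subtype.ext ?_⟩
    show (w ^ m) ^ 2 ^ 1 = 1
    rw [pow_one, ← zpow_natCast, ← zpow_mul, mul_comm, zpow_mul, zpow_natCast, pow_two, hw, one_zpow]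
  rw [← mem_bot, ← hO]
  exact Cores.le_pCore hp (mem_zpowers w)

theorem Cls.cent_image (hC : Cls C) (g a : Y) :
    (fun t => g * t * g⁻¹) '' Cent C a = Cent C (g * a * g⁻¹) := by
  ext y
  constructor
  · rintro ⟨t, ⟨ht, hc⟩, rfl⟩
    exact ⟨hC.conj t ht g, (Commute.conj_iff g).mpr hc⟩
  · rintro ⟨hy, hc⟩
    refine ⟨g⁻¹ * y * g, ⟨by simpa using hC.conj y hy g⁻¹, ?_⟩, by simp [mul_assoc]⟩
    have := (Commute.conj_iff g⁻¹).mpr hc
    simpa [mul_assoc] using this

theorem Cls.cls_image (hC : Cls C) (g a : Y) :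
    (fun t => g * t * g⁻¹) '' cls C a = cls C (g * a * g⁻¹) := by
  ext y
  constructor
  · rintro ⟨t, ⟨ht, hc⟩, rfl⟩
    exact ⟨hC.conj t ht g, by rw [← hC.cent_image, ← hC.cent_image, hc]⟩
  · rintro ⟨hy, hc⟩
    refine ⟨g⁻¹ * y * g, ⟨by simpa using hC.conj y hy g⁻¹, ?_⟩, by simp [mul_assoc]⟩
    have h1 := congrArg (fun X => (fun t => g⁻¹ * t * g⁻¹⁻¹) '' X) hc
    simp only [hC.cent_image] at h1
    simpa [mul_assoc] using h1

theorem Cls.ncard_cent (hC : Cls C) {a b : Y} (ha : a ∈ C) (hb : b ∈ C) :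
    (Cent C a).ncard = (Cent C b).ncard := by
  obtain ⟨g, rfl⟩ := hC.trans a ha b hb
  rw [← hC.cent_image]
  exact (Set.ncard_image_of_injective _ fun u v h => by simpa using h).symm

theorem Opp.conj (hC : Cls C) {d z : Y} (h : Opp C d z) (g : Y) : Opp C (g * d * g⁻¹) (g * z * g⁻¹) := by
  refine ⟨hC.conj d h.hd g, hC.conj z h.hz g, fun e => h.ncomm ((Commute.conj_iff g).mp e), ?_⟩
  have h1 := congrArg (Subgroup.map (MulAut.conj g).toMonoidHom) h.top
  rw [MonoidHom.map_closure, map_top_of_surjective _ (MulAut.conj g).surjective, Set.image_union,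
    Set.image_singleton] at h1
  rw [← hC.cls_image]
  exact h1

/-- In an opposite pair every element commuting with the class and `z` is central. -/
theorem Opp.central {d z w : Y} (h : Opp C d z) (hd : ∀ e ∈ cls C d, Commute w e) (hz : Commute w z) (g : Y) :
    Commute g w := by
  have hle : closure (cls C d ∪ {z}) ≤ centralizer {w} := (closure_le _).mpr (by
    rintro y (hy | rfl)
    · exact mem_centralizer_singleton_iff.mpr (hd y hy).eq.symm
    · exact mem_centralizer_singleton_iff.mpr hz.eq.symm)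
  rw [h.top] at hle
  exact mem_centralizer_singleton_iff.mp (hle (mem_top g))

variable (hC : Cls C) (hO : Cfsg.pCore 2 Y = ⊥) (hno : ∀ a ∈ C, ∀ b ∈ C, Commute a b → a * b ∉ C)
include hC hno

omit [Finite Y] in
/-- A member commuting with the product of two commuting members commutes with both. -/
theorem Cls.commute_of_product {a b v : Y} (ha : a ∈ C) (hb : b ∈ C) (hab : Commute a b) (hne : a ≠ b) (hv : v ∈ C)
    (h : Commute v (a * b)) : Commute v a := by
  by_contra hva
  set c := a * b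
  have hc2 : c * c = 1 := by
    simp only [c]; rw [mul_assoc, ← mul_assoc b, ← hab.eq, mul_assoc a b b, hC.sq b hb, mul_one, hC.sq a ha]
  have hc1 : c ≠ 1 := fun e => hne ((eq_inv_of_mul_eq_one_left e).trans (hC.inv_eq hb))
  have hca : Commute c a := (Commute.refl a).mul_left hab.symm
  have hac : a * c = b := by simp only [c]; rw [← mul_assoc, hC.sq a ha, one_mul]
  have hvb : ¬ Commute v b := fun e => hva (by
    have h2 := h.mul_right e
    rwa [show c * b = a by simp only [c]; rw [mul_assoc, hC.sq b hb, mul_one]] at h2)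
  have hodd := (hC.odd v hv a ha).resolve_left hva
  have hodd' := (hC.odd v hv b hb).resolve_left hvb
  rw [← hac, ← mul_assoc] at hodd'
  have hcp : Commute (v * a) c := h.mul_left hca.symm
  refine hc1 (eq_one_of_odd_pow hc2 (hodd'.mul hodd) ?_)
  have h1 : (v * a * c) ^ (orderOf (v * a * c) * orderOf (v * a)) = 1 := by
    rw [pow_mul, pow_orderOf_eq_one, one_pow]
  rwa [hcp.mul_pow, mul_comm, pow_mul (v * a), pow_orderOf_eq_one, one_pow, one_mul, mul_comm] at h1

include hO

/-- Conjugating an opposite member by `d` and by a neighbour of `d` gives commuting members. -/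
theorem Opp.key {d z : Y} (h : Opp C d z) {c : Y} (hc : c ∈ Cent C d) :
    Commute (d * z * d) (c * z * c) := by
  rcases eq_or_ne c d with rfl | hne
  · exact Commute.refl _
  obtain ⟨hcC, hcd⟩ := hc
  have hdc : Commute d c := hcd.symm
  set u := d * c with hu
  have hu2 : u * u = 1 := by
    simp only [u]; rw [mul_assoc, ← mul_assoc c, hcd.eq, mul_assoc d c c, hC.sq c hcC, mul_one, hC.sq d h.hd]
  have hui : u⁻¹ = u := inv_eq_of_mul_eq_one_left hu2
  suffices hzz : Commute z (u * z * u) by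
    have h1 := (Commute.conj_iff d).mpr hzz
    rw [hC.inv_eq h.hd, show d * (u * z * u) * d = c * z * c by
      rw [show u * z * u = d * c * z * (d * c) from rfl, hdc.eq]
      calc d * (c * d * z * (c * d)) * d = (d * c) * (d * z) * c * (d * d) := by group
        _ = (c * d) * (d * z) * c := by rw [hdc.eq, hC.sq d h.hd, mul_one]
        _ = c * (d * d) * z * c := by group
        _ = c * z * c := by rw [hC.sq d h.hd, mul_one]] at h1
    exact h1
  by_contra hcomm
  have hy' : u * z * u ∈ C := by have := hC.conj z h.hz u; rwa [hui] at this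
  set s := z * u with hs
  have hsq : z * (u * z * u) = s * s := by simp only [s]; group
  have hodd := (hC.odd z h.hz _ hy').resolve_left hcomm
  rw [hsq] at hodd
  obtain ⟨k, hk⟩ := hodd
  set m := orderOf (s * s) with hm
  have hzs : z * s * z⁻¹ = s⁻¹ := by
    simp only [s]; rw [mul_inv_rev, hui, hC.inv_eq h.hz, ← mul_assoc z z, hC.sq z h.hz, one_mul]
  have hsu : s * u = z := by simp only [s]; rw [mul_assoc, hu2, mul_one]
  have hpow : ∀ i : ℕ, s ^ i * z * (s ^ i)⁻¹ = s ^ (i + i) * z := by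
    intro i
    have h3 : z * (s ^ i)⁻¹ * z⁻¹ = s ^ i := by rw [← inv_pow, ← conj_pow, show z * s⁻¹ * z⁻¹ = s by
      rw [show z * s⁻¹ * z⁻¹ = (z * s * z⁻¹)⁻¹ by group, hzs, inv_inv]]
    calc s ^ i * z * (s ^ i)⁻¹ = s ^ i * (z * (s ^ i)⁻¹ * z⁻¹) * z := by group
      _ = s ^ (i + i) * z := by rw [h3, pow_add]
  set w := s ^ m with hw
  have hw2 : w * w = 1 := by rw [← pow_add, ← two_mul, pow_mul, pow_two, hm, pow_orderOf_eq_one]
  have hwz : Commute w z := by
    have h1 : z * w * z⁻¹ = w := by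
      rw [hw, ← conj_pow, hzs, inv_pow]; exact inv_eq_of_mul_eq_one_left hw2
    show w * z = z * w
    calc w * z = z * w * z⁻¹ * z := by rw [h1]
      _ = z * w := by group
  by_cases hw1 : w = 1
  · -- then `z` and `u` are conjugate
    apply hno d h.hd c hcC hdc
    have h1 := hC.conj z h.hz (s ^ k)
    have h2 : s ^ (k + k) * s = 1 := by rw [← pow_succ, ← two_mul, ← hk]; exact hw1
    rw [hpow, eq_inv_of_mul_eq_one_left h2] at h1
    rw [← hu]
    have h3 : s⁻¹ * z = u := by rw [← hsu, inv_mul_cancel_left]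
    rwa [h3] at h1
  · set v := w * u with hv
    have hvC : v ∈ C := by
      have h1 := hC.conj z h.hz (s ^ k)
      rw [hpow] at h1
      have h2 : v = s ^ (k + k) * z := by
        calc v = s ^ m * u := rfl
          _ = s ^ (k + k) * s * u := by rw [← pow_succ, ← two_mul, ← hk]
          _ = s ^ (k + k) * z := by rw [mul_assoc, hsu]
      rwa [h2]
    have hwu : Commute w u := by
      have h1 : Commute w s := (Commute.refl s).pow_left m
      have h2 := hwz.mul_right h1
      rwa [show z * s = u by simp only [s]; rw [← mul_assoc, hC.sq z h.hz, one_mul]] at h2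
    have hvu : Commute v u := hwu.mul_left (Commute.refl u)
    have hvd : Commute v d := hC.commute_of_product hno h.hd hcC hdc hne.symm hvC hvu
    have hwE : ∀ e ∈ cls C d, Commute w e := by
      intro e he
      have hwe : w = v * u := by rw [hv, mul_assoc, hu2, mul_one]
      rw [hwe]
      exact (commute_of_cls he hvC hvd).mul_left
        ((commute_of_cls he h.hd (Commute.refl d)).mul_left (commute_of_cls he hcC hcd))
    exact hw1 (no_central_involution hO hw2 (h.central hwE hwz))

/-- Conjugation of an opposite member is injective on the neighbours of `d`. -/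
theorem Opp.inj {d z : Y} (h : Opp C d z) {c t : Y} (hc : c ∈ Cent C d) (ht : t ∈ Cent C d)
    (heq : c * z * c = t * z * t) : c = t := by
  set g := t * c with hg
  have hgz : Commute g z := by
    show t * c * z = z * (t * c)
    calc t * c * z = t * (c * z * c) * c := by
          rw [show t * (c * z * c) * c = t * c * z * (c * c) by group, hC.sq c hc.1, mul_one]
      _ = t * (t * z * t) * c := by rw [heq]
      _ = t * t * z * (t * c) := by group
      _ = z * (t * c) := by rw [hC.sq t ht.1, one_mul]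
  have hgE : ∀ e ∈ cls C d, Commute g e := fun e he =>
    (commute_of_cls he ht.1 ht.2).mul_left (commute_of_cls he hc.1 hc.2)
  have hcen := h.central hgE hgz
  have hg2 : g * g = 1 := by
    have h1 : c * (t * c) = t * c * c := (hcen c).eq
    rw [mul_assoc t c c, hC.sq c hc.1, mul_one] at h1
    calc g * g = t * (c * (t * c)) := by simp only [g]; group
      _ = t * t := by rw [h1]
      _ = 1 := hC.sq t ht.1
  have := no_central_involution hO hg2 hcen
  rw [eq_inv_of_mul_eq_one_right this, hC.inv_eq ht.1]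

/-- Members of the class of `d` carry an opposite member to one class. -/
theorem Opp.same {d z : Y} (h : Opp C d z) {e : Y} (he : e ∈ cls C d) :
    e * z * e ∈ cls C (d * z * d) := by
  have hmemC : ∀ {c : Y}, c ∈ C → c * z * c ∈ C := fun {c} hc => by
    have := hC.conj z h.hz c; rwa [hC.inv_eq hc] at this
  have key : ∀ {a : Y}, Opp C a z → cls C a = cls C d → Cent C (a * z * a) = (fun c => c * z * c) '' Cent C d := by
    intro a ha hcls
    have hcent : Cent C a = Cent C d := (hcls ▸ self_mem_cls ha.hd : a ∈ cls C d).2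
    refine (Set.eq_of_subset_of_ncard_le ?_ ?_ (Set.toFinite _)).symm
    · rintro _ ⟨c, hc, rfl⟩
      exact ⟨hmemC hc.1, (ha.key hC hO hno (hcent.symm ▸ hc)).symm⟩
    · rw [Set.InjOn.ncard_image fun c hc t ht e => h.inj hC hO hno hc ht e,
        hC.ncard_cent (hmemC ha.hd) h.hd]
  have hclseq : cls C e = cls C d :=
    Set.ext fun _ => ⟨fun hy => ⟨hy.1, hy.2.trans he.2⟩, fun hy => ⟨hy.1, hy.2.trans he.2.symm⟩⟩
  have hee : Opp C e z := ⟨he.1, h.hz, fun hc => h.ncomm
    ((commute_iff_of_cls he h.hz).mp hc.symm).symm, by rw [hclseq]; exact h.top⟩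
  exact ⟨hmemC he.1, (key hee hclseq).trans (key h rfl).symm⟩

/-- The class is trivial. -/
theorem Opp.cls_trivial {d x : Y} (h : Opp C d x) {e : Y} (he : e ∈ cls C d) : e = d := by
  by_contra hne
  have hd := h.hd
  have hed : Commute e d := (commute_of_cls he hd (Commute.refl d)).symm
  obtain ⟨k, hk⟩ := (hC.odd d hd x h.hz).resolve_left h.ncomm
  set r := d * x with hr
  have hdr : d * r * d⁻¹ = r⁻¹ := by
    rw [hr, mul_inv_rev, hC.inv_eq hd, hC.inv_eq h.hz, ← mul_assoc d d, hC.sq d hd, one_mul]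
  set g := r ^ k with hg
  have hdg : d * g * d⁻¹ = g⁻¹ := by rw [hg, ← conj_pow, hdr, inv_pow]
  have hpow : ∀ i : ℕ, r ^ i * d * (r ^ i)⁻¹ = r ^ (i + i) * d := by
    intro i
    have h3 : d * (r ^ i)⁻¹ * d⁻¹ = r ^ i := by rw [← inv_pow, ← conj_pow, show d * r⁻¹ * d⁻¹ = r by
      rw [show d * r⁻¹ * d⁻¹ = (d * r * d⁻¹)⁻¹ by group, hdr, inv_inv]]
    calc r ^ i * d * (r ^ i)⁻¹ = r ^ i * (d * (r ^ i)⁻¹ * d⁻¹) * d := by group
      _ = r ^ (i + i) * d := by rw [h3, pow_add]
  have hgd : g * d * g⁻¹ = x := by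
    have h2 : r ^ (k + k) * r = 1 := by rw [← pow_succ, ← two_mul, ← hk, pow_orderOf_eq_one]
    rw [hg, hpow, eq_inv_of_mul_eq_one_left h2, hr, mul_inv_rev, mul_assoc, inv_mul_cancel, mul_one, hC.inv_eq h.hz]
  let y : ℕ → Y := fun m => g ^ m * d * (g ^ m)⁻¹
  have hyC : ∀ m, y m ∈ C := fun m => hC.conj d hd _
  have hy0 : y 0 = d := by simp [y]
  have hy1 : y 1 = x := by simp [y, hgd]
  have hgx : g * x * g⁻¹ = x * d * x := by
    have hgr : g * r * g⁻¹ = r := by
      rw [hg, ((Commute.refl r).pow_left k).eq, mul_inv_cancel_right]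
    calc g * x * g⁻¹ = g * (d * r) * g⁻¹ := by rw [hr, ← mul_assoc d d, hC.sq d hd, one_mul]
      _ = g * d * g⁻¹ * (g * r * g⁻¹) := by group
      _ = x * d * x := by rw [hgd, hgr, hr, ← mul_assoc]
  have hshift : ∀ m, g ^ m * x * (g ^ m)⁻¹ = y (m + 1) := fun m => by
    rw [← hgd]; simp only [y, pow_succ]; group
  have hyrec : ∀ m, y (m + 2) = y (m + 1) * y m * y (m + 1) := fun m => by
    rw [show y (m + 2) = g ^ m * (g * x * g⁻¹) * (g ^ m)⁻¹ by
      rw [← hgd]; simp only [y, pow_succ]; group, hgx, ← hshift m]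
    simp only [y]; group
  have hxd : Opp C x d := by
    have h1 : Opp C d (d * x * d) := by
      refine ⟨hd, ?_, fun hc => h.ncomm ?_, ?_⟩
      · have := hC.conj x h.hz d; rwa [hC.inv_eq hd] at this
      · have h2 : d * (d * x * d) = d * x * d * d := hc
        rw [← mul_assoc, ← mul_assoc, hC.sq d hd, one_mul, mul_assoc (d * x) d d, hC.sq d hd, mul_one] at h2
        exact h2.symm
      · rw [eq_top_iff, ← h.top, closure_le]
        rintro a (ha | rfl)
        · exact subset_closure (Or.inl ha)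
        · have hdm : d ∈ closure (cls C d ∪ {d * a * d}) := subset_closure (Or.inl (self_mem_cls hd))
          have h2 := mul_mem (mul_mem hdm (subset_closure (Or.inr rfl : d * a * d ∈ cls C d ∪ {d * a * d}))) hdm
          rwa [show d * (d * a * d) * d = d * d * a * (d * d) by group, hC.sq d hd, one_mul, mul_one] at h2
    have h3 := h1.conj hC g
    rwa [hgd, show g * (d * x * d) * g⁻¹ = g * d * g⁻¹ * (g * x * g⁻¹) * (g * d * g⁻¹) by group, hgd, hgx,
      show x * (x * d * x) * x = x * x * d * (x * x) by group, hC.sq x h.hz, one_mul, mul_one] at h3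
  have hopp : ∀ m, Opp C (y (m + 1)) (y m) := fun m => hshift m ▸ hxd.conj hC (g ^ m)
  have hfixy : ∀ {f : Y}, f ∈ cls C d → ∀ m, d * f * y m * (d * f)⁻¹ ∈ cls C (y m) := by
    intro f hf
    have hfd : Commute f d := (commute_of_cls hf hd (Commute.refl d)).symm
    have h0 : d * f * y 0 * (d * f)⁻¹ ∈ cls C (y 0) := by
      rw [hy0, ((Commute.refl d).mul_left hfd).eq, mul_inv_cancel_right]
      exact self_mem_cls hd
    have h1 : d * f * y 1 * (d * f)⁻¹ ∈ cls C (y 1) := by
      have h2 : d * (f * x * f) * d⁻¹ ∈ cls C (d * (d * x * d) * d⁻¹) :=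
        (hC.cls_image d _).subset ⟨_, h.same hC hO hno hf, rfl⟩
      rw [hy1, mul_inv_rev, hC.inv_eq hf.1]
      rwa [show d * (d * x * d) * d⁻¹ = d * d * x by group, hC.sq d hd, one_mul,
        show d * (f * x * f) * d⁻¹ = d * f * x * (f * d⁻¹) by group] at h2
    suffices ∀ m, d * f * y m * (d * f)⁻¹ ∈ cls C (y m) ∧
        d * f * y (m + 1) * (d * f)⁻¹ ∈ cls C (y (m + 1)) from fun m => (this m).1
    intro m
    induction m with
    | zero => exact ⟨h0, h1⟩
    | succ m ih =>
      obtain ⟨hp, hx'⟩ := ih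
      refine ⟨hx', ?_⟩
      have h3 : ∀ {a : Y}, a ∈ C → ∀ {b : Y}, b ∈ cls C (y m) → a * b * a ∈ cls C (a * y m * a) := by
        intro a ha b hb
        have := (hC.cls_image a (y m)).subset ⟨b, hb, rfl⟩
        dsimp only at this
        rwa [hC.inv_eq ha] at this
      have h4 := h3 hx'.1 hp
      have h5 := (hopp m).same hC hO hno hx'
      rw [hyrec]
      rw [show d * f * (y (m + 1) * y m * y (m + 1)) * (d * f)⁻¹ = d * f * y (m + 1) * (d * f)⁻¹ *
        (d * f * y m * (d * f)⁻¹) * (d * f * y (m + 1) * (d * f)⁻¹) by group]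
      exact ⟨h4.1, h4.2.trans h5.2⟩
  have himg : ∀ (w : Y) {a b : Y}, a ∈ cls C b → w * a * w⁻¹ ∈ cls C (w * b * w⁻¹) :=
    fun w a b ha => (hC.cls_image w b).subset ⟨a, ha, rfl⟩
  have hyinv : ∀ m, ∃ m', d * y m * d⁻¹ = y m' := by
    intro m
    refine ⟨(orderOf g - 1) * m, ?_⟩
    have hgi : g ^ (orderOf g - 1) = g⁻¹ := eq_inv_of_mul_eq_one_left (by
      rw [← pow_succ, Nat.sub_add_cancel (orderOf_pos g), pow_orderOf_eq_one])
    simp only [y]
    rw [pow_mul, hgi, ← hdg, conj_pow]
    group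
  have horb : ∀ w : Y, ∀ m, ∃ m', w * y m * w⁻¹ ∈ cls C (y m') := by
    intro w
    have hgen : ∀ s ∈ cls C d ∪ {x}, ∀ m, ∃ m', s * y m * s⁻¹ ∈ cls C (y m') := by
      rintro s (hs | rfl) m
      · obtain ⟨m', hm'⟩ := hyinv m
        refine ⟨m', ?_⟩
        have h1 := himg d (hfixy hs m)
        rwa [hm', show d * (d * s * y m * (d * s)⁻¹) * d⁻¹ = (d * d) * s * y m * s⁻¹ * (d * d)⁻¹ by group,
          hC.sq d hd, one_mul, inv_one, mul_one] at h1
      · obtain ⟨m', hm'⟩ := hyinv (m + (orderOf g - 1))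
        refine ⟨m' + 1, ?_⟩
        have hgi : g ^ (orderOf g - 1) = g⁻¹ := eq_inv_of_mul_eq_one_left (by
          rw [← pow_succ, Nat.sub_add_cancel (orderOf_pos g), pow_orderOf_eq_one])
        have h1 : y (m + (orderOf g - 1)) = g⁻¹ * y m * g := by
          simp only [y]; rw [add_comm, pow_add, hgi]; group
        have h2 : s * y m * s⁻¹ = y (m' + 1) := by
          calc s * y m * s⁻¹ = g * (d * (g⁻¹ * y m * g) * d⁻¹) * g⁻¹ := by rw [← hgd]; group
            _ = y (m' + 1) := by rw [← h1, hm']; simp only [y, pow_succ']; group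
        rw [h2]
        exact self_mem_cls (hyC _)
    have hw : w ∈ closure (cls C d ∪ {x}) := h.top ▸ mem_top w
    induction hw using closure_induction_left with
    | one => intro m; exact ⟨m, by simpa using self_mem_cls (hyC m)⟩
    | mul_left s hs v _ ih =>
      intro m
      obtain ⟨m₁, h1⟩ := ih m
      obtain ⟨m₂, h2⟩ := hgen s hs m₁
      have h3 := himg s h1
      refine ⟨m₂, ?_⟩
      rw [show s * v * y m * (s * v)⁻¹ = s * (v * y m * v⁻¹) * s⁻¹ by group]
      exact ⟨h3.1, h3.2.trans h2.2⟩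
    | inv_mul_cancel s hs v _ ih =>
      intro m
      have hsC : s ∈ C := by
        rcases hs with hs | rfl
        · exact hs.1
        · exact h.hz
      rw [hC.inv_eq hsC]
      obtain ⟨m₁, h1⟩ := ih m
      obtain ⟨m₂, h2⟩ := hgen s hs m₁
      have h3 := himg s h1
      refine ⟨m₂, ?_⟩
      rw [show s * v * y m * (s * v)⁻¹ = s * (v * y m * v⁻¹) * s⁻¹ by group]
      exact ⟨h3.1, h3.2.trans h2.2⟩
  let N : Subgroup Y :=
    { carrier := {w | ∀ c ∈ C, w * c * w⁻¹ ∈ cls C c}
      one_mem' := fun c hc => by simpa using self_mem_cls hc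
      mul_mem' := fun {v w} hv hw c hc => by
        have h1 := himg v (hw c hc)
        rw [show v * w * c * (v * w)⁻¹ = v * (w * c * w⁻¹) * v⁻¹ by group]
        exact ⟨h1.1, h1.2.trans (hv c hc).2⟩
      inv_mem' := fun {w} hw c hc => by
        have h1 := himg w⁻¹ (hw c hc)
        rw [show w⁻¹ * (w * c * w⁻¹) * w⁻¹⁻¹ = c by group] at h1
        exact ⟨hC.conj c hc _, h1.2.symm⟩ }
  have hu : d * e ∈ N := by
    intro c hc
    obtain ⟨w, rfl⟩ := hC.trans d hd c hc
    obtain ⟨m, hm⟩ := hy0 ▸ horb w 0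
    have h1 := himg (d * e) hm
    exact ⟨h1.1, h1.2.trans ((hfixy he m).2.trans hm.2.symm)⟩
  haveI hNn : N.Normal := ⟨fun w hw v c hc => by
    have h1 := himg v (hw (v⁻¹ * c * v) (by simpa using hC.conj c hc v⁻¹))
    rwa [show v * (w * (v⁻¹ * c * v) * w⁻¹) * v⁻¹ = v * w * v⁻¹ * c * (v * w * v⁻¹)⁻¹ by group,
      show v * (v⁻¹ * c * v) * v⁻¹ = c by group] at h1⟩
  have hcomm : ∀ w ∈ N, ∀ c ∈ C, Commute w c := by
    intro w hw c hc
    set A : Subgroup Y := closure (cls C c) with hA
    have hcl : ∀ a ∈ cls C c, ∀ b ∈ cls C c, Commute a b := fun a ha b hb =>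
      commute_of_cls hb ha.1 (commute_of_cls ha hc (Commute.refl c)).symm
    have hAA : ∀ a ∈ A, ∀ b ∈ A, Commute a b := by
      intro a ha
      have h1 : ∀ b ∈ cls C c, Commute a b := fun b hb => by
        have : A ≤ centralizer {b} := (closure_le _).mpr fun a' ha' =>
          mem_centralizer_singleton_iff.mpr (hcl a' ha' b hb).eq
        exact mem_centralizer_singleton_iff.mp (this ha)
      intro b hb
      have : A ≤ centralizer {a} := (closure_le _).mpr fun b' hb' =>
        mem_centralizer_singleton_iff.mpr (h1 b' hb').eq.symm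
      exact (mem_centralizer_singleton_iff.mp (this hb)).symm
    have hA2 : ∀ a ∈ A, a * a = 1 := by
      intro a ha
      induction ha using closure_induction with
      | mem b hb => exact hC.sq b hb.1
      | one => exact one_mul 1
      | mul a b ha hb iha ihb =>
        rw [mul_assoc, ← mul_assoc b, (hAA b hb a ha).eq, mul_assoc a b b, ihb, mul_one, iha]
      | inv a _ iha => rw [← mul_inv_rev, iha, inv_one]
    haveI : (A.subgroupOf N).Normal := ⟨fun a ha v => by
      simp only [mem_subgroupOf, coe_mul, coe_inv] at ha ⊢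
      have hle : A ≤ A.comap (MulAut.conj (v : Y)).toMonoidHom := (closure_le _).mpr fun b hb => by
        have h1 := himg (v : Y) hb
        exact subset_closure ⟨h1.1, h1.2.trans (v.2 c hc).2⟩
      exact hle ha⟩
    have hp : IsPGroup 2 (A.subgroupOf N) := fun a => ⟨1, by
      apply Subtype.ext; apply Subtype.ext
      simpa [pow_two] using hA2 _ (mem_subgroupOf.mp a.2)⟩
    have hcmem : w * (c * w⁻¹ * c⁻¹) ∈ N := mul_mem hw (hNn.conj_mem _ (inv_mem hw) c)
    have hAmem : w * (c * w⁻¹ * c⁻¹) ∈ A := by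
      rw [show w * (c * w⁻¹ * c⁻¹) = w * c * w⁻¹ * c⁻¹ by group]
      exact mul_mem (subset_closure (hw c hc)) (inv_mem (subset_closure (self_mem_cls hc)))
    have h1 : w * (c * w⁻¹ * c⁻¹) ∈ Cfsg.pCore 2 Y :=
      Cores.map_pCore_le_of_normal N ⟨⟨_, hcmem⟩, Cores.le_pCore hp (mem_subgroupOf.mpr hAmem), rfl⟩
    rw [hO, mem_bot] at h1
    show w * c = c * w
    calc w * c = w * (c * w⁻¹ * c⁻¹) * (c * w) := by group
      _ = c * w := by rw [h1, one_mul]
  have hu2 : d * e * (d * e) = 1 := by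
    rw [mul_assoc, ← mul_assoc e, hed.eq, mul_assoc d e e, hC.sq e he.1, mul_one, hC.sq d hd]
  have := no_central_involution hO hu2
    (h.central (fun f hf => hcomm _ hu f hf.1) (hcomm _ hu x h.hz))
  exact hne ((eq_inv_of_mul_eq_one_right this).trans (hC.inv_eq hd))

end Cfsg.Agent.H76.OddT
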