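import Cfsg.Agent.H76.OddT.Good

/-!
A set in which the neighbours of each member form one flat component, as a geometry: common neighbours, and the
displacement along an edge.
-/

set_option autoImplicit false
set_option linter.style.haveILetI false

namespace Cfsg.Agent.H76.OddT

open Subgroup MulAction

universe u

variable {G : Type u} [Group G] [Finite G] {S : Set G}

omit [Finite G] in
theorem mem_cls_trans {a b c : G} (h : a ∈ cls S b) (h' : b ∈ cls S c) : a ∈ cls S c := ⟨h.1, h.2.trans h'.2⟩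

omit [Finite G] in
theorem mem_cls_symm {a b : G} (hb : b ∈ S) (h : a ∈ cls S b) : b ∈ cls S a := ⟨hb, h.2.symm⟩

omit [Finite G] in
theorem cls_eq_of_mem {a b : G} (h : a ∈ cls S b) : cls S a = cls S b :=
  Set.ext fun _ => ⟨fun he => ⟨he.1, he.2.trans h.2⟩, fun he => ⟨he.1, he.2.trans h.2.symm⟩⟩

omit [Finite G] in
theorem rest_of_cls {a b : G} (h : a ∈ cls S b) : rest S a = rest S b := by
  rw [rest, rest, cls_eq_of_mem h, h.2]

namespace Net

variable (hGood : H3.RootInv.GoodHyp.{u}) (hBend : PostBender.BenderHyp.{u}) (N : Net S)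
include N

theorem sub {v y : G} (hy : y ∈ rest S v) : y ∈ S := hy.1.1

theorem mem_rest {v : G} (hv : v ∈ S) {y n : G} (hy : y ∈ S) (hyv : Commute y v) (hn : n ∈ S) (hnv : Commute n v)
    (h : ¬ Commute y n) : y ∈ rest S v := rest_of_not_commute ⟨hy, hyv⟩ ⟨hn, hnv⟩ h

theorem rest_symm {v y : G} (hv : v ∈ S) (hy : y ∈ rest S v) : v ∈ rest S y :=
  ⟨⟨hv, hy.1.2.symm⟩, fun h => hy.2 (mem_cls_symm hy.1.1 h)⟩

include hGood hBend

theorem trans_rest {v : G} (hv : v ∈ S) {p q r : G} (hp : p ∈ rest S v) (hq : q ∈ rest S v) (hr : r ∈ rest S v)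
    (hpq : Commute p q) (hqr : Commute q r) : Commute p r :=
  (N.flat v hv p hp).mem.commute_trans hGood hBend (N.flat v hv p hp).not_linked hp hq hr hpq hqr

theorem line {v : G} (hv : v ∈ S) {p : G} (hp : p ∈ rest S v) :
    IsLine (proj (rest S v)) ((Subtype.val : ↥(closure (rest S v)) → G) ⁻¹' rest S v) :=
  (N.flat v hv p hp).mem.isLine hGood hBend (N.flat v hv p hp).not_linked

/-- Commuting common neighbours of a noncommuting pair have the same class. -/
theorem u1 {d z c c' : G} (hd : d ∈ S) (hz : z ∈ S) (hdz : ¬ Commute d z) (hc : c ∈ S) (hc' : c' ∈ S)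
    (hcd : Commute c d) (hcz : Commute c z) (hc'd : Commute c' d) (hc'z : Commute c' z) (hcc : Commute c c') :
    c' ∈ cls S c := by
  by_contra h
  exact hdz (N.trans_rest hGood hBend hc (N.mem_rest hc hd hcd.symm hz hcz.symm hdz) ⟨⟨hc', hcc.symm⟩, h⟩
    (N.mem_rest hc hz hcz.symm hd hcd.symm fun e => hdz e.symm) hc'd.symm hc'z)

/-- A common neighbour next to a prescribed one. -/
theorem u2 {d z : G} (hd : d ∈ S) (hz : z ∈ S) (hdz : ¬ Commute d z) {y : G} (hy : y ∈ rest S d) :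
    ∃ c ∈ rest S d, Commute c z ∧ Commute c y := by
  obtain ⟨b₁, b₂, w₁, w₂, h12⟩ := N.big.mem.exists_wit_pair hGood hBend N.big.conn N.big.linked hd hz hdz
  obtain ⟨y', hy', hc⟩ := N.cov d hd b₁ (N.mem_rest hd w₁.hb w₁.hba w₂.hb w₂.hba h12) b₂
    (N.mem_rest hd w₂.hb w₂.hba w₁.hb w₁.hba fun e => h12 e.symm) h12 y hy
  have hyS : y' ∈ S := N.big.mem.orb_subset w₂.hb hy'
  have hyd : Commute y' d := N.big.mem.orb_commute w₂.hb hd w₁.hba.symm w₂.hba.symm hy'
  have hyz : Commute y' z := N.big.mem.orb_commute w₂.hb hz w₁.hbx.symm w₂.hbx.symm hy'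
  exact ⟨y', ⟨⟨hyS, hyd⟩, fun h => hdz ((commute_iff_of_cls h hz).mp hyz.symm).symm⟩, hyz, hc⟩

/-- Two noncommuting common neighbours determine all. -/
theorem u3 {d z z' b₁ b₂ : G} (w₁ : Wit S d z b₁) (w₂ : Wit S d z b₂) (h12 : ¬ Commute b₁ b₂)
    (hz' : z' ∈ S) (h₁ : Commute b₁ z') (h₂ : Commute b₂ z') {c : G} (w : Wit S d z c) : Commute c z' := by
  obtain ⟨n, hn, hcn⟩ := w.le_of_ncard N.big.mem N.big.conn
  obtain ⟨y', hy', hc⟩ := N.cov d w.ha b₁ (N.mem_rest w.ha w₁.hb w₁.hba w₂.hb w₂.hba h12) b₂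
    (N.mem_rest w.ha w₂.hb w₂.hba w₁.hb w₁.hba fun e => h12 e.symm) h12 c
    (rest_of_not_commute ⟨w.hb, w.hba⟩ hn hcn)
  have hyS : y' ∈ S := N.big.mem.orb_subset w₂.hb hy'
  have hcom : ∀ p ∈ S, Commute b₁ p → Commute b₂ p → Commute y' p :=
    fun p hp h h' => N.big.mem.orb_commute w₂.hb hp h.symm h'.symm hy'
  exact (commute_of_cls (N.u1 hGood hBend w.ha w.hx w.hax hyS w.hb (hcom d w.ha w₁.hba w₂.hba)
    (hcom z w.hx w₁.hbx w₂.hbx) w.hba w.hbx hc) hz' (hcom z' hz' h₁ h₂).symm).symm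

/-- Two members of a line of the set are exchanged inside it. -/
theorem mid_rest {v : G} (hv : v ∈ S) {p q : G} (hp : p ∈ rest S v) (hq : q ∈ rest S v) (hpq : ¬ Commute p q) :
    ∃ f ∈ rest S v, f * p * f = q := by
  obtain ⟨f, hf, -, hfe⟩ := (N.flat v hv p hp).mem.exists_mid hp hq hpq
  exact ⟨f, hf, hfe⟩

/-- A member of a rest avoiding three given ones. -/
theorem exists_fourth {v : G} (hv : v ∈ S) {p q r : G} (hp : p ∈ rest S v) (hq : q ∈ rest S v)
    (hr : r ∈ rest S v) : ∃ s ∈ rest S v, ¬ Commute s p ∧ ¬ Commute s q ∧ ¬ Commute s r := by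
  have L := N.line hGood hBend hv hp
  set M := rest S v
  set π := proj M
  have hsq : ∀ {z : G} (hz : z ∈ M), π (el hz) * π (el hz) = 1 := fun {z} hz => by
    rw [← map_mul, show el hz * el hz = 1 from Subtype.ext ((N.flat v hv p hp).mem.sq z hz), map_one]
  obtain ⟨P, hP⟩ := exists_point (hsq hp)
  obtain ⟨Q, hQ⟩ := exists_point (hsq hq)
  obtain ⟨R, hR⟩ := exists_point (hsq hr)
  obtain ⟨T, hTP, hTQ, hTR⟩ : ∃ T : Sylow 2 (LQ M), T ≠ P ∧ T ≠ Q ∧ T ≠ R := by
    classical
    by_contra h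
    push Not at h
    haveI := Fintype.ofFinite (Sylow 2 (LQ M))
    haveI := Fintype.ofFinite (LQ M)
    obtain ⟨T0, hT0⟩ := L.pts.exists_ne P
    have hinj : Function.Injective fun y : (P : Subgroup (LQ M)) => (y : LQ M) • T0 :=
      fun y y' e => Subtype.ext (L.pts.eq_of_smul_eq hT0 y.2 y'.2 e)
    have hmem : ∀ y : (P : Subgroup (LQ M)), (y : LQ M) • T0 ∈ ({Q, R} : Finset (Sylow 2 (LQ M))) := by
      intro y
      simp only [Finset.mem_insert, Finset.mem_singleton]
      by_cases hQ' : (y : LQ M) • T0 = Q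
      · exact Or.inl hQ'
      · refine Or.inr (h _ (fun e => hT0 ?_) hQ')
        exact smul_left_cancel (y : LQ M) (e.trans (smul_eq_of_mem y.2).symm)
    obtain ⟨a, ha⟩ := L.pts.invols_nonempty P
    obtain ⟨b, hb, hba⟩ : ∃ b ∈ invols P, b ≠ a := by
      obtain ⟨t, t', ht, ht', htt, ht2, ht'2, hc⟩ := L.pts.two
      obtain ⟨W, hW⟩ := exists_point ht2
      obtain ⟨g, hg⟩ := exists_smul_eq (LQ M) W P
      have hIt : t ∈ invols W := ⟨ht, ht2, hW⟩
      have hIt' : t' ∈ invols W := ⟨ht', ht'2, (L.pts.commute_iff hIt ht' ht'2).mp hc⟩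
      have h1 := invols_conj hIt g
      have h2 := invols_conj hIt' g
      rw [hg] at h1 h2
      by_cases e : g * t * g⁻¹ = a
      · exact ⟨_, h2, fun e' => htt (by simpa using e.trans e'.symm)⟩
      · exact ⟨_, h1, e⟩
    have h3 : 3 ≤ Fintype.card (P : Subgroup (LQ M)) := by
      refine le_trans ?_ (Finset.card_le_univ
        ({1, ⟨a, mem_sylow_of_fixes ha.2.1 ha.2.2⟩, ⟨b, mem_sylow_of_fixes hb.2.1 hb.2.2⟩} : Finset (P : Subgroup (LQ M))))
      rw [Finset.card_insert_of_notMem, Finset.card_pair]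
      · exact fun e => hba (congrArg Subtype.val e).symm
      · simp only [Finset.mem_insert, Finset.mem_singleton, not_or]
        exact ⟨fun e => ha.1 (congrArg Subtype.val e).symm, fun e => hb.1 (congrArg Subtype.val e).symm⟩
    have h4 := Finset.card_le_card_of_injOn (s := (Finset.univ : Finset (P : Subgroup (LQ M))))
      (fun y : (P : Subgroup (LQ M)) => (y : LQ M) • T0) (fun y _ => hmem y) hinj.injOn
    have h5 := Finset.card_le_two (a := Q) (b := R)
    rw [Finset.card_univ] at h4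
    omega
  obtain ⟨v', hv'⟩ := L.pts.invols_nonempty T
  obtain ⟨⟨s, hs'⟩, hs, hsv⟩ := L.invol v' hv'.1 hv'.2.1
  change s ∈ M at hs
  change π (el hs) = v' at hsv
  have key : ∀ {z : G} (hz : z ∈ M) {Z : Sylow 2 (LQ M)}, π (el hz) • Z = Z → T ≠ Z → ¬ Commute s z := by
    intro z hz Z hZ hne hc
    have h1 : Commute v' (π (el hz)) := hsv ▸ (L.commute_iff (el hs) hs (el hz) hz).mpr (Subtype.ext hc.eq)
    exact hne (L.pts.point_unique ⟨L.ne_one _ hz, hsq hz, hZ⟩
      ((L.pts.commute_iff hv' (L.ne_one (el hz) hz) (hsq hz)).mp h1))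
  exact ⟨s, hs, key hp hP hTP, key hq hQ hTQ, key hr hR hTR⟩

/-- Every line has two classes. -/
theorem line_two {v w : G} (hv : v ∈ S) (hw : w ∈ rest S v) :
    ∃ y ∈ rest S v, Commute y w ∧ y ∉ cls S w := by
  by_contra hno
  push Not at hno
  have hS := N.big.mem
  -- every line is trivial
  have hall : ∀ v' ∈ S, ∀ w' ∈ rest S v', ∀ y ∈ rest S v', Commute y w' → y ∈ cls S w' := by
    intro v' hv' w' hw' y hy hyw
    obtain ⟨g, hg, rfl⟩ := hS.exists_conj_of_reach (N.big.conn v hv v' hv')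
    have hw1 := mem_rest_conj hS hg hw'
    obtain ⟨k, hk, hkv, hkw⟩ : ∃ k ∈ closure S, k * v * k⁻¹ = v ∧
        Commute (k * w * k⁻¹) (g⁻¹ * w' * g) := by
      by_cases h : Commute w (g⁻¹ * w' * g)
      · exact ⟨1, one_mem _, by simp, by simpa using h⟩
      obtain ⟨f, hf, hfe⟩ := N.mid_rest hGood hBend hv hw hw1 h
      refine ⟨f, subset_closure hf.1.1, ?_, ?_⟩
      · rw [hf.1.2.eq, mul_inv_cancel_right]
      · rw [hS.inv_eq hf.1.1, hfe]
    have hmap : ∀ {z : G}, z ∈ rest S v → k⁻¹ * z * k ∈ rest S v := fun {z} hz =>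
      mem_rest_conj hS hk (hkv.symm ▸ hz)
    have key : ∀ {z : G}, z ∈ rest S v → Commute z (g⁻¹ * w' * g) → z ∈ cls S (k * w * k⁻¹) := by
      intro z hz hzw
      have hkw' : k * w * k⁻¹ ∈ rest S v := by
        have h := rest_conj hS hk v
        rw [hkv] at h
        rw [h]
        exact ⟨w, hw, rfl⟩
      have h1 := hS.cls_conj hk (hno _ (hmap hz) (by
        have := (Commute.conj_iff k⁻¹).mpr (N.trans_rest hGood hBend hv hz hw1 hkw' hzw hkw.symm)
        simpa [mul_assoc] using this))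
      simpa [mul_assoc] using h1
    have h2 := key (mem_rest_conj hS hg hy) (by
      have := (Commute.conj_iff g⁻¹).mpr hyw
      simpa [mul_assoc] using this)
    have h3 := key hw1 (Commute.refl _)
    have h4 := hS.cls_conj hg (show g⁻¹ * y * g ∈ cls S (g⁻¹ * w' * g) from ⟨h2.1, h2.2.trans h3.2.symm⟩)
    simpa [mul_assoc] using h4
  -- then nonneighbours share the rest
  have hshare : ∀ {x : G}, x ∈ S → ¬ Commute x v → ∀ y ∈ rest S v, Commute y x := by
    intro x hx hxv y hy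
    obtain ⟨c, hc, hcx, hcy⟩ := N.u2 hGood hBend hv hx (fun e => hxv e.symm) hy
    exact (commute_of_cls (hall v hv c hc y hy hcy.symm) hx hcx.symm).symm
  obtain ⟨n, hn, hwn⟩ := rest_partner hS N.big.conn hv hw
  have hclosed : ∀ s, Reach S w s → s ∈ rest S v := by
    intro s hs
    induction hs with
    | refl => exact hw
    | @tail p q _ hpq ih =>
      by_cases hqv : Commute q v
      · refine ⟨⟨hpq.2.1, hqv⟩, fun h => hpq.2.2 ?_⟩
        exact commute_of_cls h ih.1.1 ih.1.2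
      · exact absurd (hshare hpq.2.1 hqv p ih) hpq.2.2
  exact (hclosed v (N.big.conn w hw.1.1 v hv)).2 (self_mem_cls hv)

/-- A translation of the lines next to `d` carrying a member to a neighbour. -/
theorem edge {d z z' : G} (hd : d ∈ S) (hz : z ∈ S) (hz' : z' ∈ S) (hdz : ¬ Commute d z) (hdz' : ¬ Commute d z')
    (hzz : Commute z z') {c : G} (w : Wit S d z c) (hcz' : Commute c z') :
    ∃ a ∈ closure S, a * a = 1 ∧ (∀ e ∈ cls S d, Commute a e) ∧
      (∀ y ∈ rest S d, Commute (a * y * a⁻¹) y) ∧ (∀ y ∈ rest S d, Commute y c → Commute a y) ∧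
      a * z * a⁻¹ ∈ cls S z' := by
  classical
  have hS := N.big.mem
  have hB := below_all hGood hBend S
  obtain ⟨n, hn, hcn⟩ := w.le_of_ncard hS N.big.conn
  have hcd : c ∈ rest S d := rest_of_not_commute ⟨w.hb, w.hba⟩ hn hcn
  set M := rest S c
  have hdM : d ∈ M := N.rest_symm hd hcd
  have hzM : z ∈ M := N.mem_rest w.hb hz w.hbx.symm hd w.hba.symm fun e => hdz e.symm
  have F := N.flat c w.hb d hdM
  have L := N.line hGood hBend w.hb hdM
  set π := proj M
  set z0 := d * z * d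
  have hz0M : z0 ∈ M := F.mem.conj d hdM z hzM
  have hdz0 : ¬ Commute d z0 := fun h => hdz (by
    have h1 : d * (d * z * d) = d * z * d * d := h.eq
    rw [mul_assoc d z d, hS.self_mul hd, mul_assoc, mul_assoc, hS.sq d hd, mul_one] at h1
    exact h1.symm)
  have hz0z : ¬ Commute z0 z := fun h => hdz (by
    have hodd := hS.odd_of_not_commute hd hz hdz
    refine commute_of_sq_eq_one (hS.sq d hd) (hS.sq z hz) hodd (pow_orderOf_eq_one _) (i := 1) ?_
    rw [pow_one, pow_two, show d * z * (d * z) = z0 * z by simp only [z0]; group]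
    exact hS.commute_mul_self hz0M.1.1 hz h)
  -- representatives congruent to `d`
  have hrep : ∀ y ∈ M, Commute y d → ∃ e ∈ cls S y, e ∈ M ∧ Cong M e d ∧ Commute e d := by
    intro y hy hyd
    obtain ⟨n', hn', hyn'⟩ := rest_partner hS N.big.conn w.hb hy
    obtain ⟨q, hq, hqd⟩ := F.move hGood hBend hS N.big.conn hB w.hb hy hn' hyn' hdM hyd.symm
    refine ⟨_, hqd, F.mem.conj_mem_closure (core_le hq) hdM, ?_, (commute_of_cls hqd hd hyd.symm).symm⟩
    show q * d * q⁻¹ * d ∈ core M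
    have h1 := core_normalized (subset_closure hdM) (inv_mem hq)
    rw [F.mem.inv_eq hdM] at h1
    rw [show q * d * q⁻¹ * d = q * (d * q⁻¹ * d) by group]
    exact mul_mem hq h1
  let img : G → G := fun e => e * z0 * e
  have himg : ∀ {e : G}, e ∈ M → Cong M e d → img e ∈ M ∧ Commute (img e) z ∧ Cong M (img e) z := by
    intro e he hed
    have h1 : img e ∈ M := F.mem.conj e he z0 hz0M
    have h2 : Cong M (img e) z := by
      show e * z0 * e * z ∈ core M
      have hd' : d * e ∈ core M := F.mem.cong_symm he hdM hed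
      have h3 : z * (d * e) * z ∈ core M := by
        have := core_normalized (subset_closure hzM) hd'
        rwa [F.mem.inv_eq hzM] at this
      have h4 := mul_mem hed h3
      have h5 : e * d * (z * (d * e) * z) = e * z0 * e * z := by simp only [z0]; group
      rwa [h5] at h4
    exact ⟨h1, F.mem.cong_commute h1 hzM h2, h2⟩
  have hinj : ∀ {e₁ e₂ : G}, e₁ ∈ M → e₂ ∈ M → Cong M e₁ d → Cong M e₂ d → Commute e₁ d → Commute e₂ d →
      img e₁ ∈ cls S (img e₂) → e₂ ∈ cls S e₁ := by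
    intro e₁ e₂ h₁ h₂ hc₁ hc₂ hd₁ hd₂ heq
    have hne : ∀ {e : G}, e ∈ M → Cong M e d → ¬ Commute e z0 := fun {e} he hed h =>
      hdz0 ((F.mem.cong_commute_iff he hdM hz0M hed).mp h.symm).symm
    have hne' : ∀ {e : G}, e ∈ M → Cong M e d → ¬ Commute z0 (img e) := fun {e} he hed h =>
      hz0z ((F.mem.cong_commute_iff (himg he hed).1 hzM hz0M (himg he hed).2.2).mp h)
    -- common neighbours of `z0` and `e` are those of `z0` and its image
    have htr : ∀ {e : G}, e ∈ M → ∀ {p : G}, Wit S z0 e p → Commute p (img e) := fun {e} he {p} wp =>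
      (wp.hbx.mul_right wp.hba).mul_right wp.hbx
    obtain ⟨p₁, q₁, wp₁, wq₁, hpq₁⟩ := hS.exists_wit_pair hGood hBend N.big.conn N.big.linked hz0M.1.1 h₁.1.1
      fun h => hne h₁ hc₁ h.symm
    obtain ⟨p₂, q₂, wp₂, wq₂, hpq₂⟩ := hS.exists_wit_pair hGood hBend N.big.conn N.big.linked hz0M.1.1 h₂.1.1
      fun h => hne h₂ hc₂ h.symm
    have hk : ∀ {p : G}, Wit S z0 e₂ p → Commute p e₁ := by
      intro p wp
      have hc : ∀ {r : G}, Wit S z0 e₁ r → Wit S z0 (img e₁) r := fun {r} wr =>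
        ⟨wr.ha, (himg h₁ hc₁).1.1.1, wr.hb, hne' h₁ hc₁, wr.hba, htr h₁ wr⟩
      refine N.u3 hGood hBend (hc wp₁) (hc wq₁) hpq₁ h₁.1.1 wp₁.hbx wq₁.hbx
        ⟨wp.ha, (himg h₁ hc₁).1.1.1, wp.hb, hne' h₁ hc₁, wp.hba, ?_⟩
      exact commute_of_cls heq wp.hb (htr h₂ wp)
    exact N.u1 hGood hBend wp₂.hb wq₂.hb hpq₂ h₁.1.1 h₂.1.1 (hk wp₂).symm (hk wq₂).symm wp₂.hbx.symm
      wq₂.hbx.symm (N.trans_rest hGood hBend w.hb h₁ hdM h₂ hd₁ hd₂.symm)
  -- counting classes at the two points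
  let A : G → Set (Set G) := fun p => cls S '' {y | y ∈ M ∧ Commute y p}
  obtain ⟨f, hf, hfd⟩ := N.mid_rest hGood hBend w.hb hdM hzM hdz
  have hfin : ∀ p, (A p).Finite := fun p => Set.toFinite _
  have hAeq : A z = (fun Y => (fun t => f * t * f⁻¹) '' Y) '' A d := by
    have hfz : f * z * f = d := by
      rw [← hfd, mul_assoc f d f, hS.self_mul hf.1.1, mul_assoc, hS.sq f hf.1.1, mul_one]
    ext Y
    constructor
    · rintro ⟨y, ⟨hy, hyz⟩, rfl⟩
      refine ⟨cls S (f * y * f), ⟨f * y * f, ⟨F.mem.conj f hf y hy, ?_⟩, rfl⟩, ?_⟩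
      · have := (Commute.conj_iff f).mpr hyz
        rwa [hS.inv_eq hf.1.1, hfz] at this
      · show (fun t => f * t * f⁻¹) '' cls S (f * y * f) = _
        rw [hS.cls_image (subset_closure hf.1.1), hS.inv_eq hf.1.1, mul_assoc f y f, hS.self_mul hf.1.1,
          mul_assoc, hS.sq f hf.1.1, mul_one]
    · rintro ⟨_, ⟨y, ⟨hy, hyd⟩, rfl⟩, rfl⟩
      refine ⟨f * y * f, ⟨F.mem.conj f hf y hy, ?_⟩, ?_⟩
      · have := (Commute.conj_iff f).mpr hyd
        rwa [hS.inv_eq hf.1.1, hfd] at this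
      · show _ = (fun t => f * t * f⁻¹) '' cls S y
        rw [hS.cls_image (subset_closure hf.1.1), hS.inv_eq hf.1.1]
  have hex : ∀ Y ∈ A d, ∃ e, e ∈ M ∧ Cong M e d ∧ Commute e d ∧ cls S e = Y := by
    rintro _ ⟨y, ⟨hy, hyd⟩, rfl⟩
    obtain ⟨e, he, heM, hec, hed⟩ := hrep y hy hyd
    exact ⟨e, heM, hec, hed, cls_eq_of_mem he⟩
  choose! ch hch using hex
  let Φ : Set G → Set G := fun Y => cls S (img (ch Y))
  have hsurj : A z ⊆ Φ '' A d := by
    refine (Set.eq_of_subset_of_ncard_le ?_ ?_ (hfin z)).ge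
    · rintro _ ⟨Y, hY, rfl⟩
      obtain ⟨h1, h2, -, -⟩ := hch Y hY
      exact ⟨_, ⟨(himg h1 h2).1, (himg h1 h2).2.1⟩, rfl⟩
    · rw [hAeq]
      refine (Set.ncard_image_le (hfin d)).trans (Set.ncard_image_of_injOn ?_).ge
      intro Y hY Y' hY' h
      obtain ⟨h1, h2, h3, h4⟩ := hch Y hY
      obtain ⟨h1', h2', h3', h4'⟩ := hch Y' hY'
      have h' : img (ch Y) ∈ cls S (img (ch Y')) := by
        show img (ch Y) ∈ cls S (img (ch Y'))
        rw [← show cls S (img (ch Y)) = cls S (img (ch Y')) from h]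
        exact self_mem_cls (himg h1 h2).1.1.1
      rw [← h4, ← h4', cls_eq_of_mem (hinj h1 h1' h2 h2' h3 h3' h')]
  have hz'M : z' ∈ M := N.mem_rest w.hb hz' hcz'.symm hd w.hba.symm fun e => hdz' e.symm
  obtain ⟨Y, hY, hYz⟩ := hsurj ⟨z', ⟨hz'M, hzz.symm⟩, rfl⟩
  obtain ⟨heM, hec, hed, -⟩ := hch Y hY
  set e := ch Y
  have hmv : img e ∈ cls S z' := by
    rw [← show cls S (img e) = cls S z' from hYz]
    exact self_mem_cls (himg heM hec).1.1.1
  by_cases hecls : e ∈ cls S d
  · refine ⟨1, one_mem _, one_mul 1, fun e' _ => Commute.one_left e', fun y _ => by simp,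
      fun y _ _ => Commute.one_left y, ?_⟩
    have hdd : img d = z := by
      simp only [img, z0]
      rw [mul_assoc d z d, hS.self_mul hd, mul_assoc, hS.sq d hd, mul_one]
    have hcd' : Cong M d d := F.mem.cong_self hdM
    have h1 : img e ∈ cls S (img d) := by
      -- members of one class congruent to `d` have equal images
      have hed' : e = d := by
        have hu := N.big.closure_cls hGood hBend hd hz hdz
          (mul_mem (subset_closure hecls) (subset_closure (self_mem_cls hd)))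
        by_contra hne
        have hne1 : e * d ≠ 1 := fun h => hne ((eq_inv_of_mul_eq_one_left h).trans (hS.inv_eq hd))
        have hed1 : e * d ∈ cls S d := hu hne1
        have hedM : e * d ∈ M := F.cls_mem w.hb hdM hzM hdz hed1
        have h9 := proj_core (S := M) hec
        exact L.ne_one (el hedM) hedM h9
      rw [hed']; exact self_mem_cls (F.mem.conj d hdM z0 hz0M).1.1
    rw [hdd] at h1
    simpa using mem_cls_trans (mem_cls_symm hz h1) hmv
  · have heS : e ∈ S := heM.1.1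
    have hedr : e ∈ rest S d := ⟨⟨heS, hed⟩, hecls⟩
    have Fd := N.flat d hd c hcd
    obtain ⟨n', hn', hcn'⟩ := rest_partner hS N.big.conn hd hcd
    obtain ⟨q, hq, hqe⟩ := Fd.move hGood hBend hS N.big.conn hB hd hcd hn' hcn' hedr heM.1.2
    set e2 := q * e * q⁻¹
    have he2S : e2 ∈ S := hqe.1
    have he2r : e2 ∈ rest S d := Fd.mem.conj_mem_closure (core_le hq) hedr
    have hcong : e * e2 ∈ core (rest S d) := by
      have h1 := core_normalized (subset_closure hedr) hq
      rw [Fd.mem.inv_eq hedr] at h1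
      rw [show e * e2 = e * q * e * q⁻¹ by simp only [e2]; group]
      exact mul_mem h1 (inv_mem hq)
    have hde : Commute d e := hed.symm
    have hde2 : Commute d e2 := commute_of_cls hqe hd w.hba.symm
    have hee2 : Commute e e2 := commute_of_cls hqe heS heM.1.2
    refine ⟨e * d * e2, mul_mem (mul_mem (subset_closure heS) (subset_closure hd)) (subset_closure he2S), ?_, ?_,
      ?_, ?_, ?_⟩
    · have h1 : Commute (e * d) e2 := hee2.mul_left hde2
      rw [mul_assoc (e * d), ← mul_assoc e2, ← h1.eq, mul_assoc (e * d) e2, hS.sq e2 he2S, mul_one,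
        hS.commute_mul_self heS hd hed]
    · intro e' he'
      exact ((commute_of_cls he' heS hed).mul_left (commute_of_cls he' hd (Commute.refl d))).mul_left
        (commute_of_cls he' he2S hde2.symm)
    · intro y hy
      have L' := N.line hGood hBend hd hy
      have hy' : e * d * e2 * y * (e * d * e2)⁻¹ = e * e2 * y * (e * e2)⁻¹ := by
        rw [show e * d * e2 = e * e2 * d by rw [mul_assoc, hde2.eq, ← mul_assoc],
          show e * e2 * d * y * (e * e2 * d)⁻¹ = e * e2 * (d * y * d⁻¹) * (e * e2)⁻¹ by group,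
          hy.1.2.symm.eq, mul_inv_cancel_right]
      rw [hy']
      have hmem : e * e2 * y * (e * e2)⁻¹ ∈ rest S d := Fd.mem.conj_mem_closure (core_le hcong) hy
      refine congrArg Subtype.val ((L'.commute_iff (el hmem) hmem (el hy) hy).mp ?_).eq
      rw [show el hmem = ⟨e * e2, core_le hcong⟩ * el hy * (⟨e * e2, core_le hcong⟩ : ↥(closure (rest S d)))⁻¹
        from Subtype.ext rfl, map_mul, map_mul, map_inv, proj_core hcong, one_mul, inv_one, mul_one]
    · intro y hy hyc
      exact (((N.trans_rest hGood hBend hd hy hcd hedr hyc heM.1.2.symm).symm.mul_left hy.1.2.symm).mul_left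
        (commute_of_cls hqe hy.1.1 hyc).symm)
    · rw [show e * d * e2 * z * (e * d * e2)⁻¹ = e * (d * (e2 * z * e2⁻¹) * d⁻¹) * e⁻¹ by group,
        (commute_of_cls hqe hz w.hbx.symm).symm.eq, mul_inv_cancel_right, hS.inv_eq hd, hS.inv_eq heS]
      exact hmv

end Net

end Cfsg.Agent.H76.OddT
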