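import Cfsg.Agent.H76.OddT.Core
import Cfsg.Agent.H76.OddT.Flat

/-!
Odd transposition sets inside a group: the rank-one quotient of a set with disconnected commuting graph, the
induction hypotheses, and a counting lemma for fibres.
-/

set_option autoImplicit false
set_option linter.style.haveILetI false

namespace Cfsg.Agent.H76.OddT

open Subgroup MulAction

universe u

variable {G : Type u} [Group G] [Finite G] {S : Set G}

/-- The commuting graph is connected. -/
def Linked (S : Set G) : Prop := Cfsg.IsConnectedSet (Cfsg.CommAdj S) S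

/-- The quotient of `⟨S⟩` by its 2-Z-core. -/
abbrev LQ (S : Set G) : Type u := ↥(closure S) ⧸ Cfsg.twoZCore ↥(closure S)

/-- The projection to the quotient. -/
def proj (S : Set G) : ↥(closure S) →* LQ S := QuotientGroup.mk' _

/-- A member as an element of the closure. -/
def el {s : G} (hs : s ∈ S) : ↥(closure S) := ⟨s, subset_closure hs⟩

omit [Finite G] in
theorem el_coe {s : G} (hs : s ∈ S) : (el hs : G) = s := rfl

variable (hS : Mem S)
include hS

omit [Finite G] in
theorem Mem.nonempty_of_not_linked (hc : ¬ Linked S) : S.Nonempty := by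
  by_contra h
  exact hc fun s hs => absurd ⟨s, hs⟩ h

theorem Mem.rootSet : Cfsg.IsRootInvolutionSet ((Subtype.val : ↥(closure S) → G) ⁻¹' S) := by
  refine ⟨fun d hd => ?_, closure_closure_coe_preimage, fun d hd g => hS.conj_mem_closure g.2 hd,
    fun a ha b hb => ?_⟩
  · rw [← Subgroup.orderOf_coe]
    exact orderOf_eq_prime (by rw [pow_two, hS.sq _ hd]) (hS.ne_one _ hd)
  · rcases hS.odd _ ha _ hb with h | h
    · exact Or.inl (Subtype.ext h.eq)
    · exact Or.inr (Or.inl (by rw [← Subgroup.orderOf_coe]; exact h))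

theorem Mem.isLine (hGood : H3.RootInv.GoodHyp.{u}) (hBend : PostBender.BenderHyp.{u}) (hc : ¬ Linked S) :
    IsLine (proj S) ((Subtype.val : ↥(closure S) → G) ⁻¹' S) := by
  refine isLine_of_disconnected hGood hBend hS.rootSet (fun a ha b hb => ?_) (fun h => hc ?_) ?_
  · rcases hS.odd _ ha _ hb with h | h
    · exact Or.inl (Subtype.ext h.eq)
    · exact Or.inr (by rw [← Subgroup.orderOf_coe]; exact h)
  · intro s hs t ht
    exact (h (el hs) hs (el ht) ht).lift Subtype.val fun a b hab =>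
      ⟨hab.1, hab.2.1, fun e => hab.2.2.1 (Subtype.ext e), congrArg Subtype.val hab.2.2.2⟩
  · obtain ⟨s, hs⟩ := hS.nonempty_of_not_linked hc
    obtain ⟨e, he, hne, hes, hm⟩ := hS.partner s hs
    exact ⟨el he, he, el hs, hs, fun h => hne (congrArg Subtype.val h), Subtype.ext hes.eq, hm⟩

omit hS in
/-- Congruent members from equal images. -/
theorem cong_of_proj {L : IsLine (proj S) ((Subtype.val : ↥(closure S) → G) ⁻¹' S)} {a b : G} (ha : a ∈ S)
    (hb : b ∈ S) (h : proj S (el ha) = proj S (el hb)) : Cong S a b :=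
  ⟨el ha * el hb, L.cong _ ha _ hb h, rfl⟩

omit hS in
theorem proj_core {q : G} (hq : q ∈ core S) :
    proj S ⟨q, core_le hq⟩ = 1 := by
  obtain ⟨y, hy, rfl⟩ := hq
  refine (QuotientGroup.eq_one_iff _).mpr ?_
  show y ∈ Cfsg.twoZCore ↥(closure S)
  refine mem_comap.mpr ?_
  rw [QuotientGroup.mk'_apply, (QuotientGroup.eq_one_iff y).mpr hy]
  exact one_mem _

/-- In a set with disconnected commuting graph commuting is transitive. -/
theorem Mem.commute_trans (hGood : H3.RootInv.GoodHyp.{u}) (hBend : PostBender.BenderHyp.{u}) (hc : ¬ Linked S)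
    {u v w : G} (hu : u ∈ S) (hv : v ∈ S) (hw : w ∈ S) (huv : Commute u v) (hvw : Commute v w) :
    Commute u w := by
  have L := hS.isLine hGood hBend hc
  have hsq : ∀ {s : G} (hs : s ∈ S), proj S (el hs) * proj S (el hs) = 1 := fun {s} hs => by
    rw [← map_mul, show el hs * el hs = 1 from Subtype.ext (hS.sq s hs), map_one]
  obtain ⟨P, hP⟩ := exists_point (hsq hv)
  have hvP : proj S (el hv) ∈ invols P := ⟨L.ne_one _ hv, hsq hv, hP⟩
  have hpu := (L.pts.commute_iff hvP (L.ne_one (el hu) hu) (hsq hu)).mp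
    ((L.commute_iff _ hv _ hu).mpr (Subtype.ext huv.eq.symm))
  have hpw := (L.pts.commute_iff hvP (L.ne_one (el hw) hw) (hsq hw)).mp
    ((L.commute_iff _ hv _ hw).mpr (Subtype.ext hvw.eq))
  exact congrArg Subtype.val ((L.commute_iff _ hu _ hw).mp
    ((L.pts.commute_iff ⟨L.ne_one _ hu, hsq hu, hpu⟩ (L.ne_one (el hw) hw) (hsq hw)).mpr hpw)).eq

omit hS

/-- Prescribed congruent member: for noncommuting `a`, `x` and a member commuting with `a` and isolated from
none of its like, a congruent member commutes with both. -/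
def PR (S : Set G) : Prop :=
  ∀ a ∈ S, ∀ x ∈ S, ¬ Commute a x → ∀ v ∈ Cent S a, (∃ n ∈ Cent S a, ¬ Commute v n) →
    ∃ p ∈ S, Commute p a ∧ Commute p x ∧ Cong (Cent S a) v p

/-- Common neighbours in a component with connected commuting graph. -/
def CN (S : Set G) : Prop :=
  ∀ u ∈ S, ∀ w ∈ S, ¬ Commute u w → Linked (comp S u) → ∃ c ∈ comp S u, Commute c u ∧ Commute c w

/-- Both properties for smaller sets. -/
def Below (S : Set G) : Prop :=
  ∀ S' : Set G, Mem S' → S'.ncard < S.ncard → PR S' ∧ CN S'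

theorem mem_of_conj_closed {X : Set G} {g : G} (hg : ∀ t ∈ X, g * t * g⁻¹ ∈ X) {t : G} (ht : t ∈ X) :
    g⁻¹ * t * g ∈ X := by
  have hinj : Function.Injective (fun t : G => g * t * g⁻¹) := fun u v h => by simpa using h
  have himg : (fun t : G => g * t * g⁻¹) '' X = X :=
    Set.eq_of_subset_of_ncard_le (Set.image_subset_iff.mpr hg)
      (Set.ncard_image_of_injective X hinj).ge X.toFinite
  obtain ⟨y, hy, rfl⟩ := himg.symm ▸ ht
  simpa [mul_assoc] using hy

/-- The elements mapping a set into itself by conjugation. -/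
def stabSet (X : Set G) : Subgroup G where
  carrier := {g | ∀ t ∈ X, g * t * g⁻¹ ∈ X}
  one_mem' t ht := by simpa using ht
  mul_mem' {g g'} hg hg' t ht := by
    rw [show g * g' * t * (g * g')⁻¹ = g * (g' * t * g'⁻¹) * g⁻¹ by group]
    exact hg _ (hg' t ht)
  inv_mem' {g} hg t ht := by rw [inv_inv]; exact mem_of_conj_closed hg ht

omit [Finite G] in
/-- A set whose fibres are orbits of a 2-group and are permuted transitively has size the number of fibres
times a power of two. -/
theorem ncard_fibres [Finite G] {X : Set G} {α : Type*} (F : G → α) {N : Subgroup G} (hN : IsPGroup 2 N) {a : G}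
    (ha : a ∈ X) (h1 : ∀ e ∈ X, F e = F a → ∃ q ∈ N, q ∈ stabSet X ∧ q * a * q⁻¹ = e)
    (h2 : ∀ q ∈ N, q ∈ stabSet X → F (q * a * q⁻¹) = F a)
    (h3 : ∀ e ∈ X, ∃ g ∈ stabSet X, g * e * g⁻¹ = a ∧
      ∀ e' ∈ X, ∀ e'' ∈ X, F e' = F e'' ↔ F (g * e' * g⁻¹) = F (g * e'' * g⁻¹)) :
    ∃ i : ℕ, X.ncard = (F '' X).ncard * 2 ^ i := by
  classical
  haveI : Fact (Nat.Prime 2) := ⟨Nat.prime_two⟩
  set N0 := N ⊓ stabSet X
  letI : MulAction N0 G :=
    { smul := fun q t => (q : G) * t * (q : G)⁻¹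
      one_smul := fun t => by show (1 : G) * t * (1 : G)⁻¹ = t; group
      mul_smul := fun q q' t => by
        show ((q * q' : N0) : G) * t * ((q * q' : N0) : G)⁻¹ = q * (q' * t * (q' : G)⁻¹) * (q : G)⁻¹
        rw [Subgroup.coe_mul]; group }
  obtain ⟨i, hi⟩ := (hN.to_le (inf_le_left : N0 ≤ N)).card_orbit a
  have horb : MulAction.orbit N0 a = {e ∈ X | F e = F a} := by
    ext e
    constructor
    · rintro ⟨q, rfl⟩
      exact ⟨q.2.2 a ha, h2 q q.2.1 q.2.2⟩
    · rintro ⟨he, hF⟩
      obtain ⟨q, hq, hqs, hqe⟩ := h1 e he hF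
      exact ⟨⟨q, hq, hqs⟩, hqe⟩
  rw [horb, Nat.card_coe_set_eq] at hi
  have hfib : ∀ e ∈ X, {y ∈ X | F y = F e}.ncard = 2 ^ i := by
    intro e he
    obtain ⟨g, hg, hge, hF⟩ := h3 e he
    rw [← hi, ← Set.ncard_image_of_injective {y ∈ X | F y = F e}
      (f := fun t => g * t * g⁻¹) (fun u v h => by simpa using h)]
    congr 1
    ext y
    constructor
    · rintro ⟨z, ⟨hz, hzF⟩, rfl⟩
      exact ⟨hg z hz, hge ▸ (hF z hz e he).mp hzF⟩
    · rintro ⟨hy, hyF⟩
      refine ⟨g⁻¹ * y * g, ⟨mem_of_conj_closed hg hy, ?_⟩, by simp [mul_assoc]⟩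
      refine (hF _ (mem_of_conj_closed hg hy) e he).mpr ?_
      rw [hge, show g * (g⁻¹ * y * g) * g⁻¹ = y by group]; exact hyF
  refine ⟨i, ?_⟩
  haveI := Fintype.ofFinite G
  rw [Set.ncard_eq_toFinset_card' X, Set.ncard_eq_toFinset_card' (F '' X), Set.toFinset_image,
    Finset.card_eq_sum_card_image F X.toFinset, Finset.sum_const_nat (m := 2 ^ i)]
  intro b hb
  obtain ⟨e, he, rfl⟩ := Finset.mem_image.mp hb
  rw [Set.mem_toFinset] at he
  rw [← hfib e he, Set.ncard_eq_toFinset_card']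
  congr 1
  ext y
  simp

end Cfsg.Agent.H76.OddT
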