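import Mathlib

/-!
A finite 2-group on which two commuting automorphisms `h`, `j` of odd prime order `r` act is the product of the
fixed points of `h` and the subgroup generated by the fixed points of the `h ^ i * j`.
-/

set_option autoImplicit false
set_option linter.style.haveILetI false

namespace Cfsg.Agent.H76.OddT

open Subgroup

universe u

/-- An automorphism of odd prime order fixing a coset of an invariant 2-subgroup fixes an element of it. -/
theorem exists_fixed_mul {T : Type*} [Group T] [Finite T] {r : ℕ} (hr : r.Prime) (hr2 : r ≠ 2) {φ : MulAut T}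
    (hφ : φ ^ r = 1) {N : Subgroup T} (hN : IsPGroup 2 N) (hinv : ∀ n ∈ N, φ n ∈ N) {t : T}
    (ht : t⁻¹ * φ t ∈ N) : ∃ n ∈ N, φ (t * n) = t * n := by
  classical
  haveI : Fact r.Prime := ⟨hr⟩
  haveI : Fact (Nat.Prime 2) := ⟨Nat.prime_two⟩
  let σ : N → N := fun n => ⟨t⁻¹ * φ (t * n), by
    rw [map_mul, ← mul_assoc]; exact mul_mem ht (hinv n n.2)⟩
  have hσ : Function.Injective σ := fun a b h => by
    simpa [σ] using congrArg Subtype.val h
  let τ : Equiv.Perm N := Equiv.ofBijective σ hσ.bijective_of_finite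
  have hiter : ∀ (k : ℕ) (n : N), (σ^[k] n).1 = t⁻¹ * (φ ^ k) (t * n) := by
    intro k
    induction k with
    | zero => intro n; simp
    | succ k ih =>
      intro n
      rw [Function.iterate_succ_apply', show (σ (σ^[k] n)).1 = t⁻¹ * φ (t * (σ^[k] n).1) from rfl, ih,
        mul_inv_cancel_left, pow_succ', MulAut.mul_apply]
  haveI := Fintype.ofFinite N
  obtain ⟨e, he⟩ := IsPGroup.iff_card.mp hN
  have hdiv : ¬ r ∣ Fintype.card N := by
    rw [← Nat.card_eq_fintype_card, he]
    intro hd
    exact hr2 ((Nat.prime_dvd_prime_iff_eq hr Nat.prime_two).mp (hr.dvd_of_dvd_pow hd))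
  have hτ : τ ^ r ^ 1 = 1 := by
    rw [pow_one]
    refine Equiv.ext fun n => Subtype.ext ?_
    rw [← Equiv.Perm.iterate_eq_pow]
    show (σ^[r] n).1 = n.1
    rw [hiter, hφ, MulAut.one_apply, inv_mul_cancel_left]
  obtain ⟨n, hn⟩ := Equiv.Perm.exists_fixed_point_of_prime hdiv hτ
  exact ⟨n, n.2, inv_mul_eq_iff_eq_mul.mp (congrArg Subtype.val hn)⟩

/-- The elements fixed by some `h ^ i * j`. -/
def fixSet {T : Type*} [Group T] (h j : MulAut T) : Set T := {w | ∃ i : ℕ, (h ^ i * j) w = w}

section Abelian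

variable {A : Type*} [CommGroup A] {r : ℕ} [Fact r.Prime]

theorem norm_fixed (g : MulAut A) (hg : g ^ r = 1) (v : A) :
    g (∏ l : ZMod r, (g ^ l.val) v) = ∏ l : ZMod r, (g ^ l.val) v := by
  rw [map_prod]
  refine Fintype.prod_equiv (Equiv.addRight (1 : ZMod r)) _ _ fun l => ?_
  rw [Equiv.coe_addRight, ← MulAut.mul_apply, ← pow_succ']
  congr 1
  refine pow_eq_pow_iff_modEq.mpr (Nat.ModEq.of_dvd (orderOf_dvd_of_pow_eq_one hg) ?_)
  rw [← ZMod.natCast_eq_natCast_iff]
  simp

/-- The averaging identity for two commuting automorphisms of order `r`. -/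
theorem abelian_split [Finite A] (hA : IsPGroup 2 A) (hr2 : r ≠ 2) {h j : MulAut A} (hh : h ^ r = 1)
    (hj : j ^ r = 1) (hc : Commute h j) (v : A) :
    ∃ c w : A, h c = c ∧ w ∈ closure (fixSet h j) ∧ v = c * w := by
  classical
  set g : ZMod r → MulAut A := fun i => h ^ i.val * j with hg
  have hgr : ∀ i, g i ^ r = 1 := fun i => by
    rw [hg]
    simp only
    rw [(hc.pow_left _).mul_pow, ← pow_mul, mul_comm, pow_mul, hh, one_pow, one_mul, hj]
  set Nh : A → A := fun x => ∏ l : ZMod r, (h ^ l.val) x with hNh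
  have hrow : ∀ m : ZMod r, m ≠ 0 →
      ∏ i : ZMod r, ((g i) ^ m.val) v = Nh ((j ^ m.val) v) := by
    intro m hm
    refine Fintype.prod_equiv (Equiv.mulRight₀ m hm) _ _ fun i => ?_
    simp only [hg, Equiv.mulRight₀_apply]
    rw [(hc.pow_left _).mul_pow, ← pow_mul, MulAut.mul_apply]
    congr 1
    refine pow_eq_pow_iff_modEq.mpr (Nat.ModEq.of_dvd (orderOf_dvd_of_pow_eq_one hh) ?_)
    rw [← ZMod.natCast_eq_natCast_iff]
    simp
  set P := ∏ i : ZMod r, ∏ m : ZMod r, ((g i) ^ m.val) v with hP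
  set NN := ∏ m : ZMod r, Nh ((j ^ m.val) v) with hNN
  have hid : P * Nh v = v ^ r * NN := by
    have h1 : P = v ^ r * ∏ m ∈ Finset.univ.erase (0 : ZMod r), Nh ((j ^ m.val) v) := by
      rw [hP, Finset.prod_comm,
        ← Finset.mul_prod_erase Finset.univ (fun m : ZMod r => ∏ i : ZMod r, ((g i) ^ m.val) v)
          (Finset.mem_univ 0),
        Finset.prod_congr rfl (fun m hm => hrow m (Finset.ne_of_mem_erase hm))]
      simp [ZMod.card]
    have h2 : NN = Nh v * ∏ m ∈ Finset.univ.erase (0 : ZMod r), Nh ((j ^ m.val) v) := by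
      rw [hNN, ← Finset.mul_prod_erase Finset.univ (fun m : ZMod r => Nh ((j ^ m.val) v)) (Finset.mem_univ 0)]
      simp
    rw [h1, h2]
    ac_rfl
  have hPmem : P ∈ closure (fixSet h j) :=
    prod_mem fun i _ => subset_closure ⟨i.val, norm_fixed (g i) (hgr i) v⟩
  set c0 := NN⁻¹ * Nh v with hc0
  have hcfix : h c0 = c0 := by
    rw [hc0, map_mul, map_inv, hNN, map_prod, hNh]
    simp only [norm_fixed h hh]
  have hv : v ^ r = c0 * P := by
    rw [hc0, mul_right_comm, mul_assoc, eq_inv_mul_iff_mul_eq, mul_comm NN, ← hid]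
  obtain ⟨e, he⟩ := IsPGroup.iff_card.mp hA
  have hcop : (Nat.card A).Coprime r := by
    rw [he]
    exact Nat.Coprime.pow_left e ((Nat.coprime_primes Nat.prime_two (Fact.out : r.Prime)).mpr (Ne.symm hr2))
  set s := (powCoprime hcop).symm v
  have hs : s ^ r = v := (powCoprime hcop).apply_symm_apply v
  -- transport the identity to the root
  obtain ⟨k, hk⟩ : ∃ k : ℕ, (v ^ r) ^ k = v := by
    obtain ⟨k, hk⟩ := exists_pow_eq_self_of_coprime (x := v) (n := r)
      ((Nat.Coprime.coprime_dvd_left (orderOf_dvd_natCard v) hcop).symm)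
    exact ⟨k, hk⟩
  refine ⟨c0 ^ k, P ^ k, by rw [map_pow, hcfix], pow_mem hPmem k, ?_⟩
  rw [← mul_pow, ← hv, hk]

end Abelian

/-- The restriction of an automorphism to the centre. -/
def centerAut {T : Type*} [Group T] : MulAut T →* MulAut (center T) where
  toFun φ :=
    { toFun := fun z => ⟨φ z, by
        rw [mem_center_iff]
        intro y
        obtain ⟨x, rfl⟩ := φ.surjective y
        rw [← map_mul, ← map_mul, mem_center_iff.mp z.2 x]⟩
      invFun := fun z => ⟨φ⁻¹ z, by
        rw [mem_center_iff]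
        intro y
        obtain ⟨x, rfl⟩ := φ⁻¹.surjective y
        rw [← map_mul, ← map_mul, mem_center_iff.mp z.2 x]⟩
      left_inv := fun z => Subtype.ext (MulAut.inv_apply_self T φ z)
      right_inv := fun z => Subtype.ext (MulAut.apply_inv_self T φ z)
      map_mul' := fun a b => Subtype.ext (map_mul φ a.1 b.1) }
  map_one' := MulEquiv.ext fun _ => rfl
  map_mul' _ _ := MulEquiv.ext fun _ => rfl

/-- The automorphism induced on the quotient by the centre. -/
def quotCenterAut {T : Type*} [Group T] : MulAut T →* MulAut (T ⧸ center T) where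
  toFun φ := QuotientGroup.congr (center T) (center T) φ (Subgroup.characteristic_iff_map_eq.mp inferInstance φ)
  map_one' := MulEquiv.ext fun x => QuotientGroup.induction_on x fun _ => rfl
  map_mul' _ _ := MulEquiv.ext fun x => QuotientGroup.induction_on x fun _ => rfl

theorem centerAut_coe {T : Type*} [Group T] (φ : MulAut T) (z : center T) : (centerAut φ z : T) = φ z := rfl

theorem quotCenterAut_mk {T : Type*} [Group T] (φ : MulAut T) (t : T) :
    quotCenterAut φ (QuotientGroup.mk' (center T) t) = QuotientGroup.mk' (center T) (φ t) := rfl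

/-- A finite 2-group with two commuting automorphisms of order `r`. -/
theorem split_aut {r : ℕ} (hr : r.Prime) (hr2 : r ≠ 2) :
    ∀ (n : ℕ) (T : Type u) [Group T] [Finite T], Nat.card T ≤ n → IsPGroup 2 T →
      ∀ h j : MulAut T, h ^ r = 1 → j ^ r = 1 → Commute h j →
        ∀ t : T, ∃ c w : T, h c = c ∧ w ∈ closure (fixSet h j) ∧ t = c * w := by
  intro n
  induction n with
  | zero => intro T _ _ hn; exact absurd hn (Nat.not_le.mpr Nat.card_pos)
  | succ n ih =>
    intro T _ _ hn hT h j hh hj hc t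
    haveI : Fact r.Prime := ⟨hr⟩
    haveI : Fact (Nat.Prime 2) := ⟨Nat.prime_two⟩
    rcases subsingleton_or_nontrivial T with hsub | hnt
    · exact ⟨1, 1, map_one h, one_mem _, Subsingleton.elim _ _⟩
    haveI := hT.center_nontrivial
    set π := QuotientGroup.mk' (center T) with hπ
    have hlt : Nat.card (T ⧸ center T) < Nat.card T := by
      rw [card_eq_card_quotient_mul_card_subgroup (center T)]
      exact lt_mul_of_one_lt_right Nat.card_pos Finite.one_lt_card
    obtain ⟨c', w', hc', hw', hct⟩ := ih (T ⧸ center T) (by omega) (hT.to_quotient _)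
      (quotCenterAut h) (quotCenterAut j) (by rw [← map_pow, hh, map_one]) (by rw [← map_pow, hj, map_one])
      (hc.map quotCenterAut) (π t)
    have lift : ∀ φ : MulAut T, φ ^ r = 1 → ∀ x : T ⧸ center T, quotCenterAut φ x = x →
        ∃ y : T, φ y = y ∧ π y = x := by
      intro φ hφ x hx
      obtain ⟨y, rfl⟩ := QuotientGroup.mk'_surjective _ x
      rw [quotCenterAut_mk, QuotientGroup.mk'_apply, QuotientGroup.mk'_apply] at hx
      obtain ⟨m, hm, hfix⟩ := exists_fixed_mul hr hr2 hφ (N := center T) (hT.to_subgroup _)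
        (fun m hm => (centerAut φ ⟨m, hm⟩).2) (QuotientGroup.eq.mp hx.symm)
      refine ⟨y * m, hfix, ?_⟩
      rw [map_mul, show π m = 1 from (QuotientGroup.eq_one_iff m).mpr hm, mul_one]
    obtain ⟨c, hc1, hc2⟩ := lift h hh c' hc'
    obtain ⟨w, hw1, hw2⟩ : ∃ w ∈ closure (fixSet h j), π w = w' := by
      have hle : closure (fixSet (quotCenterAut h) (quotCenterAut j)) ≤ (closure (fixSet h j)).map π := by
        rw [closure_le]
        rintro x ⟨i, hi⟩
        obtain ⟨y, hy1, hy2⟩ := lift (h ^ i * j)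
          (by rw [(hc.pow_left i).mul_pow, ← pow_mul, mul_comm i, pow_mul, hh, one_pow, one_mul, hj]) x
          (by rw [map_mul, map_pow]; exact hi)
        exact ⟨y, subset_closure ⟨i, hy1⟩, hy2⟩
      exact hle hw'
    set z := (c * w)⁻¹ * t with hz
    have hzc : z ∈ center T := (QuotientGroup.eq_one_iff z).mp (show π z = 1 by
      rw [hz, map_mul, map_inv, map_mul, hc2, hw2, ← hct, inv_mul_cancel])
    letI : CommGroup (center T) :=
      { (inferInstance : Group (center T)) with
        mul_comm := fun a b => Subtype.ext (mem_center_iff.mp b.2 a) }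
    obtain ⟨cz, wz, hcz, hwz, hzeq⟩ := abelian_split (A := center T) (hT.to_subgroup _) hr2
      (h := centerAut h) (j := centerAut j) (by rw [← map_pow, hh, map_one]) (by rw [← map_pow, hj, map_one])
      (hc.map centerAut) ⟨z, hzc⟩
    have hwz' : (wz : T) ∈ closure (fixSet h j) := by
      have hle : (closure (fixSet (centerAut h) (centerAut j))).map (center T).subtype ≤ closure (fixSet h j) := by
        rw [MonoidHom.map_closure]
        refine closure_mono ?_
        rintro _ ⟨x, ⟨i, hi⟩, rfl⟩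
        refine ⟨i, ?_⟩
        rw [← map_pow, ← map_mul] at hi
        exact congrArg Subtype.val hi
      exact hle (mem_map_of_mem _ hwz)
    refine ⟨c * cz, w * wz, by rw [map_mul, hc1, ← centerAut_coe, hcz], mul_mem hw1 hwz', ?_⟩
    have hzv : z = (cz : T) * wz := congrArg Subtype.val hzeq
    calc t = c * w * z := by rw [hz, mul_inv_cancel_left]
      _ = c * w * ((cz : T) * wz) := by rw [hzv]
      _ = c * cz * (w * wz) := by rw [mul_assoc, ← mul_assoc w, mem_center_iff.mp cz.2 w]; group

/-- The same for a 2-subgroup normalised by two commuting elements of order `r`. -/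
theorem exists_split {G : Type u} [Group G] [Finite G] {T : Subgroup G} (hT : IsPGroup 2 T) {h j : G} {r : ℕ}
    (hr : r.Prime) (hr2 : r ≠ 2) (hh : h ^ r = 1) (hj : j ^ r = 1) (hc : Commute h j)
    (hhT : h ∈ normalizer (T : Set G)) (hjT : j ∈ normalizer (T : Set G)) {St : Subgroup G}
    (hfix : ∀ i : ℕ, ∀ t ∈ T, Commute t (h ^ i * j) → t ∈ St) {t : G} (ht : t ∈ T) :
    ∃ c ∈ T, Commute c h ∧ ∃ s ∈ St, t = c * s := by
  set η := T.normalizerMonoidHom
  have hval : ∀ (g : normalizer (T : Set G)) (x : T), ((η g x : T) : G) = (g : G) * x * (g : G)⁻¹ := fun _ _ => rfl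
  obtain ⟨c, w, hc1, hw, htcw⟩ := split_aut hr hr2 _ T le_rfl hT (η ⟨h, hhT⟩) (η ⟨j, hjT⟩)
    (by rw [← map_pow, show (⟨h, hhT⟩ : normalizer (T : Set G)) ^ r = 1 from Subtype.ext hh, map_one])
    (by rw [← map_pow, show (⟨j, hjT⟩ : normalizer (T : Set G)) ^ r = 1 from Subtype.ext hj, map_one])
    ((show Commute (⟨h, hhT⟩ : normalizer (T : Set G)) ⟨j, hjT⟩ from Subtype.ext hc).map η) ⟨t, ht⟩
  have hw' : (w : G) ∈ St := by
    have hle : closure (fixSet (η ⟨h, hhT⟩) (η ⟨j, hjT⟩)) ≤ St.subgroupOf T := by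
      rw [closure_le]
      rintro x ⟨i, hi⟩
      refine hfix i x x.2 (mul_inv_eq_iff_eq_mul.mp ?_).symm
      rw [← map_pow, ← map_mul] at hi
      exact congrArg Subtype.val hi
    exact hle hw
  exact ⟨c, c.2, (mul_inv_eq_iff_eq_mul.mp (congrArg Subtype.val hc1)).symm, w, hw', congrArg Subtype.val htcw⟩

end Cfsg.Agent.H76.OddT
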