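import Cfsg.Agent.H76.OddT.Torus
import Cfsg.Agent.H76.OddT.Split

/-!
A twist fixes the value of every member commuting with a common neighbour.
-/

set_option autoImplicit false
set_option linter.style.haveILetI false

namespace Cfsg.Agent.H76.OddT

open Subgroup

universe u

variable {G : Type u} [Group G] {S : Set G}

theorem cent_comm (a b : G) : Cent (Cent S a) b = Cent (Cent S b) a :=
  Set.ext fun _ => ⟨fun h => ⟨⟨h.1.1, h.2⟩, h.1.2⟩, fun h => ⟨⟨h.1.1, h.2⟩, h.1.2⟩⟩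

variable (hS : Mem S)
include hS

theorem Mem.exists_conj_of_reach {u v : G} (h : Reach S u v) : ∃ g ∈ closure S, g * u * g⁻¹ = v := by
  induction h with
  | refl => exact ⟨1, one_mem _, by simp⟩
  | tail _ hbc ih =>
    obtain ⟨g, hg, rfl⟩ := ih
    obtain ⟨f, hf, -, hfa⟩ := hS.exists_mid hbc.1 hbc.2.1 hbc.2.2
    refine ⟨f * g, mul_mem (subset_closure hf) hg, ?_⟩
    rw [← hfa, mul_inv_rev, hS.inv_eq hf]
    group

variable [Finite G]

theorem Mem.ncard_cent_reach {u v : G} (h : Reach S u v) : (Cent S v).ncard = (Cent S u).ncard := by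
  obtain ⟨g, hg, rfl⟩ := hS.exists_conj_of_reach h
  exact hS.ncard_cent_conj (fun t ht => hS.conj_mem_closure hg ht) u

theorem Mem.cls_image {g : G} (hg : g ∈ closure S) (a : G) :
    (fun t => g * t * g⁻¹) '' cls S a = cls S (g * a * g⁻¹) := by
  refine Set.Subset.antisymm (Set.image_subset_iff.mpr fun e he => hS.cls_conj hg he) fun e he => ?_
  refine ⟨g⁻¹ * e * g, ?_, by simp [mul_assoc]⟩
  have h := hS.cls_conj (inv_mem hg) he
  simpa [mul_assoc] using h

theorem Mem.ncard_cls_reach {u v : G} (h : Reach S u v) : (cls S v).ncard = (cls S u).ncard := by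
  obtain ⟨g, hg, rfl⟩ := hS.exists_conj_of_reach h
  rw [← hS.cls_image hg]
  exact Set.ncard_image_of_injective _ fun p q e => by simpa using e

/-- Equality of commuting sets from an inclusion. -/
theorem Mem.cent_eq_of_subset {b w : G} (hw : w ∈ S) (hwn : ∃ n ∈ S, ¬ Commute w n) (hb : b ∈ S)
    (hsub : ∀ y ∈ S, Commute y b → Commute y w) : Cent S b = Cent S w := by
  have hss : Cent S b ⊆ Cent S w := fun y hy => ⟨hy.1, hsub y hy.1 hy.2⟩
  by_cases hr : Reach S b w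
  · exact Set.eq_of_subset_of_ncard_le hss (hS.ncard_cent_reach hr).le (Set.toFinite _)
  · obtain ⟨n, hn, hwn⟩ := hwn
    exfalso
    refine hwn (hsub n hn (commute_of_not_reach hb hn fun h => hr ?_).symm).symm
    exact reach_trans h (reach_of_not_commute hn hw fun e => hwn e.symm)

theorem Mem.cent_conj_congr {g : G} (hg : g ∈ closure S) {u v : G} (h : Cent S u = Cent S v) :
    Cent S (g * u * g⁻¹) = Cent S (g * v * g⁻¹) := by
  rw [hS.conj_cent_eq (fun t ht => hS.conj_mem_closure hg ht),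
    hS.conj_cent_eq (fun t ht => hS.conj_mem_closure hg ht), h]

theorem Mem.stab_cent {g u : G} (hg : g ∈ closure S) (h : Cent S (g * u * g⁻¹) = Cent S u) {t : G}
    (ht : t ∈ Cent S u) : g * t * g⁻¹ ∈ Cent S u := by
  rw [← h, hS.conj_cent_eq fun t ht => hS.conj_mem_closure hg ht]
  exact ⟨t, ht, rfl⟩

omit hS in
theorem mem_normalizer_core {g : G} (hg : ∀ t ∈ S, g * t * g⁻¹ ∈ S) :
    g ∈ normalizer (core S : Set G) := by
  rw [mem_normalizer_iff]
  intro n
  refine ⟨fun hn => core_conj_mem hg (fun t ht => mem_of_conj_closed hg ht) hn, fun hn => ?_⟩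
  have hg' : ∀ t ∈ S, g⁻¹ * t * g⁻¹⁻¹ ∈ S := fun t ht => by rw [inv_inv]; exact mem_of_conj_closed hg ht
  have h := core_conj_mem hg' (fun t ht => by rw [inv_inv]; exact hg t ht) hn
  simpa [mul_assoc] using h

omit hS

theorem Wit.le_of_ncard (hS : Mem S) {a x b : G} (w : Wit S a x b) (hconn : Conn S) :
    ∃ n ∈ Cent S a, ¬ Commute b n := by
  by_contra h
  push Not at h
  have hsub : Cent S a ⊆ Cent S b := fun y hy => ⟨hy.1, (h y hy).symm⟩
  have heq := Set.eq_of_subset_of_ncard_le hsub (hS.ncard_cent_reach (hconn a w.ha b w.hb)).le (Set.toFinite _)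
  exact w.hax ((heq ▸ (⟨w.hx, w.hbx.symm⟩ : x ∈ Cent S b)) : x ∈ Cent S a).2.symm

theorem Wit.cent_lt (hS : Mem S) {a x b : G} (w : Wit S a x b) (hconn : Conn S) :
    (Cent S b).ncard < S.ncard := by
  obtain ⟨n, hn, hnb⟩ := hS.exists_not_commute w.ha hconn w.hb fun h => w.hax (h ▸ w.hbx)
  exact hS.ncard_cent_lt hn hnb

namespace Twist

variable {r : ℕ} {a x h f : G}

omit [Finite G] in
theorem mem_closure (tw : Twist S r a x h f) (hx : x ∈ S) : h ∈ closure S := gen_le hx tw.mem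

omit [Finite G] in
theorem comm (tw : Twist S r a x h f) {p : G} (hp : p ∈ S) (hpa : Commute p a) (hpx : Commute p x) :
    Commute h p := commute_gen hp hpa hpx tw.mem

omit [Finite G] in
theorem pow_eq (tw : Twist S r a x h f) : h ^ r = 1 := tw.order ▸ pow_orderOf_eq_one h

omit [Finite G] in
theorem sq_ne (tw : Twist S r a x h f) (hr : r.Prime) (hr2 : r ≠ 2) : h * h ≠ 1 := fun e => by
  have h1 : r ∣ 2 := tw.order ▸ orderOf_dvd_of_pow_eq_one (by rw [pow_two, e])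
  exact hr2 ((Nat.prime_dvd_prime_iff_eq hr Nat.prime_two).mp h1)

theorem stab (tw : Twist S r a x h f) (hS : Mem S) (ha : a ∈ S) (hx : x ∈ S) {t : G} (ht : t ∈ Cent S a) :
    h * t * h⁻¹ ∈ Cent S a :=
  hS.stab_cent (tw.mem_closure hx) (tw.cls_mem a (self_mem_cls ha)).2 ht

/-- A member commuting with `a` centralised by the twist is a common neighbour. -/
theorem wit (tw : Twist S r a x h f) (hS : Mem S) (hr : r.Prime) (hr2 : r ≠ 2) (ha : a ∈ S) (hx : x ∈ S)
    (hax : ¬ Commute a x) {p : G} (hp : p ∈ S) (hpa : Commute p a) (hc : Commute h p) : Wit S a x p := by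
  refine ⟨ha, hx, hp, hax, hpa, ?_⟩
  have hpf := hS.inverter_commute (tw.sq_ne hr hr2) tw.mem_f tw.inv hp hc
  rw [← tw.mid]
  exact (hpf.mul_right hpa).mul_right hpf

end Twist

variable (hGood : H3.RootInv.GoodHyp.{u}) (hBend : PostBender.BenderHyp.{u})

omit [Finite G] in
/-- Two congruent common neighbours, and a third noncommuting with the first. -/
theorem Wit.pair [Finite G] (hS : Mem S) (hconn : Conn S) (hB : Below S) {a x b : G} (wb : Wit S a x b) {w : G}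
    (hw : w ∈ Cent (Cent S a) b) {n : G} (hn : n ∈ Cent (Cent S a) b) (hwn : ¬ Commute w n) :
    ∃ p, Wit S a x p ∧ Commute p b ∧ Cong (Cent (Cent S a) b) w p ∧
      ∃ z, Wit S a x z ∧ Commute z p ∧ ¬ Commute z b := by
  set T := Cent S a
  set U := Cent T b
  have hT : Mem T := hS.cent wb.ha
  have hbT : b ∈ T := ⟨wb.hb, wb.hba⟩
  have hU : Mem U := hT.cent hbT
  obtain ⟨p, hpS, hpa, hpx, hpc⟩ := (hB _ (hS.cent wb.hb) (wb.cent_lt hS hconn)).1 a ⟨wb.ha, wb.hba.symm⟩ x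
    ⟨wb.hx, wb.hbx.symm⟩ wb.hax w (cent_comm (S := S) a b ▸ hw) ⟨n, cent_comm (S := S) a b ▸ hn, hwn⟩
  rw [← cent_comm] at hpc
  have hpU : p ∈ U := ⟨⟨hpS.1, hpa⟩, hpS.2⟩
  have hnp : ¬ Commute n p := fun h => hwn ((hU.cong_commute_iff hw hpU hn hpc).mpr h).symm
  refine ⟨p, ⟨wb.ha, wb.hx, hpS.1, wb.hax, hpa, hpx⟩, hpS.2, hpc, ?_⟩
  obtain ⟨y, hyT, hyp, hyb⟩ : ∃ y ∈ T, Commute y p ∧ ¬ Commute y b := by
    by_contra hno
    push Not at hno
    have heq := hT.cent_eq_of_subset hbT (wb.le_of_ncard hS hconn) hpU.1 hno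
    exact hnp ((heq.symm ▸ hn) : n ∈ Cent T p).2
  have wp : Wit S a x p := ⟨wb.ha, wb.hx, hpS.1, wb.hax, hpa, hpx⟩
  obtain ⟨z, hzS, hza, hzx, hzc⟩ := (hB _ (hS.cent hpS.1) (wp.cent_lt hS hconn)).1 a ⟨wb.ha, hpa.symm⟩ x
    ⟨wb.hx, hpx.symm⟩ wb.hax y (cent_comm (S := S) a p ▸ (⟨hyT, hyp⟩ : y ∈ Cent T p))
    ⟨b, cent_comm (S := S) a p ▸ (⟨hbT, hpS.2.symm⟩ : b ∈ Cent T p), hyb⟩
  rw [← cent_comm] at hzc
  refine ⟨z, ⟨wb.ha, wb.hx, hzS.1, wb.hax, hza, hzx⟩, hzS.2, fun h => hyb ?_⟩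
  exact (((hT.cent hpU.1).cong_commute_iff ⟨hyT, hyp⟩ ⟨⟨hzS.1, hza⟩, hzS.2⟩ ⟨hbT, hpS.2.symm⟩ hzc).mpr h.symm).symm

include hGood hBend

/-- A twist fixes a member with the value of any member commuting with a common neighbour. -/
theorem Twist.val {r : ℕ} {a x h f : G} (tw : Twist S r a x h f) (hS : Mem S) (hconn : Conn S) (hB : Below S)
    (hr : r.Prime) (hr2 : r ≠ 2) (hrd : r ∣ (cls S a).ncard) {b : G} (wb : Wit S a x b) {w : G}
    (hw : w ∈ Cent S a) (hwb : Commute w b) (hwn : ∃ n ∈ Cent S a, ¬ Commute w n) :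
    ∃ p ∈ Cent S a, Commute h p ∧ Cent (Cent S a) p = Cent (Cent S a) w := by
  set T := Cent S a
  set U := Cent T b
  have hT : Mem T := hS.cent wb.ha
  have hbT : b ∈ T := ⟨wb.hb, wb.hba⟩
  have hU : Mem U := hT.cent hbT
  have hwU : w ∈ U := ⟨hw, hwb⟩
  have hhb : Commute h b := tw.comm wb.hb wb.hba wb.hbx
  by_cases hiso : ∀ n ∈ U, Commute w n
  · exact ⟨b, hbT, hhb, hT.cent_eq_of_subset hw hwn hbT fun y hy hyb => (hiso y ⟨hy, hyb⟩).symm⟩
  push Not at hiso
  obtain ⟨n, hn, hwn'⟩ := hiso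
  obtain ⟨p, wp, hpb, hpc, z, wz, hzp, hzb⟩ := wb.pair hS hconn hB hwU hn hwn'
  have hpU : p ∈ U := ⟨⟨wp.hb, wp.hba⟩, hpb⟩
  have hzT : z ∈ T := ⟨wz.hb, wz.hba⟩
  have hhS : h ∈ closure S := tw.mem_closure wb.hx
  have hhp : Commute h p := tw.comm wp.hb wp.hba wp.hbx
  have hhz : Commute h z := tw.comm wz.hb wz.hba wz.hbx
  -- the second twist
  have wbz : Wit S b z a := ⟨wb.hb, wz.hb, wb.ha, fun e => hzb e.symm, wb.hba.symm, wz.hba.symm⟩
  obtain ⟨j, fj, tj⟩ := (wbz.torus hGood hBend hS hconn hB).2 r hr hr2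
    (hS.ncard_cls_reach (hconn a wb.ha b wb.hb) ▸ hrd)
  have hjS : j ∈ closure S := tj.mem_closure wz.hb
  have hja : Commute j a := tj.comm wb.ha wb.hba.symm wz.hba.symm
  have hjp : Commute j p := tj.comm wp.hb hpb hzp.symm
  have hhj : Commute h j := by
    have hle : gen S b z ≤ centralizer {h} := (closure_le _).mpr (by
      rintro y (hy | rfl)
      · exact mem_centralizer_singleton_iff.mpr (tw.comm hy.1 (commute_of_cls hy wb.ha wb.hba.symm).symm
          (commute_of_cls hy wb.hx wb.hbx.symm).symm).eq.symm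
      · exact mem_centralizer_singleton_iff.mpr hhz.eq.symm)
    exact (mem_centralizer_singleton_iff.mp (hle tj.mem)).symm
  have hfix_of_comm : ∀ {g u : G}, Commute g u → g * u * g⁻¹ = u := fun {g u} e => by
    rw [e.eq, mul_inv_cancel_right]
  have hmapT : ∀ g ∈ closure S, Cent S (g * a * g⁻¹) = Cent S a → ∀ t ∈ T, g * t * g⁻¹ ∈ T :=
    fun g hg e t ht => hS.stab_cent hg e ht
  have hjT : ∀ t ∈ T, j * t * j⁻¹ ∈ T := hmapT j hjS (by rw [hfix_of_comm hja])
  have hhT : ∀ t ∈ T, h * t * h⁻¹ ∈ T := fun t ht => tw.stab hS wb.ha wb.hx ht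
  have hmapU : ∀ g ∈ closure S, (∀ t ∈ T, g * t * g⁻¹ ∈ T) → Cent S (g * b * g⁻¹) = Cent S b →
      ∀ t ∈ U, g * t * g⁻¹ ∈ U := fun g hg hgT e t ht =>
    ⟨hgT t ht.1, (hS.stab_cent hg e (show t ∈ Cent S b from ⟨ht.1.1, ht.2⟩)).2⟩
  have hhU := hmapU h hhS hhT (by rw [hfix_of_comm hhb])
  have hjU := hmapU j hjS hjT (tj.cls_mem b (self_mem_cls wb.hb)).2
  have hUT : closure U ≤ closure T := closure_mono fun _ hy => hy.1
  -- the stabiliser of the value of `p`
  let St : Subgroup G :=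
    { carrier := {t | t ∈ closure T ∧ Cent T (t * p * t⁻¹) = Cent T p}
      one_mem' := ⟨one_mem _, by simp⟩
      mul_mem' := fun {s t} hs ht => ⟨mul_mem hs.1 ht.1, by
        rw [show s * t * p * (s * t)⁻¹ = s * (t * p * t⁻¹) * s⁻¹ by group, hT.cent_conj_congr hs.1 ht.2, hs.2]⟩
      inv_mem' := fun {t} ht => ⟨inv_mem ht.1, by
        have h1 := hT.cent_conj_congr (inv_mem ht.1) ht.2
        rw [show t⁻¹ * (t * p * t⁻¹) * t⁻¹⁻¹ = p by group] at h1
        exact h1.symm⟩ }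
  have hfix : ∀ i : ℕ, ∀ t ∈ core U, Commute t (h ^ i * j) → t ∈ St := by
    intro i t ht htc
    refine ⟨hUT (core_le ht), ?_⟩
    set m := t * p * t⁻¹
    have hmU : m ∈ U := hU.conj_mem_closure (core_le ht) hpU
    have hpm : Cong U p m := by
      show p * m ∈ core U
      have h1 := core_normalized (subset_closure hpU) ht
      rw [hU.inv_eq hpU] at h1
      rw [show p * m = p * t * p * t⁻¹ by simp only [m]; group]
      exact mul_mem h1 (inv_mem ht)
    have hmp : Commute m p := (hU.cong_commute hpU hmU hpm).symm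
    set W := Cent T p
    have hW : Mem W := hT.cent hpU.1
    have hmW : m ∈ W := ⟨hmU.1, hmp⟩
    have hbW : b ∈ W := ⟨hbT, hpb.symm⟩
    have hzW : z ∈ W := ⟨hzT, hzp⟩
    refine (Set.eq_of_subset_of_ncard_le (fun y (hy : y ∈ W) => (⟨hy.1, ?_⟩ : y ∈ Cent T m))
      (hT.ncard_cent_conj (fun u hu => hT.conj_mem_closure (hUT (core_le ht)) hu) p).le (Set.toFinite _)).symm
    by_contra hym
    have hhW : ∀ u ∈ W, h * u * h⁻¹ ∈ W := fun u hu => ⟨hhT u hu.1,
      hfix_of_comm hhp ▸ (Commute.conj_iff h).mpr hu.2⟩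
    have hjW : ∀ u ∈ W, j * u * j⁻¹ ∈ W := fun u hu => ⟨hjT u hu.1,
      hfix_of_comm hjp ▸ (Commute.conj_iff j).mpr hu.2⟩
    -- `h` fixes the coset of `m`
    obtain ⟨m', hm'S, hm'a, hm'x, hm'c⟩ := (hB _ (hS.cent wp.hb) (wp.cent_lt hS hconn)).1 a
      ⟨wb.ha, wp.hba.symm⟩ x ⟨wb.hx, wp.hbx.symm⟩ wb.hax m (cent_comm (S := S) a p ▸ hmW)
      ⟨y, cent_comm (S := S) a p ▸ hy, fun e => hym e.symm⟩
    rw [← cent_comm] at hm'c
    have hm'W : m' ∈ W := ⟨⟨hm'S.1, hm'a⟩, hm'S.2⟩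
    have hhm : Cong W m (h * m * h⁻¹) := by
      have h1 := hW.cong_conj hhW (fun u hu => mem_of_conj_closed hhW hu) hm'c
      rw [hfix_of_comm (tw.comm hm'S.1 hm'a hm'x)] at h1
      exact hW.cong_trans hm'W hm'c (hW.cong_symm (hhW m hmW) hm'W h1)
    have hjm : Cong W m (j * m * j⁻¹) := by
      have hcomm : Commute m (h ^ i * j) := by
        have hp' : Commute p (h ^ i * j) := (hhp.symm.pow_right i).mul_right hjp.symm
        exact (htc.mul_left hp').mul_left htc.inv_left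
      have hjm' : j * m * j⁻¹ = (h ^ i)⁻¹ * m * (h ^ i) := by
        have h1 := hfix_of_comm hcomm.symm
        rw [show h ^ i * j * m * (h ^ i * j)⁻¹ = h ^ i * (j * m * j⁻¹) * (h ^ i)⁻¹ by group] at h1
        conv_rhs => rw [← h1]
        group
      -- every power of `h` fixes the coset
      have hpow : ∀ k : ℕ, Cong W m (h ^ k * m * (h ^ k)⁻¹) := by
        intro k
        induction k with
        | zero => simpa using hW.cong_self hmW
        | succ k ih =>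
          have hk : h ^ k * m * (h ^ k)⁻¹ ∈ W :=
            (pow_mem (show h ∈ stabSet W from hhW) k : h ^ k ∈ stabSet W) m hmW
          rw [pow_succ', show h * h ^ k * m * (h * h ^ k)⁻¹ = h * (h ^ k * m * (h ^ k)⁻¹) * h⁻¹ by group]
          exact hW.cong_trans (hhW m hmW) hhm
            (hW.cong_conj hhW (fun u hu => mem_of_conj_closed hhW hu) ih)
      have hhk : ∀ u ∈ W, (h ^ i)⁻¹ * u * (h ^ i)⁻¹⁻¹ ∈ W :=
        fun u hu => (inv_mem (pow_mem (show h ∈ stabSet W from hhW) i) : (h ^ i)⁻¹ ∈ stabSet W) u hu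
      have h2 := hW.cong_conj hhk (fun u hu => mem_of_conj_closed hhk hu) (hpow i)
      rw [show (h ^ i)⁻¹ * (h ^ i * m * (h ^ i)⁻¹) * (h ^ i)⁻¹⁻¹ = m by group, inv_inv, ← hjm'] at h2
      exact hW.cong_symm (hjW m hmW) hmW h2
    obtain ⟨m'', hm''W, hm''c, hjm''⟩ := hW.exists_fixed_cong hr hr2 tj.pow_eq hjW hmW hy
      (fun e => hym e.symm) hjm
    have hmb : Commute b m := hmU.2.symm
    have hm''b : Commute m'' b := ((hW.cong_commute_iff hmW hm''W hbW hm''c).mp hmb).symm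
    have hm''f : Commute m'' fj := hS.inverter_commute (tj.sq_ne hr hr2) tj.mem_f tj.inv hm''W.1.1 hjm''
    have hm''z : Commute m'' z := by
      rw [← tj.mid]
      exact (hm''f.mul_right hm''b).mul_right hm''f
    have hmz : Commute z m := (hW.cong_commute_iff hmW hm''W hzW hm''c).mpr hm''z.symm
    -- but `m` has no more neighbours than `b`
    have heq : Cent W b = Cent W m := hW.cent_eq_of_subset hmW ⟨y, hy, fun e => hym e.symm⟩ hbW
      fun u hu hub => ((hU.cong_commute_iff hpU hmU (show u ∈ U from ⟨hu.1, hub⟩) hpm).mp hu.2)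
    exact hzb ((heq.symm ▸ (⟨hzW, hmz⟩ : z ∈ Cent W m)) : z ∈ Cent W b).2
  obtain ⟨q, hq, hqw⟩ := hU.cong_conj_exists hpU hwU hn
    (fun e => hwn' ((hU.cong_commute_iff hwU hpU hn hpc).mpr e.symm).symm) (hU.cong_symm hwU hpU hpc)
  obtain ⟨c, hc, hch, s, hs, rfl⟩ := exists_split (core_isPGroup (S := U)) hr hr2 tw.pow_eq tj.pow_eq hhj
    (mem_normalizer_core hhU) (mem_normalizer_core hjU) hfix hq
  refine ⟨c * p * c⁻¹, (hU.conj_mem_closure (core_le hc) hpU).1,
    (hch.symm.mul_right hhp).mul_right hch.symm.inv_right, ?_⟩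
  rw [← hqw, show c * s * p * (c * s)⁻¹ = c * (s * p * s⁻¹) * c⁻¹ by group]
  exact (hT.cent_conj_congr (hUT (core_le hc)) hs.2).symm

end Cfsg.Agent.H76.OddT
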