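import Cfsg.Agent.H76.OddT.Sets

/-!
For noncommuting members `a`, `x` with a common neighbour: the orbit of the class of `a` under the group
generated by it and `x`, and the elements of odd prime order stabilising the class, inverted by a member.
-/

set_option autoImplicit false
set_option linter.style.haveILetI false

namespace Cfsg.Agent.H76.OddT

open Subgroup MulAction

universe u

variable {G : Type u} [Group G] {S : Set G}

/-- The group generated by a class and a member. -/
def gen (S : Set G) (a x : G) : Subgroup G := closure (cls S a ∪ {x})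

/-- The orbit of a class. -/
def orb (S : Set G) (a x : G) : Set G := {s | ∃ g ∈ gen S a x, ∃ y ∈ cls S a, s = g * y * g⁻¹}

/-- A member commuting with two others. -/
structure Wit (S : Set G) (a x b : G) : Prop where
  ha : a ∈ S
  hx : x ∈ S
  hb : b ∈ S
  hax : ¬ Commute a x
  hba : Commute b a
  hbx : Commute b x

theorem Wit.symm {a x b : G} (w : Wit S a x b) : Wit S x a b :=
  ⟨w.hx, w.ha, w.hb, fun h => w.hax h.symm, w.hbx, w.hba⟩

theorem gen_le {a x : G} (hx : x ∈ S) : gen S a x ≤ closure S :=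
  closure_mono (Set.union_subset (fun _ hy => hy.1) (Set.singleton_subset_iff.mpr hx))

theorem commute_gen {a x p : G} (hp : p ∈ S) (hpa : Commute p a) (hpx : Commute p x) {g : G}
    (hg : g ∈ gen S a x) : Commute g p := by
  induction hg using closure_induction with
  | mem y hy =>
    rcases hy with hy | rfl
    · exact (commute_of_cls hy hp hpa).symm
    · exact hpx.symm
  | one => exact Commute.one_left p
  | mul y z _ _ hy hz => exact hy.mul_left hz
  | inv y _ hy => exact hy.inv_left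

theorem cls_subset_orb {a x : G} : cls S a ⊆ orb S a x :=
  fun y hy => ⟨1, one_mem _, y, hy, by simp⟩

theorem orb_subset_gen {a x : G} : orb S a x ⊆ (gen S a x : Set G) := by
  rintro _ ⟨g, hg, y, hy, rfl⟩
  exact mul_mem (mul_mem hg (subset_closure (Or.inl hy))) (inv_mem hg)

theorem orb_conj {a x g s : G} (hg : g ∈ gen S a x) (hs : s ∈ orb S a x) : g * s * g⁻¹ ∈ orb S a x := by
  obtain ⟨g', hg', y, hy, rfl⟩ := hs
  exact ⟨g * g', mul_mem hg hg', y, hy, by group⟩

/-- An element inverted by a member, of order `r`, stabilising the class of `a`, from the group generated by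
it and `x`; the member exchanges `a` and `x`. -/
structure Twist (S : Set G) (r : ℕ) (a x h f : G) : Prop where
  mem_f : f ∈ S
  f_gen : f ∈ closure ({a, x} : Set G)
  mid : f * a * f = x
  mem : h ∈ gen S a x
  order : orderOf h = r
  inv : f * h * f = h⁻¹
  cls_mem : ∀ e ∈ cls S a, h * e * h⁻¹ ∈ cls S a

variable (hS : Mem S)
include hS

theorem Mem.orb_subset [Finite G] {a x : G} (hx : x ∈ S) : orb S a x ⊆ S := by
  rintro _ ⟨g, hg, y, hy, rfl⟩
  exact hS.conj_mem_closure (gen_le hx hg) hy.1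

theorem Mem.cls_conj [Finite G] {g a : G} (hg : g ∈ closure S) {e : G} (he : e ∈ cls S a) :
    g * e * g⁻¹ ∈ cls S (g * a * g⁻¹) := by
  refine ⟨hS.conj_mem_closure hg he.1, ?_⟩
  rw [hS.conj_cent_eq (fun t ht => hS.conj_mem_closure hg ht),
    hS.conj_cent_eq (fun t ht => hS.conj_mem_closure hg ht), he.2]

theorem Mem.partner_cls {a : G} {e : G} (he : e ∈ cls S a) :
    ∃ e' ∈ cls S a, e' ≠ e ∧ Commute e' e ∧ e' * e ∈ cls S a := by
  obtain ⟨e', he', hne, hc, hm⟩ := hS.partner e he.1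
  refine ⟨e', ⟨he', (hS.cent_partner he' he.1 hc hm).trans he.2⟩, hne, hc, hm, ?_⟩
  refine (hS.cent_partner hm he.1 (hc.mul_left (Commute.refl e)) ?_).trans he.2
  rw [mul_assoc, hS.sq e he.1, mul_one]; exact he'

variable [Finite G] {a x : G} (ha : a ∈ S) (hx : x ∈ S) (hax : ¬ Commute a x)
include ha hx hax

theorem Mem.mem_orb : x ∈ orb S a x := by
  obtain ⟨f, hf, hfg, hfa⟩ := hS.exists_mid ha hx hax
  refine ⟨f, closure_mono ?_ hfg, a, self_mem_cls ha, by rw [hS.inv_eq hf]; exact hfa.symm⟩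
  rintro y (rfl | rfl)
  · exact Or.inl (self_mem_cls ha)
  · exact Or.inr rfl

theorem Mem.closure_orb : closure (orb S a x) = gen S a x := by
  refine le_antisymm ((closure_le _).mpr orb_subset_gen) ((closure_le _).mpr ?_)
  rintro y (hy | rfl)
  · exact subset_closure (cls_subset_orb hy)
  · exact subset_closure (hS.mem_orb ha hx hax)

theorem Mem.orb_mem : Mem (orb S a x) where
  sq s hs := hS.sq s (hS.orb_subset hx hs)
  ne_one s hs := hS.ne_one s (hS.orb_subset hx hs)
  conj s hs t ht := by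
    have h := orb_conj (orb_subset_gen hs) ht
    rwa [hS.inv_eq (hS.orb_subset hx hs)] at h
  odd s hs t ht := hS.odd s (hS.orb_subset hx hs) t (hS.orb_subset hx ht)
  partner := by
    rintro _ ⟨g, hg, y, hy, rfl⟩
    obtain ⟨e, he, hne, hc, hm⟩ := hS.partner_cls hy
    refine ⟨g * e * g⁻¹, orb_conj hg (cls_subset_orb he), fun h => hne (by simpa using h),
      (Commute.conj_iff g).mpr hc, ?_⟩
    rw [show g * e * g⁻¹ * (g * y * g⁻¹) = g * (e * y) * g⁻¹ by group]
    exact orb_conj hg (cls_subset_orb hm)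

theorem Mem.orb_reach {s : G} (hs : s ∈ orb S a x) : Reach (orb S a x) a s := by
  have hxo := hS.mem_orb ha hx hax
  have hC := hS.orb_mem ha hx hax
  have hcls : ∀ y ∈ cls S a, y ∈ OddT.comp (orb S a x) a := fun y hy =>
    ⟨cls_subset_orb hy, reach_trans (reach_of_not_commute (cls_subset_orb (self_mem_cls ha)) hxo hax)
      (reach_of_not_commute hxo (cls_subset_orb hy) fun h =>
        hax ((commute_iff_of_cls hy hx).mp h).symm)⟩
  have hM := hC.comp (cls_subset_orb (self_mem_cls ha)) hxo hax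
  obtain ⟨g, hg, y, hy, rfl⟩ := hs
  have hle : gen S a x ≤ closure (OddT.comp (orb S a x) a) := (closure_le _).mpr (by
    rintro z (hz | rfl)
    · exact subset_closure (hcls z hz)
    · exact subset_closure ⟨hxo, reach_of_not_commute (cls_subset_orb (self_mem_cls ha)) hxo hax⟩)
  exact (hM.conj_mem_closure (hle hg) (hcls y hy)).2

omit ha hax in
theorem Mem.orb_commute {p : G} (hp : p ∈ S) (hpa : Commute p a) (hpx : Commute p x) {s : G}
    (hs : s ∈ orb S a x) : Commute s p :=
  commute_gen hp hpa hpx (orb_subset_gen hs)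

omit [Finite G] hx hax in
theorem Mem.exists_not_commute (hconn : Conn S) {b : G} (hb : b ∈ S) (hab : a ≠ b) :
    ∃ n ∈ S, ¬ Commute n b := by
  rcases (hconn b hb a ha).cases_head with h | ⟨n, hn, -⟩
  · exact absurd h.symm hab
  · exact ⟨n, hn.2.1, fun h => hn.2.2 h.symm⟩

end Cfsg.Agent.H76.OddT

namespace Cfsg.Agent.H76.OddT

open Subgroup MulAction

universe u

variable {G : Type u} [Group G] [Finite G] {S : Set G}

theorem Wit.ncard_orb_lt (hS : Mem S) {a x b : G} (w : Wit S a x b) (hconn : Conn S) :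
    (orb S a x).ncard < S.ncard := by
  obtain ⟨n, hn, hnb⟩ := hS.exists_not_commute w.ha hconn w.hb fun h => w.hax (h ▸ w.hbx)
  exact Set.ncard_lt_ncard ⟨hS.orb_subset w.hx, fun h =>
    hnb (hS.orb_commute w.hx w.hb w.hba w.hbx (h hn))⟩ S.toFinite

theorem Wit.orb_not_linked (hS : Mem S) {a x b : G} (w : Wit S a x b) (hconn : Conn S) (hB : Below S) :
    ¬ Linked (orb S a x) := by
  intro hl
  have hC := hS.orb_mem w.ha w.hx w.hax
  have hxo := hS.mem_orb w.ha w.hx w.hax
  have hao : a ∈ orb S a x := cls_subset_orb (self_mem_cls w.ha)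
  have hcomp : OddT.comp (orb S a x) a = orb S a x := Set.ext fun s =>
    ⟨fun h => h.1, fun h => ⟨h, hS.orb_reach w.ha w.hx w.hax h⟩⟩
  obtain ⟨c, hc, hca, hcx⟩ := (hB _ hC (w.ncard_orb_lt hS hconn)).2 a hao x hxo w.hax (hcomp.symm ▸ hl)
  have hcg : ∀ g ∈ gen S a x, Commute g c := fun g hg => commute_gen (hS.orb_subset w.hx hc.1) hca hcx hg
  obtain ⟨g, hg, y, hy, rfl⟩ := hc.1
  have h1 : Commute x y := by
    have h2 := hcg (g * x * g⁻¹) (mul_mem (mul_mem hg (subset_closure (Or.inr rfl))) (inv_mem hg))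
    exact (Commute.conj_iff g).mp h2
  exact w.hax ((commute_iff_of_cls hy w.hx).mp h1).symm

variable (hGood : H3.RootInv.GoodHyp.{u}) (hBend : PostBender.BenderHyp.{u})
include hGood hBend

/-- The twists: an odd prime divides the size of the class, and each gives one. -/
theorem Wit.torus (hS : Mem S) {a x b : G} (w : Wit S a x b) (hconn : Conn S) (hB : Below S) :
    (∃ r : ℕ, r.Prime ∧ r ≠ 2 ∧ r ∣ (cls S a).ncard) ∧
      ∀ r : ℕ, r.Prime → r ≠ 2 → r ∣ (cls S a).ncard → ∃ h f : G, Twist S r a x h f := by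
  classical
  set C := orb S a x
  have hC : Mem C := hS.orb_mem w.ha w.hx w.hax
  have hsub : C ⊆ S := hS.orb_subset w.hx
  have L := hC.isLine hGood hBend (w.orb_not_linked hS hconn hB)
  have hKeq : closure C = gen S a x := hS.closure_orb w.ha w.hx w.hax
  have hKS : closure C ≤ closure S := hKeq ▸ gen_le w.hx
  have hao : a ∈ C := cls_subset_orb (self_mem_cls w.ha)
  have hxo : x ∈ C := hS.mem_orb w.ha w.hx w.hax
  set π := proj C
  let F : G → LQ C := fun y => if hy : y ∈ C then π (el hy) else 1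
  have hF : ∀ {y : G} (hy : y ∈ C), F y = π (el hy) := fun {y} hy => dif_pos hy
  have hFsq : ∀ y ∈ C, F y * F y = 1 := fun y hy => by
    rw [hF hy, ← map_mul, show el hy * el hy = 1 from Subtype.ext (hC.sq y hy), map_one]
  have hF1 : ∀ y ∈ C, F y ≠ 1 := fun y hy => hF hy ▸ L.ne_one _ hy
  have hFconj : ∀ (g : ↥(closure C)) (y : G), y ∈ C →
      F ((g : G) * y * (g : G)⁻¹) = π g * F y * (π g)⁻¹ := by
    intro g y hy
    rw [hF hy, hF (hC.conj_mem_closure g.2 hy), ← map_inv, ← map_mul, ← map_mul]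
    rfl
  have hFc : ∀ y ∈ C, ∀ z ∈ C, Commute (F y) (F z) → Commute y z := fun y hy z hz h => by
    rw [hF hy, hF hz] at h
    exact congrArg Subtype.val ((L.commute_iff _ hy _ hz).mp h).eq
  have hFc' : ∀ y ∈ C, ∀ z ∈ C, Commute y z → Commute (F y) (F z) := fun y hy z hz h => by
    rw [hF hy, hF hz]
    exact (L.commute_iff _ hy _ hz).mpr (Subtype.ext h.eq)
  obtain ⟨Sa, hSa⟩ := exists_point (hFsq a hao)
  have hainv : F a ∈ invols Sa := ⟨hF1 a hao, hFsq a hao, hSa⟩
  obtain ⟨f, hf, hfg, hfa⟩ := hS.exists_mid w.ha w.hx w.hax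
  have hfK : f ∈ closure C := (closure_le _).mpr (by
    rintro y (rfl | rfl)
    · exact subset_closure hao
    · exact subset_closure hxo) hfg
  set t := π ⟨f, hfK⟩
  have ht : t * t = 1 := by
    rw [← map_mul, show (⟨f, hfK⟩ : closure C) * ⟨f, hfK⟩ = 1 from Subtype.ext (hS.sq f hf), map_one]
  have hfx : t * F a * t⁻¹ = F x := by
    have h := hFconj ⟨f, hfK⟩ a hao
    rw [show ((⟨f, hfK⟩ : closure C) : G) * a * ((⟨f, hfK⟩ : closure C) : G)⁻¹ = x by
      show f * a * f⁻¹ = x
      rw [hS.inv_eq hf, hfa]] at h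
    exact h.symm
  have htS : t • Sa ≠ Sa := fun h => by
    refine w.hax (hFc a hao x hxo ((L.pts.commute_iff hainv (hF1 x hxo) (hFsq x hxo)).mpr ?_))
    rw [← hfx]
    have h' : t⁻¹ • Sa = Sa := inv_smul_eq_iff.mpr h.symm
    rw [mul_smul, mul_smul, h', hSa, h]
  obtain ⟨Tor, -, hTor, -, hfree⟩ := L.pts.torus ht htS
  set V := F '' cls S a
  have hV : ∀ v ∈ V, v ∈ invols Sa := by
    rintro _ ⟨e, he, rfl⟩
    have heC : e ∈ C := cls_subset_orb he
    refine ⟨hF1 e heC, hFsq e heC, ?_⟩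
    exact (L.pts.commute_iff hainv (hF1 e heC) (hFsq e heC)).mp
      (hFc' a hao e heC (commute_of_cls he w.ha (Commute.refl a)))
  have hone : (1 : LQ C) ∈ stabSet V := one_mem _
  let P : Subgroup (LQ C) := Tor ⊓ stabSet V
  -- the elements moving each member of the class to `a`
  have hg : ∀ e ∈ cls S a, ∃ g : G, ∃ hgK : g ∈ closure C, g ∈ stabSet (cls S a) ∧ g * e * g⁻¹ = a ∧
      f * g * f = g⁻¹ ∧ π ⟨g, hgK⟩ ∈ P := by
    intro e he
    have hex : ¬ Commute e x := fun h => w.hax ((commute_iff_of_cls he w.hx).mp h.symm).symm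
    obtain ⟨m, hm, hmg, hme⟩ := hS.exists_mid he.1 w.hx hex
    have hmK : m ∈ closure C := (closure_le _).mpr (by
      rintro y (rfl | rfl)
      · exact subset_closure (cls_subset_orb he)
      · exact subset_closure hxo) hmg
    have hgK : f * m ∈ closure C := mul_mem hfK hmK
    have hge : f * m * e * (f * m)⁻¹ = a := by
      rw [hS.mul_inv hf hm]
      calc f * m * e * (m * f) = f * (m * e * m) * f := by group
        _ = f * (f * a * f) * f := by rw [hme, hfa]
        _ = a := by rw [mul_assoc f a, hS.self_mul hf, mul_assoc, hS.sq f hf, mul_one]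
    have hst : f * m ∈ stabSet (cls S a) := fun y hy => by
      have h := hS.cls_conj (hKS hgK) (show y ∈ cls S e from ⟨hy.1, hy.2.trans he.2.symm⟩)
      rwa [hge] at h
    refine ⟨f * m, hgK, hst, hge, ?_, ?_, ?_⟩
    · rw [hS.mul_inv hf hm, hS.self_mul hf]
    · have hmul : π ⟨f * m, hgK⟩ = t * π ⟨m, hmK⟩ := by rw [← map_mul]; rfl
      have hm2 : π ⟨m, hmK⟩ * π ⟨m, hmK⟩ = 1 := by
        rw [← map_mul, show (⟨m, hmK⟩ : closure C) * ⟨m, hmK⟩ = 1 from Subtype.ext (hS.sq m hm), map_one]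
      rw [hmul]
      refine L.pts.mem_torus ht hm2 ?_ hTor
      -- both send the point of `a` to that of `x`
      have heinv := hV (F e) ⟨e, he, rfl⟩
      have h1 : F x ∈ invols (π ⟨m, hmK⟩ • Sa) := by
        have h := invols_conj heinv (π ⟨m, hmK⟩)
        rw [← hFconj ⟨m, hmK⟩ e (cls_subset_orb he)] at h
        change F (m * e * m⁻¹) ∈ _ at h
        rwa [hS.inv_eq hm, hme] at h
      have h2 : F x ∈ invols (t • Sa) := hfx ▸ invols_conj hainv t
      exact L.pts.point_unique h2 h1.2.2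
    · rintro _ ⟨y, hy, rfl⟩
      exact ⟨_, hst y hy, hFconj ⟨f * m, hgK⟩ y (cls_subset_orb hy)⟩
  have haV : F a ∈ V := ⟨a, self_mem_cls w.ha, rfl⟩
  -- the stabiliser is regular
  have hbij : Function.Bijective (fun c : P => (⟨(c : LQ C) * F a * (c : LQ C)⁻¹, c.2.2 _ haV⟩ : V)) := by
    refine ⟨fun c c' h => Subtype.ext (L.pts.torus_unique hfree hainv c.2.1 c'.2.1 (congrArg Subtype.val h)),
      ?_⟩
    rintro ⟨_, e, he, rfl⟩
    obtain ⟨g, hgK, -, hge, -, hgP⟩ := hg e he
    refine ⟨⟨(π ⟨g, hgK⟩)⁻¹, inv_mem hgP⟩, Subtype.ext ?_⟩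
    show (π ⟨g, hgK⟩)⁻¹ * F a * (π ⟨g, hgK⟩)⁻¹⁻¹ = F e
    rw [← hge, hFconj ⟨g, hgK⟩ e (cls_subset_orb he)]
    group
  have hcardP : Nat.card P = V.ncard := by
    rw [Nat.card_eq_of_bijective _ hbij, Nat.card_coe_set_eq]
  have hPodd : Odd (Nat.card P) := by
    refine (L.pts.disjoint Sa (t • Sa) htS).of_dvd_nat (card_dvd_of_le fun c hc => ?_)
    exact ⟨((hTor c).mp hc.1).1, ((hTor c).mp hc.1).2.1⟩
  obtain ⟨i, hi⟩ : ∃ i : ℕ, (cls S a).ncard = V.ncard * 2 ^ i := by
    refine ncard_fibres F (core_isPGroup (S := C)) (self_mem_cls w.ha) ?_ ?_ ?_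
    · intro e he hFe
      rw [hF (cls_subset_orb he), hF hao] at hFe
      obtain ⟨q, hq, hqe⟩ := hC.cong_conj_exists hao (cls_subset_orb he) hxo w.hax
        (cong_of_proj (L := L) hao (cls_subset_orb he) hFe.symm)
      refine ⟨q, hq, fun y hy => ?_, hqe⟩
      have h := hS.cls_conj (hKS (core_le hq)) hy
      rw [hqe] at h
      exact ⟨h.1, h.2.trans he.2⟩
    · intro q hq _
      rw [show q * a * q⁻¹ = ((⟨q, core_le hq⟩ : closure C) : G) * a * ((⟨q, core_le hq⟩ : closure C) : G)⁻¹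
        from rfl, hFconj _ a hao, show π ⟨q, core_le hq⟩ = 1 from proj_core hq]
      group
    · intro e he
      obtain ⟨g, hgK, hst, hge, -, -⟩ := hg e he
      refine ⟨g, hst, hge, fun e' he' e'' he'' => ?_⟩
      rw [show F (g * e' * g⁻¹) = _ from hFconj ⟨g, hgK⟩ e' (cls_subset_orb he'),
        show F (g * e'' * g⁻¹) = _ from hFconj ⟨g, hgK⟩ e'' (cls_subset_orb he'')]
      exact ⟨fun h => by rw [h], fun h => by simpa using h⟩
  have hdvd : ∀ r : ℕ, r.Prime → r ≠ 2 → r ∣ (cls S a).ncard → r ∣ Nat.card P := fun r hr hr2 h => by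
    rw [hi, ← hcardP] at h
    exact ((Nat.coprime_primes hr Nat.prime_two).mpr hr2 |>.pow_right i).dvd_of_dvd_mul_right h
  refine ⟨?_, fun r hr hr2 hdr => ?_⟩
  · -- the class has two images
    obtain ⟨e, he, hne, hc, hm⟩ := hS.partner_cls (self_mem_cls w.ha)
    have h2 : 1 < V.ncard := by
      refine (Set.one_lt_ncard V.toFinite).mpr ⟨F e, ⟨e, he, rfl⟩, F a, haV, fun h => ?_⟩
      refine hF1 (e * a) (cls_subset_orb hm) ?_
      rw [hF (cls_subset_orb hm), show el (cls_subset_orb hm : e * a ∈ C) = el (cls_subset_orb he) * el hao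
        from Subtype.ext rfl, map_mul, ← hF, ← hF hao, h]
      exact hFsq a hao
    obtain ⟨r, hr, hrd⟩ := Nat.exists_prime_and_dvd (show Nat.card P ≠ 1 by omega)
    refine ⟨r, hr, ?_, by rw [hi, ← hcardP]; exact hrd.mul_right _⟩
    rintro rfl
    exact absurd (even_iff_two_dvd.mpr hrd) (Nat.not_even_iff_odd.mpr hPodd)
  · haveI : Fact r.Prime := ⟨hr⟩
    obtain ⟨p, hp⟩ := exists_prime_orderOf_dvd_card' (G := P) r (hdvd r hr hr2 hdr)
    rw [← Subgroup.orderOf_coe] at hp
    obtain ⟨e, he, hep⟩ : (p : LQ C) * F a * (p : LQ C)⁻¹ ∈ V := p.2.2 _ haV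
    obtain ⟨g, hgK, hst, hge, hinv, hgP⟩ := hg e he
    have hgp : π ⟨g, hgK⟩ = (p : LQ C)⁻¹ := by
      refine L.pts.torus_unique hfree (hV _ ⟨e, he, rfl⟩) hgP.1 (inv_mem p.2.1) ?_
      rw [← hFconj ⟨g, hgK⟩ e (cls_subset_orb he)]
      show F (g * e * g⁻¹) = _
      rw [hge, hep]; group
    have hrdvd : r ∣ orderOf g := by
      rw [← hp, ← orderOf_inv, ← hgp, ← Subgroup.orderOf_mk g hgK]
      exact orderOf_map_dvd π _
    refine ⟨g ^ (orderOf g / r), f,
      { mem_f := hf
        f_gen := hfg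
        mid := hfa
        mem := pow_mem (hKeq ▸ hgK) _
        order := orderOf_pow_orderOf_div (orderOf_pos g).ne' hrdvd
        inv := ?_
        cls_mem := (pow_mem hst _ : g ^ (orderOf g / r) ∈ stabSet (cls S a)) }⟩
    have h := conj_pow (a := f) (b := g) (i := orderOf g / r)
    rw [hS.inv_eq hf, hinv, inv_pow] at h
    exact h.symm

end Cfsg.Agent.H76.OddT
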