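import Cfsg.Agent.H76.OddT.Quad

/-!
The translations next to a member: they act on the classes of its neighbours as an elementary abelian group,
regular on each line.
-/

set_option autoImplicit false
set_option linter.style.haveILetI false

namespace Cfsg.Agent.H76.OddT

open Subgroup MulAction

universe u

variable {G : Type u} [Group G] [Finite G] {S : Set G}

/-- A translation of the lines next to `d` fixing the line of `c`. -/
structure GenAt (S : Set G) (d c a : G) : Prop where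
  line : c ∈ rest S d
  mem : a ∈ closure S
  sq : a * a = 1
  cls_comm : ∀ e ∈ cls S d, Commute a e
  shift : ∀ y ∈ rest S d, Commute (a * y * a⁻¹) y
  axis : ∀ y ∈ rest S d, Commute y c → Commute a y

/-- The group of translations next to `d`. -/
def trl (S : Set G) (d : G) : Subgroup G := closure {a | ∃ c, GenAt S d c a}

/-- Conjugation of sets. -/
def act (u : G) (Y : Set G) : Set G := (fun t => u * t * u⁻¹) '' Y

/-- An element fixing the class of every neighbour. -/
def FixVals (S : Set G) (d u : G) : Prop := ∀ y ∈ rest S d, act u (cls S y) = cls S y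

omit [Finite G] in
theorem act_mul (u v : G) (Y : Set G) : act (u * v) Y = act u (act v Y) := by
  simp only [act, ← Set.image_comp, Function.comp_def]
  refine Set.image_congr fun t _ => ?_
  group

omit [Finite G] in
theorem act_one (Y : Set G) : act (1 : G) Y = Y := by simp [act]

omit [Finite G] in
theorem act_inv_act (u : G) (Y : Set G) : act u⁻¹ (act u Y) = Y := by rw [← act_mul, inv_mul_cancel, act_one]

omit [Finite G] in
theorem act_act_inv (u : G) (Y : Set G) : act u (act u⁻¹ Y) = Y := by rw [← act_mul, mul_inv_cancel, act_one]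

theorem act_cls (hS : Mem S) {u : G} (hu : u ∈ closure S) (y : G) : act u (cls S y) = cls S (u * y * u⁻¹) :=
  hS.cls_image hu y

omit [Finite G] in
theorem mem_of_act_eq {u y z : G} (hy : y ∈ S) (h : act u (cls S y) = cls S z) : u * y * u⁻¹ ∈ cls S z :=
  h ▸ ⟨y, self_mem_cls hy, rfl⟩

namespace Net

variable (N : Net S)
include N

theorem trl_le {d : G} : trl S d ≤ closure S := by
  rw [trl, closure_le]
  rintro a ⟨c, h⟩
  exact h.mem

theorem fix_d {d u : G} (hd : d ∈ S) (hu : ∀ e ∈ cls S d, Commute u e) : u * d * u⁻¹ = d := by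
  rw [(hu d (self_mem_cls hd)).eq, mul_inv_cancel_right]

theorem rest_map {d u : G} (hu : u ∈ closure S) (hd : u * d * u⁻¹ = d) {y : G} (hy : y ∈ rest S d) :
    u * y * u⁻¹ ∈ rest S d := by
  have h := rest_conj N.big.mem hu d
  rw [hd] at h
  rw [h]
  exact ⟨y, hy, rfl⟩

variable (hGood : H3.RootInv.GoodHyp.{u}) (hBend : PostBender.BenderHyp.{u})
include hGood hBend

/-- The elements of the group of translations fix `d` and every line. -/
theorem trl_spec {d : G} (hd : d ∈ S) {u : G} (hu : u ∈ trl S d) :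
    u * d * u⁻¹ = d ∧ (∀ e ∈ cls S d, Commute u e) ∧ ∀ y ∈ rest S d, Commute (u * y * u⁻¹) y := by
  suffices h : (∀ e ∈ cls S d, Commute u e) ∧ ∀ y ∈ rest S d, Commute (u * y * u⁻¹) y from
    ⟨N.fix_d hd h.1, h⟩
  rw [trl] at hu
  induction hu using closure_induction with
  | mem a ha => obtain ⟨c, h⟩ := ha; exact ⟨h.cls_comm, h.shift⟩
  | one => exact ⟨fun e _ => Commute.one_left e, fun y _ => by simp⟩
  | mul p q hp hq ihp ihq =>
    refine ⟨fun e he => (ihp.1 e he).mul_left (ihq.1 e he), fun y hy => ?_⟩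
    have hq1 := N.rest_map (N.trl_le hq) (N.fix_d hd ihq.1) hy
    have hp1 := N.rest_map (N.trl_le hp) (N.fix_d hd ihp.1) hq1
    rw [show p * q * y * (p * q)⁻¹ = p * (q * y * q⁻¹) * p⁻¹ by group]
    exact N.trans_rest hGood hBend hd hp1 hq1 hy (ihp.2 _ hq1) (ihq.2 y hy)
  | inv p hp ihp =>
    refine ⟨fun e he => (ihp.1 e he).inv_left, fun y hy => ?_⟩
    have hp1 := N.rest_map (inv_mem (N.trl_le hp)) (N.fix_d hd fun e he => (ihp.1 e he).inv_left) hy
    have h1 := (ihp.2 _ hp1).symm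
    rw [show p * (p⁻¹ * y * p⁻¹⁻¹) * p⁻¹ = y by group] at h1
    exact h1

/-- An element fixing two lines fixes every class. -/
theorem fix_of_two {d : G} (hd : d ∈ S) {u : G} (hu : u ∈ trl S d) {c c' : G} (hc : c ∈ rest S d)
    (hc' : c' ∈ rest S d) (hcc : ¬ Commute c c')
    (h : ∀ y ∈ rest S d, (Commute y c ∨ Commute y c') → act u (cls S y) = cls S y) : FixVals S d u := by
  intro v hv
  by_cases h0 : Commute v c
  · exact h v hv (Or.inl h0)
  have hS := N.big.mem
  obtain ⟨hud, -, hush⟩ := N.trl_spec hGood hBend hd hu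
  have huS := N.trl_le hu
  obtain ⟨b₁, b₂, w₁, w₂, h12⟩ := hS.exists_wit_pair hGood hBend N.big.conn N.big.linked hv.1.1 hc.1.1 h0
  obtain ⟨z, wz, hzd⟩ : ∃ z, Wit S v c z ∧ ¬ Commute z d := by
    by_contra hno
    push Not at hno
    have k1 := N.u1 hGood hBend hv.1.1 hc.1.1 h0 hd w₁.hb hv.1.2.symm hc.1.2.symm w₁.hba w₁.hbx (hno b₁ w₁).symm
    exact h12 (commute_of_cls k1 w₂.hb (hno b₂ w₂)).symm
  have hdz : ¬ Commute d z := fun e => hzd e.symm
  obtain ⟨c1, hc1, hc1z, hc1c'⟩ := N.u2 hGood hBend hd wz.hb hdz hc'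
  have hcc1 : ¬ Commute c c1 := fun e => hcc (N.trans_rest hGood hBend hd hc hc1 hc' e hc1c')
  set z2 := u * z * u⁻¹
  have hz2S : z2 ∈ S := hS.conj_mem_closure huS wz.hb
  have hdz2 : ¬ Commute d z2 := fun e => hdz (by
    refine (Commute.conj_iff u).mp ?_
    rw [hud]; exact e)
  have hfixed : ∀ p ∈ rest S d, Commute p z → act u (cls S p) = cls S p → Commute p z2 := by
    intro p hp hpz hfp
    exact (commute_of_cls (mem_cls_symm hp.1.1 (mem_of_act_eq hp.1.1 hfp)) hz2S
      ((Commute.conj_iff u).mpr hpz.symm)).symm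
  have w1 : Wit S d z c := ⟨hd, wz.hb, hc.1.1, hdz, hc.1.2, wz.hbx.symm⟩
  have w2 : Wit S d z c1 := ⟨hd, wz.hb, hc1.1.1, hdz, hc1.1.2, hc1z⟩
  have hvz2 : Commute v z2 := N.u3 hGood hBend w1 w2 hcc1 hz2S
    (hfixed c hc wz.hbx.symm (h c hc (Or.inl (Commute.refl c))))
    (hfixed c1 hc1 hc1z (h c1 hc1 (Or.inr hc1c'))) ⟨hd, wz.hb, hv.1.1, hdz, hv.1.2, wz.hba.symm⟩
  have h1 := N.rest_map huS hud hv
  rw [act_cls hS huS]
  exact cls_eq_of_mem (N.u1 hGood hBend hd hz2S hdz2 hv.1.1 h1.1.1 hv.1.2 hvz2 h1.1.2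
    ((Commute.conj_iff u).mpr wz.hba.symm) (hush v hv).symm)

/-- Translations of another line move a class along a line. -/
theorem mover {d : G} (hd : d ∈ S) {c w v : G} (hc : c ∈ rest S d) (hw : w ∈ rest S d) (hv : v ∈ rest S d)
    (hwc : ¬ Commute w c) (hvw : Commute v w) : ∃ a, GenAt S d c a ∧ act a (cls S w) = cls S v := by
  by_cases hcl : v ∈ cls S w
  · exact ⟨1, ⟨hc, one_mem _, one_mul 1, fun e _ => Commute.one_left e, fun y _ => by simp,
      fun y _ _ => Commute.one_left y⟩, by rw [act_one, cls_eq_of_mem hcl]⟩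
  have hS := N.big.mem
  obtain ⟨b₁, b₂, w₁, w₂, h12⟩ := hS.exists_wit_pair hGood hBend N.big.conn N.big.linked hw.1.1 hc.1.1 hwc
  obtain ⟨x, wx, hxd⟩ : ∃ x, Wit S w c x ∧ ¬ Commute x d := by
    by_contra hno
    push Not at hno
    have k1 := N.u1 hGood hBend hw.1.1 hc.1.1 hwc hd w₁.hb hw.1.2.symm hc.1.2.symm w₁.hba w₁.hbx (hno b₁ w₁).symm
    exact h12 (commute_of_cls k1 w₂.hb (hno b₂ w₂)).symm
  have hdx : ¬ Commute d x := fun e => hxd e.symm
  have hvc : ¬ Commute v c := fun e => hwc (N.trans_rest hGood hBend hd hw hv hc hvw.symm e)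
  have hxv : ¬ Commute x v := fun e => hcl
    (N.u1 hGood hBend hd wx.hb hdx hw.1.1 hv.1.1 hw.1.2 wx.hba.symm hv.1.2 e.symm hvw.symm)
  have hcx : c ∈ rest S x := ⟨⟨hc.1.1, wx.hbx.symm⟩, fun h => hdx ((commute_iff_of_cls h hd).mp hc.1.2.symm)⟩
  obtain ⟨z', hz', hz'v, hz'c⟩ := N.u2 hGood hBend wx.hb hv.1.1 hxv hcx
  have hz'd : ¬ Commute z' d := fun e => hvc (commute_of_cls
    (mem_cls_symm hc.1.1 (N.u1 hGood hBend hd wx.hb hdx hc.1.1 hz'.1.1 hc.1.2 wx.hbx.symm e hz'.1.2 hz'c.symm))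
    hv.1.1 hz'v.symm)
  obtain ⟨a, ha, ha2, hacl, hash, haax, hax⟩ := N.edge hGood hBend hd wx.hb hz'.1.1 hdx
    (fun e => hz'd e.symm) hz'.1.2.symm ⟨hd, wx.hb, hc.1.1, hdx, hc.1.2, wx.hbx.symm⟩ hz'c.symm
  have G1 : GenAt S d c a := ⟨hc, ha, ha2, hacl, hash, haax⟩
  refine ⟨a, G1, ?_⟩
  have had := N.fix_d hd hacl
  have h1 := N.rest_map ha had hw
  rw [act_cls hS ha]
  refine cls_eq_of_mem (N.u1 hGood hBend hd hz'.1.1 (fun e => hz'd e.symm) hv.1.1 h1.1.1 hv.1.2 hz'v.symm h1.1.2
    ?_ (N.trans_rest hGood hBend hd h1 hw hv (hash w hw) hvw.symm).symm)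
  exact (commute_of_cls (mem_cls_symm hz'.1.1 hax) h1.1.1 ((Commute.conj_iff a).mpr wx.hba.symm))

omit hGood hBend in
theorem genAt_fix {d c a : G} (h : GenAt S d c a) {y : G} (hy : y ∈ rest S d) (hyc : Commute y c) :
    act a (cls S y) = cls S y := by
  rw [act_cls N.big.mem h.mem, (h.axis y hy hyc).eq, mul_inv_cancel_right]

omit hGood hBend in
theorem genAt_act {d c a : G} (hd : d ∈ S) (h : GenAt S d c a) {y : G} (hy : y ∈ rest S d) :
    a * y * a⁻¹ ∈ rest S d ∧ act a (cls S y) = cls S (a * y * a⁻¹) :=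
  ⟨N.rest_map h.mem (N.fix_d hd h.cls_comm) hy, act_cls N.big.mem h.mem y⟩

/-- Translations of two lines commute on classes. -/
theorem gen_comm_ne {d c c' a a' : G} (hd : d ∈ S) (h : GenAt S d c a) (h' : GenAt S d c' a')
    (hcc : ¬ Commute c c') {y : G} (hy : y ∈ rest S d) :
    act a (act a' (cls S y)) = act a' (act a (cls S y)) := by
  have hmem : ∀ {p q}, GenAt S d p q → q ∈ trl S d := fun {p q} hq => subset_closure ⟨p, hq⟩
  set u := a * a' * a * a'
  have hu : u ∈ trl S d := mul_mem (mul_mem (mul_mem (hmem h) (hmem h')) (hmem h)) (hmem h')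
  have hinv : ∀ {p q}, GenAt S d p q → ∀ Y, act q (act q Y) = Y := fun {p q} hq Y => by
    rw [← act_mul, hq.sq, act_one]
  have hf : FixVals S d u := by
    refine N.fix_of_two hGood hBend hd hu h.line h'.line hcc fun z hz hzc => ?_
    simp only [u, act_mul]
    rcases hzc with hzc | hzc
    · obtain ⟨h1, h2⟩ := N.genAt_act hd h' hz
      rw [h2, N.genAt_fix h h1 (N.trans_rest hGood hBend hd h1 hz h.line (h'.shift z hz) hzc), ← h2, hinv h',
        N.genAt_fix h hz hzc]
    · obtain ⟨h1, h2⟩ := N.genAt_act hd h hz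
      rw [N.genAt_fix h' hz hzc, h2,
        N.genAt_fix h' h1 (N.trans_rest hGood hBend hd h1 hz h'.line (h.shift z hz) hzc), ← h2, hinv h]
  have h2 := hf y hy
  simp only [u, act_mul] at h2
  have h3 := congrArg (fun Y => act a' (act a Y)) h2
  simp only [hinv h, hinv h'] at h3
  exact h3

/-- The translations commute on classes. -/
theorem gen_comm {d c c' a a' : G} (hd : d ∈ S) (h : GenAt S d c a) (h' : GenAt S d c' a') {v : G}
    (hv : v ∈ rest S d) : act a (act a' (cls S v)) = act a' (act a (cls S v)) := by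
  by_cases hcc : ¬ Commute c c'
  · exact N.gen_comm_ne hGood hBend hd h h' hcc hv
  push Not at hcc
  by_cases hvc : Commute v c
  · rw [N.genAt_fix h hv hvc, N.genAt_fix h' hv (N.trans_rest hGood hBend hd hv h.line h'.line hvc hcc),
      N.genAt_fix h hv hvc]
  obtain ⟨s, hs, hsc, hsv, -⟩ := N.exists_fourth hGood hBend hd h.line hv hv
  obtain ⟨t, ht, htc, htv, hts⟩ := N.exists_fourth hGood hBend hd h.line hv hs
  obtain ⟨ha1, ha1'⟩ := N.genAt_act hd h hv
  obtain ⟨a'', h'', ha''⟩ := N.mover hGood hBend hd hs hv ha1 (fun e => hsv e.symm) (h.shift v hv)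
  have hline : ∀ y ∈ rest S d, Commute y v → act a (cls S y) = act a'' (cls S y) := by
    intro y hy hyv
    obtain ⟨a3, h3, ha3⟩ := N.mover hGood hBend hd ht hv hy (fun e => htv e.symm) hyv
    rw [← ha3, N.gen_comm_ne hGood hBend hd h h3 (fun e => htc e.symm) hv, ha1', ← ha'',
      ← N.gen_comm_ne hGood hBend hd h'' h3 (fun e => hts e.symm) hv]
  obtain ⟨hb1, hb1'⟩ := N.genAt_act hd h' hv
  rw [hb1', hline _ hb1 (h'.shift v hv), ← hb1', hline v hv (Commute.refl v)]
  exact N.gen_comm_ne hGood hBend hd h'' h'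
    (fun e => hsc (N.trans_rest hGood hBend hd hs h'.line h.line e hcc.symm)) hv

/-- The group of translations acts on classes as an abelian group. -/
theorem trl_comm {d : G} (hd : d ∈ S) {u u' : G} (hu : u ∈ trl S d) (hu' : u' ∈ trl S d) {v : G}
    (hv : v ∈ rest S d) : act u (act u' (cls S v)) = act u' (act u (cls S v)) := by
  have hmap : ∀ {q : G}, q ∈ trl S d → ∀ {y : G}, y ∈ rest S d →
      ∃ y' ∈ rest S d, act q (cls S y) = cls S y' := fun {q} hq {y} hy =>
    ⟨_, N.rest_map (N.trl_le hq) (N.trl_spec hGood hBend hd hq).1 hy, act_cls N.big.mem (N.trl_le hq) y⟩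
  have key : ∀ {c a : G}, GenAt S d c a → ∀ u ∈ trl S d, ∀ v ∈ rest S d,
      act u (act a (cls S v)) = act a (act u (cls S v)) := by
    intro c a ha u hu
    rw [trl] at hu
    induction hu using closure_induction with
    | mem p hp =>
      obtain ⟨c', hp⟩ := hp
      exact fun v hv => N.gen_comm hGood hBend hd hp ha hv
    | one => intro v _; simp only [act_one]
    | mul p q hp hq ihp ihq =>
      intro v hv
      obtain ⟨y, hy, hqv⟩ := hmap hq hv
      rw [act_mul, act_mul, ihq v hv, hqv, ihp y hy]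
    | inv p hp ihp =>
      intro v hv
      obtain ⟨y, hy, hpv⟩ := hmap (inv_mem hp) hv
      have h1 := ihp y hy
      rw [← hpv, act_act_inv] at h1
      rw [← h1, act_inv_act]
  revert v
  rw [trl] at hu'
  induction hu' using closure_induction with
  | mem a ha =>
    obtain ⟨c, ha⟩ := ha
    exact fun {v} hv => key ha u hu v hv
  | one => intro v _; simp only [act_one]
  | mul p q hp hq ihp ihq =>
    intro v hv
    obtain ⟨y, hy, hqv⟩ := hmap hq hv
    obtain ⟨y', hy', huv⟩ := hmap hu hv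
    rw [act_mul, act_mul, hqv, ihp hy, ← hqv, ihq hv]
  | inv p hp ihp =>
    intro v hv
    obtain ⟨y, hy, hpv⟩ := hmap (inv_mem hp) hv
    have h1 := ihp hy
    rw [← hpv, act_act_inv] at h1
    rw [h1, act_inv_act]

/-- The group of translations acts on classes with exponent two. -/
theorem trl_sq {d : G} (hd : d ∈ S) {u : G} (hu : u ∈ trl S d) {v : G} (hv : v ∈ rest S d) :
    act u (act u (cls S v)) = cls S v := by
  have hmap : ∀ {q : G}, q ∈ trl S d → ∀ {y : G}, y ∈ rest S d →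
      ∃ y' ∈ rest S d, act q (cls S y) = cls S y' := fun {q} hq {y} hy =>
    ⟨_, N.rest_map (N.trl_le hq) (N.trl_spec hGood hBend hd hq).1 hy, act_cls N.big.mem (N.trl_le hq) y⟩
  rw [trl] at hu
  induction hu using closure_induction generalizing v with
  | mem a ha =>
    obtain ⟨c, ha⟩ := ha
    rw [← act_mul, ha.sq, act_one]
  | one => simp only [act_one]
  | mul p q hp hq ihp ihq =>
    obtain ⟨y, hy, hqv⟩ := hmap hq hv
    simp only [act_mul]
    rw [hqv, ← N.trl_comm hGood hBend hd hp hq hy, ← hqv, ihq hv, ihp hv]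
  | inv p hp ihp =>
    have h1 := congrArg (fun Y => act p⁻¹ (act p⁻¹ Y)) (ihp hv)
    simp only [act_inv_act] at h1
    exact h1.symm

/-- A translation carrying a member to one with the same common neighbours fixes every class. -/
theorem fix_of_point {d : G} (hd : d ∈ S) {u : G} (hu : u ∈ trl S d) {x x' : G} (hx : x ∈ S)
    (hdx : ¬ Commute d x) (hux : u * x * u⁻¹ ∈ cls S x') (hx' : ∀ w, Wit S d x w → Commute w x') :
    FixVals S d u := by
  intro v hv
  have hS := N.big.mem
  obtain ⟨hud, -, hush⟩ := N.trl_spec hGood hBend hd hu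
  have huS := N.trl_le hu
  obtain ⟨w, hw, hwx, hwv⟩ := N.u2 hGood hBend hd hx hdx hv
  obtain ⟨c, hc, hcw, -, -⟩ := N.exists_fourth hGood hBend hd hw hw hw
  obtain ⟨a, ha, hav⟩ := N.mover hGood hBend hd hc hw hv (fun e => hcw e.symm) hwv.symm
  have h1 := N.rest_map huS hud hw
  have hdx2 : ¬ Commute d (u * x * u⁻¹) := fun e => hdx (by
    refine (Commute.conj_iff u).mp ?_
    rw [hud]; exact e)
  have hfw : act u (cls S w) = cls S w := by
    rw [act_cls hS huS]
    exact cls_eq_of_mem (N.u1 hGood hBend hd (hS.conj_mem_closure huS hx) hdx2 hw.1.1 h1.1.1 hw.1.2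
      (commute_of_cls hux hw.1.1 (hx' w ⟨hd, hx, hw.1.1, hdx, hw.1.2, hwx⟩)) h1.1.2
      ((Commute.conj_iff u).mpr hwx) (hush w hw).symm)
  rw [← hav, N.trl_comm hGood hBend hd hu (subset_closure ⟨c, ha⟩) hw, hfw]

end Net

end Cfsg.Agent.H76.OddT
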