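import Cfsg.Agent.H76.OddT.Main

/-!
An element of the group of a class fixing one point fixes every value; with trivial 2-core the class and 1
form a group.
-/

set_option autoImplicit false
set_option linter.style.haveILetI false

namespace Cfsg.Agent.H76.OddT

open Subgroup MulAction

universe u

variable {G : Type u} [Group G] [Finite G] {S : Set G}

omit [Finite G] in
theorem commute_clsGroup {d u y : G} (hu : u ∈ closure (cls S d)) (hy : y ∈ S) (h : Commute y d) :
    Commute u y := by
  induction hu using closure_induction with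
  | mem e he => exact (commute_of_cls he hy h).symm
  | one => exact Commute.one_left y
  | mul p q _ _ hp hq => exact hp.mul_left hq
  | inv p _ hp => exact hp.inv_left

omit [Finite G] in
theorem clsGroup_sq (hS : Mem S) {d u : G} (hd : d ∈ S) (hu : u ∈ closure (cls S d)) :
    u * u = 1 ∧ ∀ e ∈ cls S d, Commute u e := by
  induction hu using closure_induction with
  | mem e he => exact ⟨hS.sq e he.1, fun e' he' => commute_of_cls he' he.1 (commute_of_cls he hd (Commute.refl d)).symm⟩
  | one => exact ⟨one_mul 1, fun e _ => Commute.one_left e⟩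
  | mul p q hp hq ihp ihq =>
    have hpq : Commute p q := by
      clear ihq
      induction hq using closure_induction with
      | mem e he => exact ihp.2 e he
      | one => exact Commute.one_right p
      | mul a b _ _ ha hb => exact ha.mul_right hb
      | inv a _ ha => exact ha.inv_right
    exact ⟨by rw [mul_assoc, ← mul_assoc q, ← hpq.eq, mul_assoc p q, ihq.1, mul_one, ihp.1],
      fun e he => (ihp.2 e he).mul_left (ihq.2 e he)⟩
  | inv p _ ihp => exact ⟨by rw [← mul_inv_rev, ihp.1, inv_one], fun e he => (ihp.2 e he).inv_left⟩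

variable (hGood : H3.RootInv.GoodHyp.{u}) (hBend : PostBender.BenderHyp.{u})
include hGood hBend

/-- In a flat set an element of the group of a class fixing another point fixes every point. -/
theorem fix_flat (hS : Mem S) (hc : ¬ Linked S) {d x : G} (hd : d ∈ S) (hx : x ∈ S) (hdx : ¬ Commute d x)
    {u : G} (hu : u ∈ closure (cls S d)) (hfix : Commute (u * x * u⁻¹) x) {z : G} (hz : z ∈ S) :
    Commute (u * z * u⁻¹) z := by
  have L := hS.isLine hGood hBend hc
  have hule : closure (cls S d) ≤ closure S := closure_mono fun e he => he.1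
  have hsq : ∀ {s : G} (hs : s ∈ S), proj S (el hs) * proj S (el hs) = 1 := fun {s} hs => by
    rw [← map_mul, show el hs * el hs = 1 from Subtype.ext (hS.sq s hs), map_one]
  obtain ⟨P, hP⟩ := exists_point (hsq hd)
  obtain ⟨R, hR⟩ := exists_point (hsq hx)
  have hId : proj S (el hd) ∈ invols P := ⟨L.ne_one _ hd, hsq hd, hP⟩
  have hIx : proj S (el hx) ∈ invols R := ⟨L.ne_one _ hx, hsq hx, hR⟩
  have hne : R ≠ P := fun e => hdx (congrArg Subtype.val ((L.commute_iff _ hd _ hx).mp
    ((L.pts.commute_iff hId hIx.1 hIx.2.1).mpr (e ▸ hR))).eq)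
  have hmem : ∀ (v : G) (hv : v ∈ closure (cls S d)),
      proj S ⟨v, hule hv⟩ ∈ (P : Subgroup (LQ S)) := by
    intro v hv
    induction hv using closure_induction with
    | mem e he =>
      exact mem_sylow_of_fixes (hsq he.1) ((L.pts.commute_iff hId (L.ne_one _ he.1) (hsq he.1)).mp
        ((L.commute_iff _ hd _ he.1).mpr (Subtype.ext (commute_of_cls he hd (Commute.refl d)).eq)))
    | one => exact one_mem _
    | mul p q hp hq ihp ihq =>
      exact mul_mem (show proj S ⟨p, hule hp⟩ ∈ (P : Subgroup (LQ S)) from ihp) ihq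
    | inv p hp ihp => exact inv_mem (show proj S ⟨p, hule hp⟩ ∈ (P : Subgroup (LQ S)) from ihp)
  set q := proj S ⟨u, hule hu⟩
  have hq1 : q = 1 := by
    refine L.pts.semi hne (hmem u hu) ?_
    have hx' : u * x * u⁻¹ ∈ S := hS.conj_mem_closure (hule hu) hx
    have h1 := invols_conj hIx q
    have h2 : proj S (el hx') = q * proj S (el hx) * q⁻¹ := by
      rw [← map_inv, ← map_mul, ← map_mul]; rfl
    rw [← h2] at h1
    exact L.pts.point_unique hIx ((L.pts.commute_iff h1 hIx.1 hIx.2.1).mp
      ((L.commute_iff _ hx' _ hx).mpr (Subtype.ext hfix.eq)))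
  have hz' : u * z * u⁻¹ ∈ S := hS.conj_mem_closure (hule hu) hz
  have h2 : proj S (el hz') = q * proj S (el hz) * q⁻¹ := by
    rw [← map_inv, ← map_mul, ← map_mul]; rfl
  rw [hq1, one_mul, inv_one, mul_one] at h2
  exact congrArg Subtype.val ((L.commute_iff (el hz') hz' (el hz) hz).mp (h2 ▸ Commute.refl _)).eq

/-- The same in any set. -/
theorem fix_all {G : Type u} [Group G] [Finite G] (S : Set G) (hS : Mem S) {d x : G} (hd : d ∈ S) (hx : x ∈ S)
    (hdx : ¬ Commute d x) {u : G} (hu : u ∈ closure (cls S d)) (hfix : Commute (u * x * u⁻¹) x) {z : G}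
    (hz : z ∈ S) : Commute (u * z * u⁻¹) z := by
  suffices H : ∀ (n : ℕ) (S : Set G), S.ncard = n → Mem S → ∀ d ∈ S, ∀ x ∈ S, ¬ Commute d x →
      ∀ u ∈ closure (cls S d), Commute (u * x * u⁻¹) x → ∀ z ∈ S, Commute (u * z * u⁻¹) z from
    H _ S rfl hS d hd x hx hdx u hu hfix z hz
  clear! S d x u z
  intro n
  induction n using Nat.strong_induction_on with
  | _ n ih =>
    intro S hn hS d hd x hx hdx u hu hfix z hz
    by_cases hdz : Commute d z
    · rw [(commute_clsGroup hu hz hdz.symm).eq, mul_inv_cancel_right]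
    by_cases hconn : Conn S
    swap
    · set M := OddT.comp S d
      have hM : Mem M := hS.comp hd hx hdx
      have hlt : M.ncard < S.ncard := Set.ncard_lt_ncard ⟨fun s hs => hs.1, fun hsub => hconn fun s hs t ht =>
        reach_trans (reach_symm (hsub hs).2) (hsub ht).2⟩ S.toFinite
      have hsub : cls S d ⊆ cls M d := fun e he => by
        refine ⟨⟨he.1, reach_trans (reach_of_not_commute hd hx hdx)
          (reach_of_not_commute hx he.1 fun h => hdx ((commute_iff_of_cls he hx).mp h).symm)⟩, Set.ext fun y => ?_⟩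
        exact ⟨fun h => ⟨h.1, (commute_iff_of_cls he h.1.1).mp h.2⟩, fun h => ⟨h.1, (commute_iff_of_cls he h.1.1).mpr h.2⟩⟩
      exact ih _ (hn ▸ hlt) M rfl hM d ⟨hd, Relation.ReflTransGen.refl⟩ x ⟨hx, reach_of_not_commute hd hx hdx⟩
        hdx u (closure_mono hsub hu) hfix z ⟨hz, reach_of_not_commute hd hz hdz⟩
    by_cases hl : Linked S
    swap
    · exact fix_flat hGood hBend hS hl hd hx hdx hu hfix hz
    have hB : Below S := fun S' hS' _ => pr_and_cn hGood hBend S' hS'
    have hcomp : ∀ v ∈ S, OddT.comp S v = S := fun v hv =>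
      Set.ext fun s => ⟨fun h => h.1, fun h => ⟨h, hconn v hv s h⟩⟩
    have wit : ∀ y ∈ S, ¬ Commute d y → ∃ b, Wit S d y b := fun y hy hdy => by
      obtain ⟨b, hb, hbd, hby⟩ := cn_of_conn hGood hBend hS hconn hB d hd y hy hdy ((hcomp d hd).symm ▸ hl)
      exact ⟨b, hd, hy, hb.1, hdy, hbd, hby⟩
    -- a common neighbour passes the property on
    have step : ∀ {y b : G}, Wit S d y b → Commute (u * y * u⁻¹) y →
        ∀ z ∈ Cent S b, Commute (u * z * u⁻¹) z := by
      intro y b w hy z hz
      have hsub : cls S d ⊆ cls (Cent S b) d := fun e he => by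
        refine ⟨⟨he.1, (commute_of_cls he w.hb w.hba).symm⟩, Set.ext fun y' => ?_⟩
        exact ⟨fun h => ⟨h.1, (commute_iff_of_cls he h.1.1).mp h.2⟩, fun h => ⟨h.1, (commute_iff_of_cls he h.1.1).mpr h.2⟩⟩
      exact ih _ (hn ▸ w.cent_lt hS hconn) _ rfl (hS.cent w.hb) d ⟨hd, w.hba.symm⟩ y ⟨w.hx, w.hbx.symm⟩ w.hax u
        (closure_mono hsub hu) hy z hz
    obtain ⟨b0, w0⟩ := wit x hx hdx
    obtain ⟨b1, w1⟩ := wit z hz hdz
    set T := Cent S d
    let good : G → Prop := fun b => ∀ z ∈ Cent S b, Commute (u * z * u⁻¹) z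
    have hg0 : good b0 := step w0 hfix
    -- to a noncommuting one
    have hadj : ∀ {b b' : G}, good b → b ∈ T → b' ∈ T → ¬ Commute b b' → good b' := by
      intro b b' hg hb hb' hbb'
      obtain ⟨y, wy, hyd⟩ :=
        (⟨hb.1, hb'.1, hd, hbb', hb.2.symm, hb'.2.symm⟩ : Wit S b b' d).second hGood hBend hS hconn hB
      exact step ⟨hd, wy.hb, hb'.1, fun e => hyd e.symm, hb'.2, wy.hbx.symm⟩ (hg y ⟨wy.hb, wy.hba⟩)
    have hreach : ∀ {b b' : G}, good b → b ∈ T → Reach T b b' → good b' := by
      intro b b' hg hb hr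
      induction hr with
      | refl => exact hg
      | tail _ hcd ih => exact hadj ih hcd.1 hcd.2.1 hcd.2.2
    have hb0 : b0 ∈ T := ⟨w0.hb, w0.hba⟩
    have hb1 : b1 ∈ T := ⟨w1.hb, w1.hba⟩
    have hg1 : good b1 := by
      by_cases hr : Reach T b0 b1
      · exact hreach hg0 hb0 hr
      obtain ⟨n1, hn1, hbn1⟩ := w1.le_of_ncard hS hconn
      have hb01 : Commute b0 b1 := commute_of_not_reach hb0 hb1 hr
      have hn10 : Commute b0 n1 := commute_of_not_reach hb0 hn1 fun h =>
        hr (reach_trans h (reach_of_not_commute hn1 hb1 fun e => hbn1 e.symm))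
      obtain ⟨y, hy, hyb, hyd⟩ : ∃ y ∈ Cent S b0, Commute y b1 ∧ ¬ Commute y d := by
        by_contra hno
        push Not at hno
        have heq := (hS.cent w0.hb).cent_eq_of_subset (b := b1) (w := d) ⟨hd, w0.hba.symm⟩
          ⟨x, ⟨hx, w0.hbx.symm⟩, hdx⟩ ⟨w1.hb, hb01.symm⟩ hno
        exact hbn1 ((heq.symm ▸ (⟨⟨hn1.1, hn10.symm⟩, hn1.2⟩ : n1 ∈ Cent (Cent S b0) d)) :
          n1 ∈ Cent (Cent S b0) b1).2.symm
      exact step ⟨hd, hy.1, w1.hb, fun e => hyd e.symm, w1.hba, hyb.symm⟩ (hg0 y hy)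
    exact hg1 z ⟨hz, w1.hbx.symm⟩

/-- An element of the group of a class fixing another point lies in the 2-core's centre modulo. -/
theorem eq_one_of_fix (hS : Mem S) (hconn : Conn S) (hl : Linked S) (hcore : core S = ⊥) {d x : G} (hd : d ∈ S)
    (hx : x ∈ S) (hdx : ¬ Commute d x) {u : G} (hu : u ∈ closure (cls S d))
    (hfix : Commute (u * x * u⁻¹) x) : u = 1 := by
  haveI : Fact (Nat.Prime 2) := ⟨Nat.prime_two⟩
  have hB : Below S := fun S' hS' _ => pr_and_cn hGood hBend S' hS'
  have hucl : u ∈ closure S := closure_mono (fun e he => he.1) hu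
  have huS : ∀ t ∈ S, u * t * u⁻¹ ∈ S := fun t ht => hS.conj_mem_closure hucl ht
  have hval : ∀ w ∈ S, Cent S (u * w * u⁻¹) = Cent S w := by
    intro w hw
    by_cases hdw : Commute d w
    · rw [(commute_clsGroup hu hw hdw.symm).eq, mul_inv_cancel_right]
    have hcomp : OddT.comp S w = S := Set.ext fun s => ⟨fun h => h.1, fun h => ⟨h, hconn w hw s h⟩⟩
    obtain ⟨b, hb, hbw, hbd⟩ := cn_of_conn hGood hBend hS hconn hB w hw d hd (fun e => hdw e.symm)
      (hcomp.symm ▸ hl)
    have wb : Wit S w d b := ⟨hw, hd, hb.1, fun e => hdw e.symm, hbw, hbd⟩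
    obtain ⟨b2, wb2, hb2⟩ := wb.second hGood hBend hS hconn hB
    obtain ⟨f, hf, hfg, hfw⟩ := hS.exists_mid hw hd fun e => hdw e.symm
    have hfgen : f ∈ gen S w d := closure_mono (by
      rintro y (rfl | rfl)
      · exact Or.inl (self_mem_cls hw)
      · exact Or.inr rfl) hfg
    have hle : closure (cls S d) ≤ gen S w d := (closure_le _).mpr fun e he => by
      have h1 := hS.cls_conj (subset_closure hf) he
      rw [hS.inv_eq hf, show f * d * f = w by rw [← hfw, mul_assoc f w, hS.self_mul hf, mul_assoc, hS.sq f hf, mul_one]] at h1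
      have h2 : f * (f * e * f) * f ∈ gen S w d :=
        mul_mem (mul_mem hfgen (subset_closure (Or.inl h1))) hfgen
      rwa [mul_assoc f e f, hS.self_mul hf, mul_assoc, hS.sq f hf, mul_one] at h2
    have hm := wb.full hS hconn hB wb2 (fun e => hb2 e.symm)
      (orb_conj (hle hu) (cls_subset_orb (self_mem_cls hw))) (fix_all hGood hBend S hS hd hx hdx hu hfix hw)
    exact hm.2
  have hcomm : ∀ w ∈ S, Commute u w := by
    intro w hw
    have h := hS.cong_of_fix_values huS hval hw
    rw [Cong, hcore, mem_bot] at h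
    have h2 := eq_inv_of_mul_eq_one_right h
    rw [hS.inv_eq hw, mul_inv_eq_iff_eq_mul] at h2
    exact h2
  rw [← mem_bot, ← hcore]
  refine le_core (P := zpowers u) ?_ (zpowers_le.mpr hucl) ?_ (mem_zpowers u)
  · rintro ⟨y, hy⟩
    obtain ⟨m, rfl⟩ := mem_zpowers_iff.mp hy
    refine ⟨1, Subtype.ext ?_⟩
    show (u ^ m) ^ 2 ^ 1 = 1
    rw [pow_one, ← zpow_natCast, ← zpow_mul, mul_comm, zpow_mul, zpow_natCast, pow_two, (clsGroup_sq hS hd hu).1,
      one_zpow]
  · intro g hg y hy
    have hcg : closure S ≤ centralizer {u} := (closure_le _).mpr fun w hw =>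
      mem_centralizer_singleton_iff.mpr (hcomm w hw).eq.symm
    obtain ⟨m, rfl⟩ := mem_zpowers_iff.mp hy
    have hc : Commute g u := mem_centralizer_singleton_iff.mp (hcg hg)
    rw [(hc.zpow_right m).eq, mul_inv_cancel_right]
    exact hy

end Cfsg.Agent.H76.OddT
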